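import Mathlib
import Groth.Prelude.Def_AlgSt3
import Groth.Agent.Lib.Helper3.TwoCart
import Groth.Agent.Lib.Helper3.StackPsh
import Groth.Agent.Lib.Helper3.StkAux

/-!
# Presheaves and their categories of elements (helper3)

Bridging lemmas between maps of presheaves and based functors between the categories
`Stk.ofPsh P`.
-/

set_option autoImplicit false
universe w v₂ u₂ v u
open CategoryTheory CategoryTheory.Functor CategoryTheory.Limits Opposite

namespace Groth.Agent.H3.PshBridge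

open Groth.Agent.H3.FibCatAux Groth.Agent.H3.GerbAux Groth.Agent.H3.FpCalc Groth.Agent.H3.TwoCart
  Groth.Agent.H3.StackPsh

variable {C : Type u} [Category.{v} C]

section Elt

variable {P Q R : Cᵒᵖ ⥤ Type w}

/-- the section of an object of `ofPsh P` transported to a prescribed base -/
def secAt (a : Stk.EltObj P) {T : C} (h : a.base = T) : P.obj (op T) :=
  P.map (eqToHom h.symm).op a.sec

@[simp] lemma secAt_rfl (a : Stk.EltObj P) : secAt a rfl = a.sec := by
  simp [secAt]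

lemma secAt_mk (T : C) (x : P.obj (op T)) : secAt (⟨T, x⟩ : Stk.EltObj P) rfl = x := by
  simp [secAt]

/-- an object of `ofPsh P` is determined by its base and transported section -/
lemma elt_ext {a b : Stk.EltObj P} (h : a.base = b.base) (hs : secAt a h = b.sec) : a = b := by
  obtain ⟨T, x⟩ := a
  obtain ⟨T', y⟩ := b
  dsimp at h
  subst h
  simp only [secAt_rfl] at hs
  subst hs
  rfl

/-- a morphism over an identity between objects of `ofPsh P` forces equal sections -/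
lemma secAt_eq_of_hom {a b : Stk.EltObj P} (φ : a ⟶ b) {T : C}
    [h : (Stk.EltObj.forget P).IsHomLift (𝟙 T) φ] :
    secAt a (IsHomLift.domain_eq (Stk.EltObj.forget P) (𝟙 T) φ) =
      secAt b (IsHomLift.codomain_eq (Stk.EltObj.forget P) (𝟙 T) φ) := by
  have h1 := IsHomLift.domain_eq (Stk.EltObj.forget P) (𝟙 T) φ
  have h2 := IsHomLift.codomain_eq (Stk.EltObj.forget P) (𝟙 T) φ
  obtain ⟨Ta, x⟩ := a
  obtain ⟨Tb, y⟩ := b
  change Ta = T at h1
  change Tb = T at h2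
  subst h1
  subst h2
  have h3 : φ.hom = 𝟙 _ := elt_hom_eq_rfl P (a := ⟨_, x⟩) (b := ⟨_, y⟩) (𝟙 _) φ
  have h4 := φ.map_sec
  rw [h3] at h4
  simp only [secAt_rfl]
  simpa using h4.symm

/-- a morphism of `ofPsh P` transports sections -/
lemma secAt_map_of_hom {a b : Stk.EltObj P} (φ : a ⟶ b) {T T' : C} (f : T ⟶ T')
    [h : (Stk.EltObj.forget P).IsHomLift f φ] :
    P.map f.op (secAt b (IsHomLift.codomain_eq (Stk.EltObj.forget P) f φ)) =
      secAt a (IsHomLift.domain_eq (Stk.EltObj.forget P) f φ) := by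
  have h1 := IsHomLift.domain_eq (Stk.EltObj.forget P) f φ
  have h2 := IsHomLift.codomain_eq (Stk.EltObj.forget P) f φ
  obtain ⟨Ta, x⟩ := a
  obtain ⟨Tb, y⟩ := b
  change Ta = T at h1
  change Tb = T' at h2
  subst h1
  subst h2
  have h3 : φ.hom = f := elt_hom_eq_rfl P (a := ⟨_, x⟩) (b := ⟨_, y⟩) f φ
  have h4 := φ.map_sec
  rw [h3] at h4
  simpa using h4

/-- the canonical isomorphism between two objects with the same base and section -/
def eltIso {a b : Stk.EltObj P} (h : a.base = b.base) (hs : secAt a h = b.sec) : a ≅ b :=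
  eqToIso (elt_ext h hs)

lemma eltIso_isHomLift {a b : Stk.EltObj P} (h : a.base = b.base) (hs : secAt a h = b.sec) :
    (Stk.EltObj.forget P).IsHomLift (𝟙 a.base) (eltIso h hs).hom := by
  have := elt_ext h hs
  subst this
  simp only [eltIso, eqToIso_refl, Iso.refl_hom]
  exact IsHomLift.id rfl

end Elt

section PshMapOf

variable {P Q R : Cᵒᵖ ⥤ Type w}

lemma base_obj (e : Stk.ofPsh P ⥤ᵇ Stk.ofPsh Q) (a : Stk.EltObj P) : (e.obj a).base = a.base :=
  e.w_obj a

/-- the map of presheaves determined by a functor over the base -/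
def pshMapOf (e : Stk.ofPsh P ⥤ᵇ Stk.ofPsh Q) : P ⟶ Q where
  app T := ↾fun x => secAt (e.obj ⟨T.unop, x⟩) (base_obj e ⟨T.unop, x⟩)
  naturality T T' g := by
    ext x
    let ψ : (⟨T'.unop, P.map g x⟩ : Stk.EltObj P) ⟶ ⟨T.unop, x⟩ := ⟨g.unop, rfl⟩
    have hψ : (Stk.EltObj.forget P).IsHomLift g.unop ψ := elt_isHomLift P ψ
    have h2 : (Stk.EltObj.forget Q).IsHomLift g.unop (e.map ψ) :=
      BasedFunctor.preserves_isHomLift e g.unop ψ
    exact (secAt_map_of_hom (e.map ψ) g.unop).symm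

lemma pshMapOf_app (e : Stk.ofPsh P ⥤ᵇ Stk.ofPsh Q) (T : C) (x : P.obj (op T)) :
    (pshMapOf e).app (op T) x = secAt (e.obj ⟨T, x⟩) (base_obj e ⟨T, x⟩) := rfl

lemma pshMapOf_ofPshMap (φ : P ⟶ Q) : pshMapOf (Stk.ofPshMap φ) = φ := by
  ext T x
  induction T using Opposite.rec with | _ T => ?_
  exact secAt_rfl _

/-- `pshMapOf` only depends on the functor up to pointwise morphisms over identities -/
lemma pshMapOf_eq_of_pointwise {e e' : Stk.ofPsh P ⥤ᵇ Stk.ofPsh Q}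
    (h : ∀ a : Stk.EltObj P, ∃ i : e.obj a ⟶ e'.obj a,
      (Stk.EltObj.forget Q).IsHomLift (𝟙 a.base) i) : pshMapOf e = pshMapOf e' := by
  ext T x
  induction T using Opposite.rec with | _ T => ?_
  obtain ⟨i, hi⟩ := h ⟨T, x⟩
  exact secAt_eq_of_hom (T := T) i

lemma pshMapOf_eq_of_iso {e e' : Stk.ofPsh P ⥤ᵇ Stk.ofPsh Q} (α : e ≅ e') :
    pshMapOf e = pshMapOf e' :=
  pshMapOf_eq_of_pointwise (fun a => ⟨(appIso α a).hom, appIso_hom_isHomLift α a rfl⟩)

/-- every functor over the base between categories of elements is pointwise `ofPshMap` -/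
lemma obj_eq_ofPshMap (e : Stk.ofPsh P ⥤ᵇ Stk.ofPsh Q) (a : Stk.EltObj P) :
    e.obj a = (Stk.ofPshMap (pshMapOf e)).obj a := by
  obtain ⟨T, x⟩ := a
  exact elt_ext (base_obj e ⟨T, x⟩) rfl

lemma iso_ofPshMap_pshMapOf (e : Stk.ofPsh P ⥤ᵇ Stk.ofPsh Q) :
    Nonempty (e ≅ Stk.ofPshMap (pshMapOf e)) := by
  apply iso_of_fiberwise_iso (Groth.Agent.H3.StkAux.isFibSetoid_ofPsh Q)
  intro a
  refine ⟨eqToIso (obj_eq_ofPshMap e a), ?_⟩
  have h1 : (Stk.ofPsh Q).p.obj (e.obj a) = (Stk.ofPsh P).p.obj a := e.w_obj a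
  have h2 : (Stk.ofPsh Q).p.obj ((Stk.ofPshMap (pshMapOf e)).obj a) = (Stk.ofPsh P).p.obj a := rfl
  rw [eqToIso.hom]
  exact IsHomLift.eqToHom_domain_lift_id (obj_eq_ofPshMap e a) h1

lemma pshMapOf_eq_of_obj_eq {e e' : Stk.ofPsh P ⥤ᵇ Stk.ofPsh Q}
    (h : ∀ a : Stk.EltObj P, e.obj a = e'.obj a) : pshMapOf e = pshMapOf e' :=
  pshMapOf_eq_of_pointwise (fun a => ⟨eqToHom (h a),
    IsHomLift.eqToHom_domain_lift_id (h a) (e.w_obj a)⟩)

lemma ofPshMap_comp (φ : P ⟶ Q) (ψ : Q ⟶ R) :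
    Stk.ofPshMap (φ ≫ ψ) = BasedFunctor.comp (Stk.ofPshMap φ) (Stk.ofPshMap ψ) := rfl

lemma ofPshMap_id : Stk.ofPshMap (𝟙 P) = BasedFunctor.id (Stk.ofPsh P) := rfl

lemma pshMapOf_comp (e : Stk.ofPsh P ⥤ᵇ Stk.ofPsh Q) (e' : Stk.ofPsh Q ⥤ᵇ Stk.ofPsh R) :
    pshMapOf (BasedFunctor.comp e e') = pshMapOf e ≫ pshMapOf e' := by
  rw [← pshMapOf_ofPshMap (pshMapOf e ≫ pshMapOf e')]
  apply pshMapOf_eq_of_obj_eq
  intro a
  show e'.obj (e.obj a) = (Stk.ofPshMap (pshMapOf e')).obj ((Stk.ofPshMap (pshMapOf e)).obj a)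
  rw [obj_eq_ofPshMap e a, obj_eq_ofPshMap e']

lemma pshMapOf_id : pshMapOf (BasedFunctor.id (Stk.ofPsh P)) = 𝟙 P := by
  rw [← ofPshMap_id, pshMapOf_ofPshMap]

theorem isIso_pshMapOf (e : Stk.ofPsh P ⥤ᵇ Stk.ofPsh Q) (he : FibCat.IsEquivOver e) :
    IsIso (pshMapOf e) := by
  obtain ⟨G, ⟨α⟩, ⟨β⟩⟩ := he
  refine ⟨⟨pshMapOf G, ?_, ?_⟩⟩
  · rw [← pshMapOf_comp, pshMapOf_eq_of_iso α, pshMapOf_id]
  · rw [← pshMapOf_comp, pshMapOf_eq_of_iso β, pshMapOf_id]

theorem isEquivOver_ofPshMap (φ : P ⟶ Q) [IsIso φ] : FibCat.IsEquivOver (Stk.ofPshMap φ) := by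
  refine ⟨Stk.ofPshMap (inv φ), ⟨eqToIso ?_⟩, ⟨eqToIso ?_⟩⟩
  · rw [← ofPshMap_comp, IsIso.hom_inv_id, ofPshMap_id]
  · rw [← ofPshMap_comp, IsIso.inv_hom_id, ofPshMap_id]

end PshMapOf

section Pullback

variable {P G H P' : Cᵒᵖ ⥤ Type w} {a : P ⟶ G} {ξ : H ⟶ G} {fst : P' ⟶ P} {snd : P' ⟶ H}

lemma isPullback_app (sq : IsPullback fst snd a ξ) (T : Cᵒᵖ) :
    IsPullback (fst.app T) (snd.app T) (a.app T) (ξ.app T) :=
  sq.map ((evaluation Cᵒᵖ (Type w)).obj T)

lemma psh_pullback_ext (sq : IsPullback fst snd a ξ) (T : Cᵒᵖ) {x y : P'.obj T}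
    (h1 : fst.app T x = fst.app T y) (h2 : snd.app T x = snd.app T y) : x = y :=
  Types.ext_of_isPullback (isPullback_app sq T) h1 h2

lemma psh_pullback_exists (sq : IsPullback fst snd a ξ) (T : Cᵒᵖ) (p : P.obj T) (h : H.obj T)
    (hp : a.app T p = ξ.app T h) : ∃ x : P'.obj T, fst.app T x = p ∧ snd.app T x = h :=
  Types.exists_of_isPullback (isPullback_app sq T) p h hp

lemma comm_app (w : fst ≫ a = snd ≫ ξ) (T : Cᵒᵖ) (x : P'.obj T) :
    a.app T (fst.app T x) = ξ.app T (snd.app T x) := by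
  have := congrArg (fun t => t.app T x) w
  simpa using this

/-- component of the 2-isomorphism filling the square of categories of elements -/
def sqEApp (w : fst ≫ a = snd ≫ ξ) (x : Stk.EltObj P') :
    (Stk.ofPshMap ξ).obj ((Stk.ofPshMap snd).obj x) ≅ (Stk.ofPshMap a).obj ((Stk.ofPshMap fst).obj x) where
  hom := ⟨𝟙 x.base, by
    show G.map (𝟙 x.base).op (a.app _ (fst.app _ x.sec)) = ξ.app _ (snd.app _ x.sec)
    rw [comm_app w]; simp⟩
  inv := ⟨𝟙 x.base, by
    show G.map (𝟙 x.base).op (ξ.app _ (snd.app _ x.sec)) = a.app _ (fst.app _ x.sec)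
    rw [comm_app w]; simp⟩
  hom_inv_id := by apply Stk.EltObj.hom_ext; exact Category.id_comp _
  inv_hom_id := by apply Stk.EltObj.hom_ext; exact Category.id_comp _

/-- the 2-isomorphism filling the square of categories of elements of a commutative square -/
def sqE (w : fst ≫ a = snd ≫ ξ) :
    BasedFunctor.comp (Stk.ofPshMap snd) (Stk.ofPshMap ξ) ≅
      BasedFunctor.comp (Stk.ofPshMap fst) (Stk.ofPshMap a) :=
  BasedNatIso.mkNatIso
    (NatIso.ofComponents (fun x => sqEApp w x) (by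
      intro x y φ
      apply Stk.EltObj.hom_ext
      show φ.hom ≫ 𝟙 _ = 𝟙 _ ≫ φ.hom
      simp))
    (fun x => by
      have : (sqEApp w x).hom.hom = 𝟙 x.base := rfl
      have h := elt_isHomLift G (sqEApp w x).hom
      rw [this] at h
      exact h)

lemma sqE_app_hom (w : fst ≫ a = snd ≫ ξ) (x : Stk.EltObj P') :
    ((sqE w).hom.toNatTrans.app x).hom = 𝟙 x.base := rfl

/-- a pullback square of presheaves gives a 2-cartesian square of categories of elements -/
theorem isTwoCartOver_of_isPullback (sq : IsPullback fst snd a ξ) :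
    FibCat.IsTwoCartOver (Stk.ofPshMap snd) (Stk.ofPshMap fst) (sqE sq.w) := by
  apply isTwoCartOver_of_concrete
  · intro x y φ ψ h1 _
    apply Stk.EltObj.hom_ext
    exact congrArg (fun t => t.hom) h1
  · intro x y α β hαβ
    have hhom : α.hom = β.hom := by
      have := congrArg (fun t => t.hom) hαβ
      simp only [Stk.EltObj.comp_hom] at this
      rw [sqE_app_hom, sqE_app_hom] at this
      have this' : α.hom ≫ 𝟙 _ = 𝟙 _ ≫ β.hom := this
      simpa using this'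
    have hsec : P'.map α.hom.op y.sec = x.sec := by
      apply psh_pullback_ext sq
      · have h1 := β.map_sec
        rw [← hhom] at h1
        have := (NatTrans.naturality_apply fst α.hom.op y.sec)
        rw [this]
        exact h1
      · have h1 := α.map_sec
        have := (NatTrans.naturality_apply snd α.hom.op y.sec)
        rw [this]
        exact h1
    refine ⟨⟨α.hom, hsec⟩, ?_, ?_⟩
    · apply Stk.EltObj.hom_ext; rfl
    · apply Stk.EltObj.hom_ext; exact hhom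
  · rintro ⟨T, h⟩ ⟨T', p⟩ ι hι
    have hι' : (Stk.EltObj.forget G).IsHomLift (𝟙 T) ι.hom := hι
    have hT : T' = T := IsHomLift.codomain_eq (Stk.EltObj.forget G) (𝟙 T) ι.hom
    subst hT
    have hsec : secAt (⟨T', ξ.app _ h⟩ : Stk.EltObj G) rfl = secAt (⟨T', a.app _ p⟩ : Stk.EltObj G) rfl :=
      secAt_eq_of_hom (T := T') ι.hom
    rw [secAt_mk, secAt_mk] at hsec
    have hsec' : ξ.app (op T') h = a.app (op T') p := hsec
    obtain ⟨x, rfl, rfl⟩ := psh_pullback_exists sq (op T') p h hsec'.symm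
    refine ⟨⟨T', x⟩, Iso.refl _, Iso.refl _, IsHomLift.id rfl, ?_⟩
    apply Stk.EltObj.hom_ext
    have h3 : ι.hom.hom = 𝟙 T' :=
      elt_hom_eq_rfl G (a := ⟨T', _⟩) (b := ⟨T', _⟩) (𝟙 T') ι.hom (h := hι')
    simp only [Stk.EltObj.comp_hom]
    rw [sqE_app_hom, h3]
    show 𝟙 T' ≫ 𝟙 T' = 𝟙 T' ≫ 𝟙 T'
    rfl

end Pullback

end Groth.Agent.H3.PshBridge
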