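import Mathlib
import Groth.Prelude.Def_AlgSt3
import Groth.Prelude.Def_AlgSpRep
import Groth.Agent.Lib.Helper3.AlgSt.PshBridge
import Groth.Agent.Lib.Helper5.AlgSp.RepBySp

/-!
# Representability by algebraic spaces: presheaves versus categories of elements (helper3)
-/

set_option autoImplicit false
universe v₂ u₂ u
open CategoryTheory CategoryTheory.Functor CategoryTheory.Limits Opposite AlgebraicGeometry

namespace Groth.Agent.H3.RepBridge

open Groth.Agent.H3.FibCatAux Groth.Agent.H3.GerbAux Groth.Agent.H3.FpCalc Groth.Agent.H3.TwoCart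
  Groth.Agent.H3.StackPsh Groth.Agent.H3.PshBridge Groth.Agent.H3.AlgStAux
open AlgSp

variable {S : Scheme.{u}}

/-- `toOverCat` for the presheaf `pyon` -/
abbrev toOver (U : Over S) : Stk.ofPsh ((pyon S).obj U) ⥤ᵇ FibCat.overCat U := AlgSt.toOverCat U

/-- `ofOverCat` for the presheaf `pyon` -/
abbrev ofOver (U : Over S) : FibCat.overCat U ⥤ᵇ Stk.ofPsh ((pyon S).obj U) := AlgSt.ofOverCat U

lemma toOver_ofOver (U : Over S) :
    BasedFunctor.comp (toOver U) (ofOver U) = BasedFunctor.id _ := rfl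

lemma ofOver_toOver (U : Over S) :
    BasedFunctor.comp (ofOver U) (toOver U) = BasedFunctor.id _ := rfl

theorem isEquivOver_toOver (U : Over S) : FibCat.IsEquivOver (toOver U) :=
  ⟨ofOver U, ⟨eqToIso (toOver_ofOver U)⟩, ⟨eqToIso (ofOver_toOver U)⟩⟩

theorem isEquivOver_ofOver (U : Over S) : FibCat.IsEquivOver (ofOver U) :=
  ⟨toOver U, ⟨eqToIso (ofOver_toOver U)⟩, ⟨eqToIso (toOver_ofOver U)⟩⟩

/-- the projection to `(Sch/U)` attached to a map of presheaves `snd : F' ⟶ h_U` -/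
abbrev projOf {F' : PSp S} {U : Over S} (snd : F' ⟶ (pyon S).obj U) :
    Stk.ofPsh F' ⥤ᵇ FibCat.overCat U :=
  BasedFunctor.comp (Stk.ofPshMap snd) (toOver U)

lemma spMapOfOver_projOf_ofPshMap {F₁ : Sp S} {F' : PSp S} {U : Over S} (φ : F₁.obj ⟶ F')
    (snd : F' ⟶ (pyon S).obj U) :
    AlgSt.spMapOfOver (BasedFunctor.comp (Stk.ofPshMap φ) (projOf snd)) =
      ObjectProperty.homMk (φ ≫ snd) := by
  apply ObjectProperty.hom_ext
  ext T x
  induction T using Opposite.rec with | _ T => ?_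
  show (AlgSt.spMapOfOver (BasedFunctor.comp (Stk.ofPshMap φ) (projOf snd))).hom.app (op T) x = _
  rw [AlgSt.spMapOfOver_app]
  apply ULift.ext
  show AlgSt.secHom (BasedFunctor.comp (Stk.ofPshMap φ) (projOf snd)) ⟨T, x⟩ = _
  unfold AlgSt.secHom
  exact Category.id_comp _

lemma spMapOfOver_projOf {F₁ : Sp S} {F' : PSp S} {U : Over S}
    (e₁ : AlgSt.ofSp F₁ ⥤ᵇ Stk.ofPsh F') (snd : F' ⟶ (pyon S).obj U) :
    AlgSt.spMapOfOver (BasedFunctor.comp e₁ (projOf snd)) =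
      ObjectProperty.homMk (pshMapOf e₁ ≫ snd) := by
  rw [← spMapOfOver_projOf_ofPshMap]
  apply spMapOfOver_eq_of_pointwise
  intro a
  have h := obj_eq_ofPshMap e₁ a
  refine ⟨(projOf snd).map (eqToHom h), ?_⟩
  have h1 : (Stk.ofPsh F').p.IsHomLift (𝟙 a.base) (eqToHom h) :=
    IsHomLift.eqToHom_domain_lift_id h (e₁.w_obj a)
  exact BasedFunctor.preserves_isHomLift (projOf snd) (𝟙 a.base) (eqToHom h)

section Main

variable {F G : PSp S} (a : F ⟶ G) {U : Over S}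

/-- the map of presheaves `h_U ⟶ G` attached to a chart `(Sch/U) ⟶ ofPsh G` -/
def chartMap (y : FibCat.overCat U ⥤ᵇ Stk.ofPsh G) : (pyon S).obj U ⟶ G :=
  pshMapOf (BasedFunctor.comp (toOver U) y)

lemma chartMap_ofOver (ξ : (pyon S).obj U ⟶ G) :
    chartMap (BasedFunctor.comp (ofOver U) (Stk.ofPshMap ξ)) = ξ :=
  pshMapOf_ofPshMap ξ

lemma chartIso (y : FibCat.overCat U ⥤ᵇ Stk.ofPsh G) :
    Nonempty (BasedFunctor.comp (Stk.ofPshMap (chartMap y)) (BasedFunctor.id _) ≅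
      BasedFunctor.comp (toOver U) y) := by
  obtain ⟨α⟩ := iso_ofPshMap_pshMapOf (BasedFunctor.comp (toOver U) y)
  exact ⟨α.symm⟩

/-- the category of elements of a fibre product of presheaves over `h_U` is the 2-fibre product
with the chart -/
theorem exists_equiv_fp (y : FibCat.overCat U ⥤ᵇ Stk.ofPsh G) {F' : PSp S} (fst : F' ⟶ F)
    (snd : F' ⟶ (pyon S).obj U) (sq : IsPullback fst snd a (chartMap y)) :
    ∃ M : Stk.ofPsh F' ⥤ᵇ FibCat.fp y (Stk.ofPshMap a), FibCat.IsEquivOver M ∧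
      BasedFunctor.comp M (FibCat.fpFst y (Stk.ofPshMap a)) = projOf snd ∧
      BasedFunctor.comp M (FibCat.fpSnd y (Stk.ofPshMap a)) = Stk.ofPshMap fst := by
  obtain ⟨α⟩ := chartIso y
  let L := FibCat.fpLift (Stk.ofPshMap snd) (Stk.ofPshMap fst) (sqE sq.w)
  have hL : FibCat.IsEquivOver L := isTwoCartOver_of_isPullback sq
  let N := fpMap (F' := Stk.ofPshMap (chartMap y)) (G' := Stk.ofPshMap a) (F := y)
    (G := Stk.ofPshMap a) (toOver U) (BasedFunctor.id _) (BasedFunctor.id _) α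
    (idSq (Stk.ofPshMap a))
  have hN : FibCat.IsEquivOver N := by
    have : (BasedFunctor.id (Stk.ofPsh G)).toFunctor.Full := Functor.Full.id
    have : (BasedFunctor.id (Stk.ofPsh G)).toFunctor.Faithful := Functor.Faithful.id
    exact isEquivOver_fpMap _ _ _ _ _ (isEquivOver_toOver U) isEquivOver_id
  exact ⟨BasedFunctor.comp L N, isEquivOver_comp L N hL hN, rfl, rfl⟩

/-- a map of presheaves representable by algebraic spaces with `Q` gives a functor representable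
by algebraic spaces with `Q` -/
theorem repByAlgSpWith_ofPshMap_of_repBySpWith (Q : MorphismProperty (Sp S))
    (h : RepBySpWith Q a) : AlgSt.RepByAlgSpWith Q (Stk.ofPshMap a) := by
  intro U y
  have sq := IsPullback.of_hasPullback a (chartMap y)
  obtain ⟨hs, hA, hQ⟩ := h (chartMap y) _ _ sq
  obtain ⟨M, hM, hM1, -⟩ := exists_equiv_fp a y _ _ sq
  let Fsp : Space S := ⟨⟨pullback a (chartMap y), hs⟩, hA⟩
  refine ⟨Fsp, M, hM, ?_⟩
  rw [hM1]
  have h1 := spMapOfOver_projOf_ofPshMap (F₁ := Fsp.obj) (𝟙 _) (pullback.snd a (chartMap y))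
  rw [Category.id_comp] at h1
  have h2 : BasedFunctor.comp (Stk.ofPshMap (𝟙 Fsp.obj.obj)) (projOf (pullback.snd a (chartMap y))) =
      projOf (pullback.snd a (chartMap y)) := rfl
  rw [h2] at h1
  rw [h1]
  exact hQ

/-- a functor `ofPshMap a` representable by algebraic spaces with `Q` comes from a map of
presheaves representable by algebraic spaces with `Q` -/
theorem repBySpWith_of_repByAlgSpWith_ofPshMap (Q : MorphismProperty (Sp S)) [Q.RespectsIso]
    (h : AlgSt.RepByAlgSpWith Q (Stk.ofPshMap a)) : RepBySpWith Q a := by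
  intro U ξ F' fst snd sq
  let y := BasedFunctor.comp (ofOver U) (Stk.ofPshMap ξ)
  have hξ : chartMap y = ξ := chartMap_ofOver ξ
  rw [← hξ] at sq
  obtain ⟨M, hM, hM1, -⟩ := exists_equiv_fp a y fst snd sq
  have hθ : ∀ x' : (Stk.ofPsh F').obj, ∃ i : (projOf snd).obj x' ⟶
      (FibCat.fpFst y (Stk.ofPshMap a)).obj (M.obj x'),
      (Over.forget U).IsHomLift (𝟙 ((Stk.ofPsh F').p.obj x')) i := by
    intro x'
    have hx : (projOf snd).obj x' = (FibCat.fpFst y (Stk.ofPshMap a)).obj (M.obj x') := by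
      rw [← hM1]; rfl
    exact ⟨eqToHom hx, IsHomLift.eqToHom_domain_lift_id hx ((projOf snd).w_obj x')⟩
  obtain ⟨F₁, e₁, he₁, hQ⟩ := repWith_transfer Q (FibCat.fpFst y (Stk.ofPshMap a)) (projOf snd) M hM
    hθ (h U y)
  have hiso : IsIso (pshMapOf e₁) := isIso_pshMapOf e₁ he₁
  rw [spMapOfOver_projOf] at hQ
  have hF' : IsAlgSpaceP F' :=
    ((isAlgSpaceP_obj_iff F₁.obj).2 F₁.property).of_iso (asIso (pshMapOf e₁))
  obtain ⟨hs, hA⟩ := hF'
  refine ⟨hs, hA, ?_⟩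
  let φ : F₁.obj ⟶ (⟨F', hs⟩ : Sp S) := ObjectProperty.homMk (pshMapOf e₁)
  have hφ : IsIso φ := by
    refine ⟨⟨ObjectProperty.homMk (inv (pshMapOf e₁)), ?_, ?_⟩⟩
    · apply ObjectProperty.hom_ext; exact IsIso.hom_inv_id (pshMapOf e₁)
    · apply ObjectProperty.hom_ext; exact IsIso.inv_hom_id (pshMapOf e₁)
  have hcomp : (ObjectProperty.homMk (pshMapOf e₁ ≫ snd) : F₁.obj ⟶ (yon S).obj U) =
      φ ≫ (ObjectProperty.homMk snd : (⟨F', hs⟩ : Sp S) ⟶ (yon S).obj U) := rfl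
  rw [hcomp] at hQ
  exact (Q.cancel_left_of_respectsIso φ _).1 hQ

theorem repBySpWith_iff_repByAlgSpWith_ofPshMap (Q : MorphismProperty (Sp S)) [Q.RespectsIso] :
    RepBySpWith Q a ↔ AlgSt.RepByAlgSpWith Q (Stk.ofPshMap a) :=
  ⟨repByAlgSpWith_ofPshMap_of_repBySpWith a Q, repBySpWith_of_repByAlgSpWith_ofPshMap a Q⟩

lemma repBySpWith_top_iff : RepBySpWith (⊤ : MorphismProperty (Sp S)) a ↔ RepBySp a := by
  constructor
  · exact fun h => h.repBySp
  · intro h U ξ F' fst snd sq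
    obtain ⟨hs, hA⟩ := h ξ fst snd sq
    exact ⟨hs, hA, trivial⟩

lemma repByAlgSpWith_top_iff {𝒳 : BasedCategory.{v₂, u₂} (Over S)}
    {𝒴 : BasedCategory.{v₂, u₂} (Over S)} (f : 𝒳 ⥤ᵇ 𝒴) :
    AlgSt.RepByAlgSpWith (⊤ : MorphismProperty (Sp S)) f ↔ AlgSt.RepByAlgSp1 f := by
  constructor
  · intro h U y
    obtain ⟨F₁, e, he, -⟩ := h U y
    exact ⟨F₁, e, he⟩
  · intro h U y
    obtain ⟨F₁, e, he⟩ := h U y
    exact ⟨F₁, e, he, trivial⟩

theorem repBySp_iff_repByAlgSp1_ofPshMap :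
    RepBySp a ↔ AlgSt.RepByAlgSp1 (Stk.ofPshMap a) := by
  rw [← repBySpWith_top_iff, ← repByAlgSpWith_top_iff]
  exact repBySpWith_iff_repByAlgSpWith_ofPshMap a ⊤

end Main

end Groth.Agent.H3.RepBridge
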