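import Mathlib
import Groth.Prelude.Def_AlgSt
import Groth.Agent.Lib.Helper3.FibCatAux
import Groth.Agent.Lib.Helper3.AlgSt.PshBridge

/-!
# A category fibred in setoids is the category of elements of a presheaf (helper3)
-/

set_option autoImplicit false
universe v₂ u₂ v u
open CategoryTheory CategoryTheory.Functor CategoryTheory.Limits Opposite

namespace Groth.Agent.H3.SetoidPsh

open Groth.Agent.H3.FibCatAux Groth.Agent.H3.PshBridge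

variable {C : Type u} [Category.{v} C] (𝒳 : BasedCategory.{v₂, u₂} C)

/-- objects over `T` -/
def ObjOver (T : C) : Type u₂ := {x : 𝒳.obj // 𝒳.p.obj x = T}

variable {𝒳}

/-- two objects over `T` are related when there is a morphism over the identity between them -/
def relOver {T : C} (x y : ObjOver 𝒳 T) : Prop := ∃ φ : x.1 ⟶ y.1, 𝒳.p.IsHomLift (𝟙 T) φ

lemma relOver_refl {T : C} (x : ObjOver 𝒳 T) : relOver x x := ⟨𝟙 x.1, IsHomLift.id x.2⟩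

lemma relOver_symm (h𝒳 : FibCat.IsFibGrpd 𝒳.p) {T : C} {x y : ObjOver 𝒳 T} (h : relOver x y) :
    relOver y x := by
  obtain ⟨φ, hφ⟩ := h
  have : IsIso φ := isIso_of_isHomLift_id 𝒳.p h𝒳 (U := T) φ
  exact ⟨inv φ, inferInstance⟩

lemma relOver_trans {T : C} {x y z : ObjOver 𝒳 T} (h : relOver x y) (h' : relOver y z) :
    relOver x z := by
  obtain ⟨φ, hφ⟩ := h
  obtain ⟨ψ, hψ⟩ := h'
  exact ⟨φ ≫ ψ, inferInstance⟩

variable (h𝒳 : FibCat.IsFibGrpd 𝒳.p)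

/-- the setoid of objects over `T` up to isomorphism over the identity -/
def setoidOver (T : C) : Setoid (ObjOver 𝒳 T) where
  r := relOver
  iseqv := ⟨relOver_refl, relOver_symm h𝒳, relOver_trans⟩

/-- isomorphism classes of objects over `T` -/
def PObj (T : C) : Type u₂ := Quotient (setoidOver h𝒳 T)

/-- the class of an object -/
def cls {T : C} (x : 𝒳.obj) (hx : 𝒳.p.obj x = T) : PObj h𝒳 T :=
  Quotient.mk (setoidOver h𝒳 T) ⟨x, hx⟩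

lemma cls_eq_iff {T : C} {x y : 𝒳.obj} (hx : 𝒳.p.obj x = T) (hy : 𝒳.p.obj y = T) :
    cls h𝒳 x hx = cls h𝒳 y hy ↔ ∃ φ : x ⟶ y, 𝒳.p.IsHomLift (𝟙 T) φ :=
  ⟨fun h => Quotient.exact (s := setoidOver h𝒳 T) h,
    fun h => Quotient.sound (s := setoidOver h𝒳 T) h⟩

lemma exists_cls {T : C} (a : PObj h𝒳 T) : ∃ (x : 𝒳.obj) (hx : 𝒳.p.obj x = T), cls h𝒳 x hx = a := by
  obtain ⟨⟨x, hx⟩, rfl⟩ := Quotient.exists_rep a
  exact ⟨x, hx, rfl⟩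

include h𝒳 in
lemma exists_lift_over {T T' : C} (g : T' ⟶ T) (x : 𝒳.obj) (hx : 𝒳.p.obj x = T) :
    ∃ (y : 𝒳.obj) (κ : y ⟶ x), 𝒳.p.IsHomLift g κ := by
  subst hx; exact h𝒳.exists_lift g

include h𝒳 in
/-- lifts of related objects along the same morphism are related -/
lemma lift_rel {T T' : C} (g : T' ⟶ T) {x x' y y' : 𝒳.obj} (θ : x ⟶ x') [𝒳.p.IsHomLift (𝟙 T) θ]
    (φ : y ⟶ x) (φ' : y' ⟶ x') [𝒳.p.IsHomLift g φ] [𝒳.p.IsHomLift g φ'] :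
    ∃ ψ : y ⟶ y', 𝒳.p.IsHomLift (𝟙 T') ψ := by
  have h1 : 𝒳.p.IsHomLift g (φ ≫ θ) := IsHomLift.comp_lift_id_right' 𝒳.p g φ T θ
  have h2 : 𝒳.p.IsHomLift (𝟙 T' ≫ g) (φ ≫ θ) := by rw [Category.id_comp]; exact h1
  have h4 : 𝒳.p.IsStronglyCartesian g φ' := isStronglyCartesian_of_isHomLift 𝒳.p h𝒳 g φ'
  exact ⟨IsStronglyCartesian.map 𝒳.p g φ' (f' := 𝟙 T' ≫ g) rfl (φ ≫ θ),
    IsStronglyCartesian.map_isHomLift 𝒳.p g φ' rfl (φ ≫ θ)⟩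

/-- a chosen lift -/
noncomputable def liftObj {T T' : C} (g : T' ⟶ T) (x : ObjOver 𝒳 T) : 𝒳.obj :=
  (exists_lift_over h𝒳 g x.1 x.2).choose

noncomputable def liftHom {T T' : C} (g : T' ⟶ T) (x : ObjOver 𝒳 T) : liftObj h𝒳 g x ⟶ x.1 :=
  (exists_lift_over h𝒳 g x.1 x.2).choose_spec.choose

instance liftHom_isHomLift {T T' : C} (g : T' ⟶ T) (x : ObjOver 𝒳 T) :
    𝒳.p.IsHomLift g (liftHom h𝒳 g x) :=
  (exists_lift_over h𝒳 g x.1 x.2).choose_spec.choose_spec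

lemma liftObj_proj {T T' : C} (g : T' ⟶ T) (x : ObjOver 𝒳 T) : 𝒳.p.obj (liftObj h𝒳 g x) = T' :=
  IsHomLift.domain_eq 𝒳.p g (liftHom h𝒳 g x)

/-- restriction of classes -/
noncomputable def pmap {T T' : C} (g : T' ⟶ T) : PObj h𝒳 T → PObj h𝒳 T' :=
  Quotient.lift (s := setoidOver h𝒳 T)
    (fun x => cls h𝒳 (liftObj h𝒳 g x) (liftObj_proj h𝒳 g x))
    (by
      rintro x x' ⟨θ, hθ⟩
      rw [cls_eq_iff]
      exact lift_rel h𝒳 g θ (liftHom h𝒳 g x) (liftHom h𝒳 g x'))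

/-- the restriction of a class is the class of any lift -/
lemma pmap_cls {T T' : C} (g : T' ⟶ T) {x y : 𝒳.obj} (hx : 𝒳.p.obj x = T) (φ : y ⟶ x)
    [𝒳.p.IsHomLift g φ] :
    pmap h𝒳 g (cls h𝒳 x hx) = cls h𝒳 y (IsHomLift.domain_eq 𝒳.p g φ) := by
  show cls h𝒳 (liftObj h𝒳 g ⟨x, hx⟩) _ = _
  rw [cls_eq_iff]
  have : 𝒳.p.IsHomLift (𝟙 T) (𝟙 x) := IsHomLift.id hx
  exact lift_rel h𝒳 g (𝟙 x) (liftHom h𝒳 g ⟨x, hx⟩) φ

/-- the presheaf of isomorphism classes -/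
noncomputable def psh : Cᵒᵖ ⥤ Type u₂ where
  obj T := PObj h𝒳 T.unop
  map g := ↾(pmap h𝒳 g.unop)
  map_id T := by
    ext a
    obtain ⟨x, hx, rfl⟩ := exists_cls h𝒳 a
    have : 𝒳.p.IsHomLift (𝟙 T.unop) (𝟙 x) := IsHomLift.id hx
    exact pmap_cls h𝒳 (𝟙 T.unop) hx (𝟙 x)
  map_comp {T T' T''} g g' := by
    ext a
    obtain ⟨x, hx, rfl⟩ := exists_cls h𝒳 a
    obtain ⟨y, κ, hκ⟩ := exists_lift_over h𝒳 g.unop x hx
    have hy : 𝒳.p.obj y = T'.unop := IsHomLift.domain_eq 𝒳.p g.unop κ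
    obtain ⟨z, κ', hκ'⟩ := exists_lift_over h𝒳 g'.unop y hy
    have h1 : 𝒳.p.IsHomLift (g'.unop ≫ g.unop) (κ' ≫ κ) := inferInstance
    show pmap h𝒳 (g'.unop ≫ g.unop) (cls h𝒳 x hx) = pmap h𝒳 g'.unop (pmap h𝒳 g.unop (cls h𝒳 x hx))
    rw [pmap_cls h𝒳 (g'.unop ≫ g.unop) hx (κ' ≫ κ), pmap_cls h𝒳 g.unop hx κ,
      pmap_cls h𝒳 g'.unop hy κ']

lemma psh_map_cls {T T' : C} (g : T' ⟶ T) {x y : 𝒳.obj} (hx : 𝒳.p.obj x = T) (φ : y ⟶ x)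
    [𝒳.p.IsHomLift g φ] :
    (psh h𝒳).map g.op (cls h𝒳 x hx) = cls h𝒳 y (IsHomLift.domain_eq 𝒳.p g φ) :=
  pmap_cls h𝒳 g hx φ

/-- the functor to the category of elements of the presheaf of classes -/
noncomputable def toPsh : 𝒳 ⥤ᵇ Stk.ofPsh (psh h𝒳) where
  toFunctor :=
    { obj := fun x => ⟨𝒳.p.obj x, cls h𝒳 x rfl⟩
      map := fun {x y} φ => ⟨𝒳.p.map φ, by
        have : 𝒳.p.IsHomLift (𝒳.p.map φ) φ := IsHomLift.map 𝒳.p φ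
        exact psh_map_cls h𝒳 (𝒳.p.map φ) rfl φ⟩
      map_id := fun x => by apply Stk.EltObj.hom_ext; exact 𝒳.p.map_id x
      map_comp := fun φ ψ => by apply Stk.EltObj.hom_ext; exact 𝒳.p.map_comp φ ψ }
  w := rfl

theorem isEquivOver_toPsh (hs : FibCat.IsFibSetoid 𝒳.p) : FibCat.IsEquivOver (toPsh h𝒳) := by
  rw [X5139]
  refine ⟨⟨⟨?_⟩, ⟨?_⟩⟩, ?_⟩
  · intro x y m
    -- fullness
    obtain ⟨g, hg⟩ : ∃ g : 𝒳.p.obj x ⟶ 𝒳.p.obj y, g = m.hom := ⟨_, rfl⟩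
    have hm : (psh h𝒳).map g.op (cls h𝒳 y rfl) = cls h𝒳 x rfl := by rw [hg]; exact m.map_sec
    obtain ⟨z, κ, hκ⟩ := exists_lift_over h𝒳 g y rfl
    have hm2 : cls h𝒳 x rfl = cls h𝒳 z (IsHomLift.domain_eq 𝒳.p g κ) := by
      rw [← hm]; exact psh_map_cls h𝒳 g rfl κ
    obtain ⟨θ, hθ⟩ := (cls_eq_iff h𝒳 rfl (IsHomLift.domain_eq 𝒳.p g κ)).1 hm2
    have h1 : 𝒳.p.IsHomLift g (θ ≫ κ) :=
      IsHomLift.comp_lift_id_left' 𝒳.p (𝒳.p.obj x) θ g κ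
    refine ⟨θ ≫ κ, ?_⟩
    apply Stk.EltObj.hom_ext
    rw [← hg]
    exact (IsHomLift.eq_of_isHomLift 𝒳.p g (θ ≫ κ)).symm
  · intro x y φ ψ h
    have h1 : 𝒳.p.map φ = 𝒳.p.map ψ := congrArg (fun t => t.hom) h
    have h2 : 𝒳.p.IsHomLift (𝒳.p.map φ) ψ := by rw [h1]; infer_instance
    exact hom_eq_of_isFibSetoid 𝒳.p hs (𝒳.p.map φ) φ ψ
  · rintro ⟨T, a⟩
    obtain ⟨x, hx, ha⟩ := exists_cls h𝒳 (T := T) a
    subst ha
    subst hx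
    exact ⟨x, Iso.refl _, IsHomLift.id rfl⟩

/-- a category fibred in setoids is equivalent over the base to the category of elements of a
presheaf -/
theorem exists_equivOver_ofPsh (hs : FibCat.IsFibSetoid 𝒳.p) :
    ∃ (P₀ : Cᵒᵖ ⥤ Type u₂) (E : 𝒳 ⥤ᵇ Stk.ofPsh P₀), FibCat.IsEquivOver E :=
  ⟨psh hs.1, toPsh hs.1, isEquivOver_toPsh hs.1 hs⟩

end Groth.Agent.H3.SetoidPsh
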