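import Mathlib
import Groth.Prelude.Def_AlgSt3
import Groth.Prelude.Def_AlgSpRep
import Groth.Prelude.Def_AlgSpCov
import Groth.Agent.Lib.Helper3.AlgSt.RepBridge
import Groth.Agent.Lib.Helper3.AlgSt.SetoidPsh
import Groth.Agent.Lib.Helper3.TwoCartSwap
import Groth.Agent.Lib.Helper3.RepFaithful
import Groth.Agent.Lib.Helper5.AlgSp.LocPBasic
import Groth.Agent.Lib.Helper5.AlgSp.Points
import Groth.Agent.Lib.Helper5.AlgSp.Cover

/-!
# Base change of a functor representable by algebraic spaces to an algebraic space (helper3)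
-/

set_option autoImplicit false
universe u
open CategoryTheory CategoryTheory.Functor CategoryTheory.Limits Opposite AlgebraicGeometry

namespace Groth.Agent.H3.BaseChangeSp

open Groth.Agent.H3.FibCatAux Groth.Agent.H3.GerbAux Groth.Agent.H3.FpCalc Groth.Agent.H3.TwoCart
  Groth.Agent.H3.StackPsh Groth.Agent.H3.PshBridge Groth.Agent.H3.AlgStAux Groth.Agent.H3.RepBridge
  Groth.Agent.H3.SetoidPsh
open AlgSp

variable {S : Scheme.{u}}

/-- `P` can be cancelled along isomorphisms on the source -/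
def IsoCancel (P : MorphismProperty (Sp S)) : Prop :=
  ∀ ⦃X X' Y : Sp S⦄ (φ : X ⟶ X') (a : X' ⟶ Y), IsIso φ → IsAlgSpace X → IsAlgSpace X' →
    IsAlgSpace Y → P (φ ≫ a) → P a

/-- stability under base change among algebraic spaces -/
def BaseChangeSp (P : MorphismProperty (Sp S)) : Prop :=
  ∀ ⦃X₁ Y₁ X₂ Y₂ : Sp S⦄, IsAlgSpace X₁ → IsAlgSpace Y₁ → IsAlgSpace X₂ →
    IsAlgSpace Y₂ → ∀ (a : X₁ ⟶ Y₁) (b : Y₂ ⟶ Y₁) (a' : X₂ ⟶ Y₂) (b' : X₂ ⟶ X₁),
    IsPullback b' a' a b → P a → P a'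

lemma isoCancel_of_baseChangeSp {P : MorphismProperty (Sp S)} (hPb : BaseChangeSp P) :
    IsoCancel P := by
  intro X X' Y φ a hφ hX hX' hY h
  have sq : IsPullback (inv φ) a (φ ≫ a) (𝟙 Y) := by
    apply IsPullback.of_horiz_isIso
    exact ⟨by simp⟩
  exact hPb hX hY hX' hY (φ ≫ a) (𝟙 Y) a (inv φ) sq h

lemma isoComp_of_baseChangeSp {P : MorphismProperty (Sp S)} (hPb : BaseChangeSp P)
    {X X' Y : Sp S} (φ : X ⟶ X') (a : X' ⟶ Y) [IsIso φ] (hX : IsAlgSpace X) (hX' : IsAlgSpace X')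
    (hY : IsAlgSpace Y) (h : P a) : P (φ ≫ a) := by
  have sq : IsPullback φ (φ ≫ a) a (𝟙 Y) := by
    apply IsPullback.of_horiz_isIso
    exact ⟨by simp⟩
  exact hPb hX' hY hX hY a (𝟙 Y) (φ ≫ a) φ sq h

/-- transfer of a representation of `ofPsh F'` with `P` to the presheaf `F'` itself -/
theorem transfer_to_psh (P : MorphismProperty (Sp S)) (hc : IsoCancel P) {F' : PSp S} {U : Over S}
    (snd : F' ⟶ (pyon S).obj U)
    (h : ∃ (F₁ : Space S) (e₁ : AlgSt.ofSp F₁.obj ⥤ᵇ Stk.ofPsh F'), FibCat.IsEquivOver e₁ ∧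
      P (AlgSt.spMapOfOver (BasedFunctor.comp e₁ (projOf snd)))) :
    ∃ hs : Presheaf.IsSheaf (J S) F', IsAlgSpace (⟨F', hs⟩ : Sp S) ∧
      P (ObjectProperty.homMk snd : (⟨F', hs⟩ : Sp S) ⟶ (yon S).obj U) := by
  obtain ⟨F₁, e₁, he₁, hQ⟩ := h
  have hiso : IsIso (pshMapOf e₁) := isIso_pshMapOf e₁ he₁
  rw [spMapOfOver_projOf] at hQ
  have hF' : IsAlgSpaceP F' :=
    ((isAlgSpaceP_obj_iff F₁.obj).2 F₁.property).of_iso (asIso (pshMapOf e₁))
  obtain ⟨hs, hA⟩ := hF'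
  refine ⟨hs, hA, ?_⟩
  let φ : F₁.obj ⟶ (⟨F', hs⟩ : Sp S) := ObjectProperty.homMk (pshMapOf e₁)
  have hφ : IsIso φ := by
    refine ⟨⟨ObjectProperty.homMk (inv (pshMapOf e₁)), ?_, ?_⟩⟩
    · apply ObjectProperty.hom_ext; exact IsIso.hom_inv_id (pshMapOf e₁)
    · apply ObjectProperty.hom_ext; exact IsIso.inv_hom_id (pshMapOf e₁)
  have hcomp : (ObjectProperty.homMk (pshMapOf e₁ ≫ snd) : F₁.obj ⟶ (yon S).obj U) =
      φ ≫ (ObjectProperty.homMk snd : (⟨F', hs⟩ : Sp S) ⟶ (yon S).obj U) := rfl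
  rw [hcomp] at hQ
  exact hc φ _ hφ F₁.property hA (IsAlgSpace.yon_obj U) hQ

section LemmaL

variable {𝒳 𝒴 : BasedCategory.{u, u + 1} (Over S)}

/-- the 2-fibre product of a chart from a presheaf with a faithful functor is fibred in setoids -/
lemma isFibSetoid_fp_ofPsh (h𝒳 : FibCat.IsFibGrpd 𝒳.p) (h𝒴 : FibCat.IsFibGrpd 𝒴.p) (f : 𝒳 ⥤ᵇ 𝒴)
    [f.toFunctor.Faithful] {Z : PSp S} (z : Stk.ofPsh Z ⥤ᵇ 𝒴) :
    FibCat.IsFibSetoid (FibCat.fp z f).p := by
  have h1 : FibCat.IsFibSetoid (FibCat.fp f z).p :=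
    Groth.Agent.H3.StkAux.isFibSetoid_fp_of_faithful h𝒴 h𝒳
      (Groth.Agent.H3.StkAux.isFibSetoid_ofPsh Z) f z
  have h2 := swap_isTwoCartOver z f
  exact (isFibSetoid_iff_of_isEquivOver _ h2).2 h1

lemma repByAlgSp1_of_repByAlgSpWith {P : MorphismProperty (Sp S)} {f : 𝒳 ⥤ᵇ 𝒴}
    (hf : AlgSt.RepByAlgSpWith P f) : AlgSt.RepByAlgSp1 f := by
  intro U y
  obtain ⟨F₁, e, he, -⟩ := hf U y
  exact ⟨F₁, e, he⟩

/-- **Base change to a sheaf**: the 2-fibre product of `f` (representable by algebraic spaces with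
`P`) with a chart from the category of elements of a presheaf `Z` is the category of elements of a
presheaf whose map to `Z` is representable by algebraic spaces with `P`. -/
theorem exists_psh_of_fp (P : MorphismProperty (Sp S)) (hc : IsoCancel P)
    (h𝒳 : FibCat.IsFibGrpd 𝒳.p) (h𝒴 : FibCat.IsFibGrpd 𝒴.p) (f : 𝒳 ⥤ᵇ 𝒴)
    (hf : AlgSt.RepByAlgSpWith P f) {Z : PSp S} (z : Stk.ofPsh Z ⥤ᵇ 𝒴) :
    ∃ (P₀ : PSp S) (E : FibCat.fp z f ⥤ᵇ Stk.ofPsh P₀) (E' : Stk.ofPsh P₀ ⥤ᵇ FibCat.fp z f),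
      Nonempty (BasedFunctor.comp E E' ≅ BasedFunctor.id _) ∧
      Nonempty (BasedFunctor.comp E' E ≅ BasedFunctor.id _) ∧
      RepBySpWith P (pshMapOf (BasedFunctor.comp E' (FibCat.fpFst z f))) := by
  have hff : f.toFunctor.Faithful :=
    Groth.Agent.H3.RepFaithful.faithful_of_repByAlgSp1 h𝒳 h𝒴 f (repByAlgSp1_of_repByAlgSpWith hf)
  have hs := isFibSetoid_fp_ofPsh h𝒳 h𝒴 f z
  have hE := isEquivOver_toPsh hs.1 hs
  obtain ⟨E', hE', ⟨e₁⟩, ⟨e₂⟩⟩ := isEquivOver_symm hE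
  refine ⟨psh hs.1, toPsh hs.1, E', ⟨e₁⟩, ⟨e₂⟩, ?_⟩
  intro U ξ F' fst snd sq
  apply transfer_to_psh P hc snd
  let y₀ : FibCat.overCat U ⥤ᵇ Stk.ofPsh Z := BasedFunctor.comp (ofOver U) (Stk.ofPshMap ξ)
  let L := FibCat.fpLift (Stk.ofPshMap snd) (Stk.ofPshMap fst) (sqE sq.w)
  have hL : FibCat.IsEquivOver L := isTwoCartOver_of_isPullback sq
  let α : BasedFunctor.comp (Stk.ofPshMap ξ) (BasedFunctor.id (Stk.ofPsh Z)) ≅
      BasedFunctor.comp (toOver U) y₀ := Iso.refl _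
  obtain ⟨β'⟩ := iso_ofPshMap_pshMapOf (BasedFunctor.comp E' (FibCat.fpFst z f))
  let β : BasedFunctor.comp (Stk.ofPshMap (pshMapOf (BasedFunctor.comp E' (FibCat.fpFst z f))))
      (BasedFunctor.id (Stk.ofPsh Z)) ≅ BasedFunctor.comp E' (FibCat.fpFst z f) := β'.symm
  let N₁ := fpMap (F' := Stk.ofPshMap ξ)
    (G' := Stk.ofPshMap (pshMapOf (BasedFunctor.comp E' (FibCat.fpFst z f))))
    (F := y₀) (G := FibCat.fpFst z f) (toOver U) E' (BasedFunctor.id (Stk.ofPsh Z)) α β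
  have hN₁ : FibCat.IsEquivOver N₁ := by
    have : (BasedFunctor.id (Stk.ofPsh Z)).toFunctor.Full := Functor.Full.id
    have : (BasedFunctor.id (Stk.ofPsh Z)).toFunctor.Faithful := Functor.Faithful.id
    exact isEquivOver_fpMap _ _ _ _ _ (isEquivOver_toOver U) hE'
  let N₂ := pasteL y₀ z f
  have hN₂ : FibCat.IsEquivOver N₂ := isEquivOver_pasteL y₀ z f
  let M := BasedFunctor.comp L (BasedFunctor.comp N₁ N₂)
  have hM : FibCat.IsEquivOver M :=
    isEquivOver_comp L _ hL (isEquivOver_comp N₁ N₂ hN₁ hN₂)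
  refine repWith_transfer P (FibCat.fpFst (BasedFunctor.comp y₀ z) f) (projOf snd) M hM ?_
    (hf U (BasedFunctor.comp y₀ z))
  intro x'
  exact ⟨𝟙 _, IsHomLift.id rfl⟩

end LemmaL

section LemmaR

open Groth.Agent.H5.AlgSp

lemma isFppfCover_atlas {Y : Sp S} {V : Over S} (a : (yon S).obj V ⟶ Y) (hae : RepWith @Etale a)
    (has : RepWith @Surjective a) :
    IsFppfCover (fun _ : PUnit.{u + 1} => (yon S).obj V) (fun _ => a) := by
  refine ⟨fun _ => ⟨?_, ?_⟩, fun x => ⟨PUnit.unit, points_map_surjective_of_repWith has x⟩⟩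
  · have h1 : (@Etale : MorphismProperty Scheme.{u}) ≤ @Flat :=
      fun _ _ f hf => by have : Etale f := hf; infer_instance
    exact locP_of_repWith h1 (repWith_mono h1 hae)
  · have h1 : (@Etale : MorphismProperty Scheme.{u}) ≤ @LocallyOfFinitePresentation :=
      fun _ _ f hf => by have : Etale f := hf; infer_instance
    exact locP_of_repWith h1 (repWith_mono h1 hae)

/-- a morphism of algebraic spaces all of whose base changes to schemes have `P` has `P`, for `P`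
fppf local on the base -/
theorem of_repBySpWith (P : MorphismProperty (Sp S)) (hP : IsLocalOnBase IsFppfCover P)
    {X Y : Sp S} (hX : IsAlgSpace X) (hY : IsAlgSpace Y) (b : X ⟶ Y) (h : RepBySpWith P b.hom) :
    P b := by
  obtain ⟨V, a, hae, has⟩ := hY.atlas
  have sq := IsPullback.of_hasPullback b a
  obtain ⟨hF', hPs⟩ := (repBySpWith_hom_iff P b).1 h a _ _ sq
  exact (hP (fun _ : PUnit.{u + 1} => (yon S).obj V) (fun _ => a) hY
    (fun _ => IsAlgSpace.yon_obj V) (isFppfCover_atlas a hae has) b hX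
    (fun _ => pullback b a) (fun _ => pullback.snd b a) (fun _ => pullback.fst b a)
    (fun _ => hF') (fun _ => sq)).2 (fun _ => hPs)

/-- `P` holds for a morphism of algebraic spaces as soon as it holds for all its base changes to
schemes -/
def OfCharts (P : MorphismProperty (Sp S)) : Prop :=
  ∀ ⦃X Y : Sp S⦄, IsAlgSpace X → IsAlgSpace Y → ∀ (b : X ⟶ Y), RepBySpWith P b.hom → P b

theorem ofCharts_of_isLocalOnBase (P : MorphismProperty (Sp S)) (hP : IsLocalOnBase IsFppfCover P) :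
    OfCharts P := fun _ _ hX hY b h => of_repBySpWith P hP hX hY b h

/-- properties "representable by schemes with `P₀`" can be checked on base changes to schemes -/
theorem ofCharts_repWith (P₀ : MorphismProperty Scheme.{u}) [P₀.IsStableUnderBaseChange] :
    OfCharts (RepWith (S := S) P₀) := by
  intro X Y _ _ b h
  have h' := (repBySpWith_hom_iff (RepWith P₀) b).1 h
  have hrep : Representable b := by
    intro T ξ
    have sq := IsPullback.of_hasPullback b ξ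
    obtain ⟨-, h2⟩ := h' ξ _ _ sq
    obtain ⟨V, snd, fst, sq'⟩ := h2.rep (𝟙 _)
    refine ⟨V, snd, fst ≫ pullback.fst b ξ, ?_⟩
    have sq2 := sq'.paste_horiz sq
    rw [Category.id_comp] at sq2
    exact sq2
  refine ⟨hrep, ?_⟩
  intro T V ξ fst snd sq
  obtain ⟨-, h2⟩ := h' ξ fst ((yon S).map snd) sq
  exact h2.property (𝟙 _) (𝟙 _) snd (IsPullback.of_horiz_isIso ⟨by simp⟩)

end LemmaR

section TheoremA

variable {𝒳 𝒴 : BasedCategory.{u, u + 1} (Over S)}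

/-- **Base change to an algebraic space**: the 2-fibre product of `f` (representable by algebraic
spaces with `P`) with a morphism from an algebraic space `Z` is an algebraic space `V` with a
morphism `a : V ⟶ Z` having `P`. -/
theorem exists_space_of_fp' (P : MorphismProperty (Sp S)) (hPb : BaseChangeSp P)
    (hP : OfCharts P)
    (h𝒳 : FibCat.IsFibGrpd 𝒳.p) (h𝒴 : FibCat.IsFibGrpd 𝒴.p) (f : 𝒳 ⥤ᵇ 𝒴)
    (hf : AlgSt.RepByAlgSpWith P f) (Z : Space S) (z : AlgSt.ofSp Z.obj ⥤ᵇ 𝒴) :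
    ∃ (V : Space S) (a : V ⟶ Z) (e : AlgSt.ofSp V.obj ⥤ᵇ FibCat.fp z f),
      FibCat.IsEquivOver e ∧
        Nonempty (BasedFunctor.comp e (FibCat.fpFst z f) ≅ AlgSt.ofSpMap a.hom) ∧ P a.hom := by
  obtain ⟨P₀, E, E', ⟨e₁⟩, ⟨e₂⟩, hrep⟩ :=
    exists_psh_of_fp P (isoCancel_of_baseChangeSp hPb) h𝒳 h𝒴 f hf z
  have hP₀ : IsAlgSpaceP P₀ :=
    Groth.Agent.H5.AlgSp.isAlgSpaceP_of_repBySp P₀ Z.obj.obj _ hrep.repBySp
      ((isAlgSpaceP_obj_iff Z.obj).2 Z.property)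
  obtain ⟨hs, hA⟩ := hP₀
  let V : Space S := ⟨⟨P₀, hs⟩, hA⟩
  let a : V ⟶ Z := ObjectProperty.homMk
    (ObjectProperty.homMk (pshMapOf (BasedFunctor.comp E' (FibCat.fpFst z f))))
  refine ⟨V, a, E', ⟨E, ⟨e₂⟩, ⟨e₁⟩⟩, iso_ofPshMap_pshMapOf _, ?_⟩
  exact hP hA Z.property a.hom hrep

theorem exists_space_of_fp (P : MorphismProperty (Sp S)) (hPb : BaseChangeSp P)
    (hP : IsLocalOnBase IsFppfCover P)
    (h𝒳 : FibCat.IsFibGrpd 𝒳.p) (h𝒴 : FibCat.IsFibGrpd 𝒴.p) (f : 𝒳 ⥤ᵇ 𝒴)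
    (hf : AlgSt.RepByAlgSpWith P f) (Z : Space S) (z : AlgSt.ofSp Z.obj ⥤ᵇ 𝒴) :
    ∃ (V : Space S) (a : V ⟶ Z) (e : AlgSt.ofSp V.obj ⥤ᵇ FibCat.fp z f),
      FibCat.IsEquivOver e ∧
        Nonempty (BasedFunctor.comp e (FibCat.fpFst z f) ≅ AlgSt.ofSpMap a.hom) ∧ P a.hom :=
  exists_space_of_fp' P hPb (ofCharts_of_isLocalOnBase P hP) h𝒳 h𝒴 f hf Z z

end TheoremA

end Groth.Agent.H3.BaseChangeSp
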