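import Mathlib
import Groth.Agent.Lib.Helper3.AlgSt.BaseChangeSp
import Groth.Agent.Lib.Helper5.AlgSp.FibreProduct

/-!
# Composition of functors representable by algebraic spaces (helper3)
-/

set_option autoImplicit false
universe u
open CategoryTheory CategoryTheory.Functor CategoryTheory.Limits Opposite AlgebraicGeometry

namespace Groth.Agent.H3.AlgStComp

open Groth.Agent.H3.FibCatAux Groth.Agent.H3.GerbAux Groth.Agent.H3.FpCalc Groth.Agent.H3.TwoCart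
  Groth.Agent.H3.StackPsh Groth.Agent.H3.PshBridge Groth.Agent.H3.AlgStAux Groth.Agent.H3.RepBridge
  Groth.Agent.H3.SetoidPsh Groth.Agent.H3.BaseChangeSp
open AlgSp

variable {S : Scheme.{u}}

/-- `spMapOfOver` of a composite with the functor of a map of sheaves -/
lemma spMapOfOver_ofSpMap_comp {F₁ G₁ : Sp S} {U : Over S} (c : F₁ ⟶ G₁)
    (Φ : AlgSt.ofSp G₁ ⥤ᵇ FibCat.overCat U) :
    AlgSt.spMapOfOver (BasedFunctor.comp (AlgSt.ofSpMap c) Φ) = c ≫ AlgSt.spMapOfOver Φ := by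
  apply ObjectProperty.hom_ext
  ext T x
  induction T using Opposite.rec with | _ T => ?_
  rfl

/-- composition of stability under composition among algebraic spaces -/
def CompSp (P : MorphismProperty (Sp S)) : Prop :=
  ∀ ⦃X Y Z : Sp S⦄, IsAlgSpace X → IsAlgSpace Y → IsAlgSpace Z →
    ∀ (a : X ⟶ Y) (b : Y ⟶ Z), P a → P b → P (a ≫ b)

variable {𝒳 𝒴 𝒵 : BasedCategory.{u, u + 1} (Over S)}

/-- **Composition** of functors representable by algebraic spaces with `P` (S12780), for `P`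
checkable on base changes to schemes. -/
theorem repByAlgSpWith_comp' (h𝒳 : FibCat.IsFibGrpd 𝒳.p) (h𝒴 : FibCat.IsFibGrpd 𝒴.p)
    (P : MorphismProperty (Sp S)) (hPb : BaseChangeSp P) (hPc : CompSp P)
    (hP : OfCharts P) (f : 𝒳 ⥤ᵇ 𝒴) (g : 𝒴 ⥤ᵇ 𝒵)
    (hf : AlgSt.RepByAlgSpWith P f) (hg : AlgSt.RepByAlgSpWith P g) :
    AlgSt.RepByAlgSpWith P (BasedFunctor.comp f g) := by
  intro U z
  obtain ⟨G₁, e_g, he_g, hb⟩ := hg U z
  let w : AlgSt.ofSp G₁.obj ⥤ᵇ 𝒴 := BasedFunctor.comp e_g (FibCat.fpSnd z g)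
  obtain ⟨V, a, e_f, he_f, ⟨ι⟩, ha⟩ := exists_space_of_fp' P hPb hP h𝒳 h𝒴 f hf G₁ w
  let α : BasedFunctor.comp w (BasedFunctor.id 𝒴) ≅ BasedFunctor.comp e_g (FibCat.fpSnd z g) :=
    Iso.refl _
  let N := fpMap (F' := w) (G' := f) (F := FibCat.fpSnd z g) (G := f) e_g (BasedFunctor.id 𝒳)
    (BasedFunctor.id 𝒴) α (idSq f)
  have hN : FibCat.IsEquivOver N := by
    have : (BasedFunctor.id 𝒴).toFunctor.Full := Functor.Full.id
    have : (BasedFunctor.id 𝒴).toFunctor.Faithful := Functor.Faithful.id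
    exact isEquivOver_fpMap _ _ _ _ _ he_g isEquivOver_id
  let R := pasteR z g f
  have hR : FibCat.IsEquivOver R := isEquivOver_pasteR z g f
  let e := BasedFunctor.comp e_f (BasedFunctor.comp N R)
  have he : FibCat.IsEquivOver e := isEquivOver_comp e_f _ he_f (isEquivOver_comp N R hN hR)
  refine ⟨V, e, he, ?_⟩
  have key : AlgSt.spMapOfOver (BasedFunctor.comp e (FibCat.fpFst z (BasedFunctor.comp f g))) =
      a.hom ≫ AlgSt.spMapOfOver (BasedFunctor.comp e_g (FibCat.fpFst z g)) := by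
    rw [← spMapOfOver_ofSpMap_comp]
    apply spMapOfOver_eq_of_pointwise
    intro x
    let Ψ := BasedFunctor.comp e_g (FibCat.fpFst z g)
    refine ⟨Ψ.map (appIso ι x).hom, ?_⟩
    have h1 : (AlgSt.ofSp G₁.obj).p.IsHomLift (𝟙 x.base) (appIso ι x).hom :=
      appIso_hom_isHomLift ι x rfl
    exact BasedFunctor.preserves_isHomLift Ψ (𝟙 x.base) (appIso ι x).hom
  rw [key]
  exact hPc V.property G₁.property (IsAlgSpace.yon_obj U) _ _ ha hb

/-- **Composition** of functors representable by algebraic spaces with `P` (S12780). -/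
theorem repByAlgSpWith_comp (h𝒳 : FibCat.IsFibGrpd 𝒳.p) (h𝒴 : FibCat.IsFibGrpd 𝒴.p)
    (P : MorphismProperty (Sp S)) (hPb : BaseChangeSp P) (hPc : CompSp P)
    (hP : IsLocalOnBase IsFppfCover P) (f : 𝒳 ⥤ᵇ 𝒴) (g : 𝒴 ⥤ᵇ 𝒵)
    (hf : AlgSt.RepByAlgSpWith P f) (hg : AlgSt.RepByAlgSpWith P g) :
    AlgSt.RepByAlgSpWith P (BasedFunctor.comp f g) :=
  repByAlgSpWith_comp' h𝒳 h𝒴 P hPb hPc (ofCharts_of_isLocalOnBase P hP) f g hf hg

lemma baseChangeSp_top : BaseChangeSp (⊤ : MorphismProperty (Sp S)) :=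
  fun _ _ _ _ _ _ _ _ _ _ _ _ _ _ => trivial

lemma compSp_top : CompSp (⊤ : MorphismProperty (Sp S)) :=
  fun _ _ _ _ _ _ _ _ _ _ => trivial

lemma isLocalOnBase_top : IsLocalOnBase IsFppfCover (⊤ : MorphismProperty (Sp S)) := by
  intro ι Y Yi g _ _ _ X f _ Xi p q _ _
  exact ⟨fun _ _ => trivial, fun _ => trivial⟩

/-- base change of a functor representable by algebraic spaces to an algebraic space -/
theorem repByAlgSp_fp_of_space (h𝒳 : FibCat.IsFibGrpd 𝒳.p) (h𝒴 : FibCat.IsFibGrpd 𝒴.p)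
    (f : 𝒳 ⥤ᵇ 𝒴) (hf : AlgSt.RepByAlgSp1 f) (Z : Space S) (z : AlgSt.ofSp Z.obj ⥤ᵇ 𝒴) :
    AlgSt.RepByAlgSp (FibCat.fp z f) := by
  obtain ⟨V, a, e, he, -, -⟩ := exists_space_of_fp ⊤ baseChangeSp_top isLocalOnBase_top h𝒳 h𝒴 f
    ((repByAlgSpWith_top_iff f).2 hf) Z z
  exact ⟨V, e, he⟩

/-- S12766 -/
theorem repByAlgSp_fp_of_repByAlgSp (h𝒳 : FibCat.IsFibGrpd 𝒳.p) (h𝒴 : FibCat.IsFibGrpd 𝒴.p)
    (f : 𝒳 ⥤ᵇ 𝒴) (g : 𝒵 ⥤ᵇ 𝒴) (hf : AlgSt.RepByAlgSp1 f) (hZ : AlgSt.RepByAlgSp 𝒵) :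
    AlgSt.RepByAlgSp (FibCat.fp g f) := by
  obtain ⟨Z, e₀, he₀⟩ := hZ
  let α : BasedFunctor.comp (BasedFunctor.comp e₀ g) (BasedFunctor.id 𝒴) ≅
      BasedFunctor.comp e₀ g := Iso.refl _
  let N := fpMap (F' := BasedFunctor.comp e₀ g) (G' := f) (F := g) (G := f) e₀ (BasedFunctor.id 𝒳)
    (BasedFunctor.id 𝒴) α (idSq f)
  have hN : FibCat.IsEquivOver N := by
    have : (BasedFunctor.id 𝒴).toFunctor.Full := Functor.Full.id
    have : (BasedFunctor.id 𝒴).toFunctor.Faithful := Functor.Faithful.id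
    exact isEquivOver_fpMap _ _ _ _ _ he₀ isEquivOver_id
  exact repByAlgSp_of_isEquivOver N hN
    (repByAlgSp_fp_of_space h𝒳 h𝒴 f hf Z (BasedFunctor.comp e₀ g))

lemma spMapOfOver_toOverCat (U : Over S) : AlgSt.spMapOfOver (AlgSt.toOverCat U) = 𝟙 _ := by
  apply ObjectProperty.hom_ext
  ext T x
  induction T using Opposite.rec with | _ T => ?_
  show (AlgSt.spMapOfOver (AlgSt.toOverCat U)).hom.app (op T) x = x
  rw [AlgSt.spMapOfOver_app]
  apply ULift.ext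
  show AlgSt.secHom (AlgSt.toOverCat U) ⟨T, x⟩ = _
  unfold AlgSt.secHom
  exact Category.id_comp _

/-- from a representation of the base change along the chart `h_U ⟶ 𝒴` (as a space) to a
representation of the base change along `(Sch/U) ⟶ 𝒴` -/
theorem repWith_of_space_chart (P : MorphismProperty (Sp S)) (f : 𝒳 ⥤ᵇ 𝒴) (U : Over S)
    (y : FibCat.overCat U ⥤ᵇ 𝒴) (V : Space S) (a : V.obj ⟶ (yon S).obj U)
    (e : AlgSt.ofSp V.obj ⥤ᵇ FibCat.fp (BasedFunctor.comp (AlgSt.toOverCat U) y) f)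
    (he : FibCat.IsEquivOver e)
    (ι : BasedFunctor.comp e (FibCat.fpFst (BasedFunctor.comp (AlgSt.toOverCat U) y) f) ≅
      AlgSt.ofSpMap a) (hPa : P a) :
    ∃ (F : Space S) (e' : AlgSt.ofSp F.obj ⥤ᵇ FibCat.fp y f), FibCat.IsEquivOver e' ∧
      P (AlgSt.spMapOfOver (BasedFunctor.comp e' (FibCat.fpFst y f))) := by
  let α : BasedFunctor.comp (BasedFunctor.comp (AlgSt.toOverCat U) y) (BasedFunctor.id 𝒴) ≅
      BasedFunctor.comp (AlgSt.toOverCat U) y := Iso.refl _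
  let N := fpMap (F' := BasedFunctor.comp (AlgSt.toOverCat U) y) (G' := f) (F := y) (G := f)
    (AlgSt.toOverCat U) (BasedFunctor.id 𝒳) (BasedFunctor.id 𝒴) α (idSq f)
  have hN : FibCat.IsEquivOver N := by
    have : (BasedFunctor.id 𝒴).toFunctor.Full := Functor.Full.id
    have : (BasedFunctor.id 𝒴).toFunctor.Faithful := Functor.Faithful.id
    exact isEquivOver_fpMap _ _ _ _ _ (isEquivOver_toOver U) isEquivOver_id
  refine ⟨V, BasedFunctor.comp e N, isEquivOver_comp e N he hN, ?_⟩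
  have key : AlgSt.spMapOfOver (BasedFunctor.comp (BasedFunctor.comp e N) (FibCat.fpFst y f)) = a := by
    have h1 : a = AlgSt.spMapOfOver (BasedFunctor.comp (AlgSt.ofSpMap a) (AlgSt.toOverCat U)) := by
      rw [spMapOfOver_ofSpMap_comp, spMapOfOver_toOverCat, Category.comp_id]
    rw [h1]
    apply spMapOfOver_eq_of_pointwise
    intro x
    refine ⟨(AlgSt.toOverCat U).map (appIso ι x).hom, ?_⟩
    have h2 : (AlgSt.ofSch U).p.IsHomLift (𝟙 x.base) (appIso ι x).hom :=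
      appIso_hom_isHomLift ι x rfl
    exact BasedFunctor.preserves_isHomLift (AlgSt.toOverCat U) (𝟙 x.base) (appIso ι x).hom
  rw [key]
  exact hPa

/-- S12845 -/
theorem repByAlgSpWith_iff_forall_space (h𝒳 : FibCat.IsFibGrpd 𝒳.p) (h𝒴 : FibCat.IsFibGrpd 𝒴.p)
    (P : MorphismProperty (Sp S)) (hPb : BaseChangeSp P) (hP : IsLocalOnBase IsFppfCover P)
    (f : 𝒳 ⥤ᵇ 𝒴) :
    AlgSt.RepByAlgSpWith P f ↔
      ∀ (Z : Space S) (z : AlgSt.ofSp Z.obj ⥤ᵇ 𝒴),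
        ∃ (V : Space S) (a : V ⟶ Z) (e : AlgSt.ofSp V.obj ⥤ᵇ FibCat.fp z f),
          FibCat.IsEquivOver e ∧
            Nonempty (BasedFunctor.comp e (FibCat.fpFst z f) ≅ AlgSt.ofSpMap a.hom) ∧ P a.hom := by
  constructor
  · intro hf Z z
    exact exists_space_of_fp P hPb hP h𝒳 h𝒴 f hf Z z
  · intro h U y
    obtain ⟨V, a, e, he, ⟨ι⟩, hPa⟩ := h ((ofScheme S).obj U) (BasedFunctor.comp (AlgSt.toOverCat U) y)
    exact repWith_of_space_chart P f U y V a.hom e he ι hPa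

/-- any morphism of algebraic spaces is representable by algebraic spaces -/
lemma repBySp_of_isAlgSpace {X₀ Y₀ : Sp S} (hX : IsAlgSpace X₀) (hY : IsAlgSpace Y₀) (φ : X₀ ⟶ Y₀) :
    RepBySp φ.hom :=
  (repBySp_hom_iff φ).2 (fun U _ _ _ _ sq =>
    Groth.Agent.H5.AlgSp.isAlgSpace_pullback hY.diag hX (IsAlgSpace.yon_obj U) sq)

/-- S12775: a functor between categories representable by algebraic spaces is representable by
algebraic spaces -/
theorem repByAlgSp1_of_repByAlgSp (hX : AlgSt.RepByAlgSp 𝒳) (hY : AlgSt.RepByAlgSp 𝒴)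
    (f : 𝒳 ⥤ᵇ 𝒴) : AlgSt.RepByAlgSp1 f := by
  obtain ⟨X₀, eX, heX⟩ := hX
  obtain ⟨Y₀, eY, heY⟩ := hY
  obtain ⟨eY', heY', ⟨ε₁⟩, ⟨ε₂⟩⟩ := isEquivOver_symm heY
  let Φ : AlgSt.ofSp X₀.obj ⥤ᵇ AlgSt.ofSp Y₀.obj :=
    BasedFunctor.comp (BasedFunctor.comp eX f) eY'
  obtain ⟨θ⟩ := iso_ofPshMap_pshMapOf Φ
  have hφ : RepBySp (pshMapOf Φ) :=
    repBySp_of_isAlgSpace X₀.property Y₀.property (ObjectProperty.homMk (pshMapOf Φ))
  have h1 : AlgSt.RepByAlgSp1 (Stk.ofPshMap (pshMapOf Φ)) :=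
    (repBySp_iff_repByAlgSp1_ofPshMap (pshMapOf Φ)).1 hφ
  have hs : FibCat.IsFibSetoid 𝒴.p :=
    isFibSetoid_of_isEquivOver eY heY (Groth.Agent.H3.StkAux.isFibSetoid_ofPsh _)
  obtain ⟨e⟩ : Nonempty (BasedFunctor.comp (Stk.ofPshMap (pshMapOf Φ)) eY ≅
      BasedFunctor.comp eX f) := by
    apply iso_of_fiberwise_iso hs
    intro x
    refine ⟨eY.toFunctor.mapIso (appIso θ x).symm ≪≫ appIso ε₂ (f.obj (eX.obj x)), ?_⟩
    have h2 : (AlgSt.ofSp Y₀.obj).p.IsHomLift (𝟙 x.base) (appIso θ x).symm.hom :=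
      appIso_inv_isHomLift θ x rfl
    have h3 : 𝒴.p.IsHomLift (𝟙 x.base) (eY.map (appIso θ x).symm.hom) :=
      BasedFunctor.preserves_isHomLift eY (𝟙 x.base) _
    have h4 : 𝒴.p.IsHomLift (𝟙 x.base) (appIso ε₂ (f.obj (eX.obj x))).hom :=
      appIso_hom_isHomLift ε₂ _ ((f.w_obj _).trans (eX.w_obj x))
    exact @IsHomLift.comp_of_lift_id _ _ _ _ 𝒴.p x.base _ _ _ (eY.map (appIso θ x).symm.hom)
      (appIso ε₂ (f.obj (eX.obj x))).hom h3 h4
  exact repByAlgSp1_of_square' f (Stk.ofPshMap (pshMapOf Φ)) eX eY heX heY e h1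

end Groth.Agent.H3.AlgStComp
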