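import Mathlib
import Groth.Agent.Lib.Helper3.AlgSt.Comp
import Groth.Agent.Lib.Helper3.TwoCartSwap

/-!
# Charts from schemes and from algebraic spaces (helper3)
-/

set_option autoImplicit false
universe u
open CategoryTheory CategoryTheory.Functor CategoryTheory.Limits Opposite AlgebraicGeometry

namespace Groth.Agent.H3.AlgStCharts

open Groth.Agent.H3.FibCatAux Groth.Agent.H3.GerbAux Groth.Agent.H3.FpCalc Groth.Agent.H3.TwoCart
  Groth.Agent.H3.StackPsh Groth.Agent.H3.PshBridge Groth.Agent.H3.AlgStAux Groth.Agent.H3.RepBridge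
  Groth.Agent.H3.SetoidPsh Groth.Agent.H3.BaseChangeSp Groth.Agent.H3.AlgStComp
open AlgSp

variable {S : Scheme.{u}}

lemma isFibSetoid_overCat (U : Over S) : FibCat.IsFibSetoid (FibCat.overCat U).p :=
  isFibSetoid_of_isEquivOver (toOver U) (isEquivOver_toOver U) (Groth.Agent.H3.StkAux.isFibSetoid_ofPsh _)

lemma isFibGrpd_overCat (U : Over S) : FibCat.IsFibGrpd (FibCat.overCat U).p :=
  (isFibSetoid_overCat U).1

variable {𝒳 𝒴 𝒵 : AlgSt.Cat S}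

/-- the two orders of a 2-fibre product are equivalent -/
theorem repByAlgSp_fp_swap (f : 𝒳 ⥤ᵇ 𝒴) (g : 𝒵 ⥤ᵇ 𝒴) (h : AlgSt.RepByAlgSp (FibCat.fp g f)) :
    AlgSt.RepByAlgSp (FibCat.fp f g) :=
  repByAlgSp_of_isEquivOver _ (swap_isTwoCartOver g f) h

/-- S12788 -/
theorem forall_chart_iff_forall_space (h𝒳 : FibCat.IsFibGrpd 𝒳.p) :
    (∀ (U : Over S) (x : FibCat.overCat U ⥤ᵇ 𝒳), AlgSt.RepByAlgSp1 x) ↔
      ∀ (𝒰 : AlgSt.Cat S), FibCat.IsFibGrpd 𝒰.p → AlgSt.RepByAlgSp 𝒰 →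
        ∀ (x : 𝒰 ⥤ᵇ 𝒳), AlgSt.RepByAlgSp1 x := by
  constructor
  · intro h 𝒰 h𝒰 hU x V y
    apply repByAlgSp_fp_swap
    exact repByAlgSp_fp_of_repByAlgSp (isFibGrpd_overCat V) h𝒳 y x (h V y) hU
  · intro h U x
    refine h (FibCat.overCat U) (isFibGrpd_overCat U) ?_ x
    exact ⟨⟨(yon S).obj U, IsAlgSpace.yon_obj U⟩, toOver U, isEquivOver_toOver U⟩

end Groth.Agent.H3.AlgStCharts
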