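import Mathlib
import Groth.Agent.Lib.Helper3.AlgSt.Charts
import Groth.Agent.Lib.Helper3.UnivInjComp

/-!
# Products of categories over `(Sch/S)` representable by algebraic spaces (helper3)
-/

set_option autoImplicit false
universe v₂ u₂ v₃ u₃ v u
open CategoryTheory CategoryTheory.Functor CategoryTheory.Limits Opposite AlgebraicGeometry

namespace Groth.Agent.H3.AlgStProd

open Groth.Agent.H3.FibCatAux Groth.Agent.H3.GerbAux Groth.Agent.H3.FpCalc Groth.Agent.H3.TwoCart
  Groth.Agent.H3.StackPsh Groth.Agent.H3.PshBridge Groth.Agent.H3.AlgStAux Groth.Agent.H3.RepBridge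
  Groth.Agent.H3.SetoidPsh Groth.Agent.H3.BaseChangeSp Groth.Agent.H3.AlgStComp
  Groth.Agent.H3.AlgStCharts
open AlgSp

section General

variable {C : Type u} [Category.{v} C] {𝒜 : BasedCategory.{v₂, u₂} C}

/-- every functor over `C` to `C` over itself is the structure functor -/
lemma eq_toSelf (a : 𝒜 ⥤ᵇ FibCat.selfOver C) : a = FibCat.toSelf 𝒜 := by
  apply basedFunctor_ext
  exact a.w

end General

variable {S : Scheme.{u}}

/-- the terminal sheaf -/
noncomputable def termSp : Sp S := (yon S).obj (Over.mk (𝟙 S))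

noncomputable def termSpIsTerminal : IsTerminal (termSp (S := S)) :=
  IsTerminal.isTerminalObj (yon S) _ Over.mkIdTerminal

lemma toSelf_ofPsh_faithful (P : PSp S) : (FibCat.toSelf (Stk.ofPsh P)).toFunctor.Faithful where
  map_injective := by
    intro a b f g h
    apply Stk.EltObj.hom_ext
    exact h

lemma toSelf_termSp_full : (FibCat.toSelf (Stk.ofPsh (termSp (S := S)).obj)).toFunctor.Full where
  map_surjective := by
    intro a b g
    obtain ⟨g', hg'⟩ : ∃ g' : a.base ⟶ b.base, g' = g := ⟨g, rfl⟩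
    refine ⟨⟨g', ?_⟩, hg'⟩
    apply ULift.ext
    exact Over.mkIdTerminal.hom_ext _ _

/-- the product of the categories of two algebraic spaces is representable by an algebraic space -/
theorem repByAlgSp_prod_ofSp (F G : Space S) :
    AlgSt.RepByAlgSp
      (FibCat.fp (FibCat.toSelf (AlgSt.ofSp F.obj)) (FibCat.toSelf (AlgSt.ofSp G.obj))) := by
  let tF : F.obj ⟶ termSp := termSpIsTerminal.from _
  let tG : G.obj ⟶ termSp := termSpIsTerminal.from _
  have sq := IsPullback.of_hasPullback tF tG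
  have hP : IsAlgSpace (pullback tF tG) :=
    Groth.Agent.H5.AlgSp.isAlgSpace_pullback (IsAlgSpace.yon_obj _).diag F.property G.property sq
  have sq' := (sq.map (sheafToPresheaf (J S) (Type (u + 1)))).flip
  have hL := isTwoCartOver_of_isPullback sq'
  let α : BasedFunctor.comp (Stk.ofPshMap tF.hom) (FibCat.toSelf (Stk.ofPsh (termSp (S := S)).obj)) ≅
      BasedFunctor.comp (BasedFunctor.id _) (FibCat.toSelf (AlgSt.ofSp F.obj)) :=
    eqToIso ((eq_toSelf _).trans (eq_toSelf _).symm)
  let β : BasedFunctor.comp (Stk.ofPshMap tG.hom) (FibCat.toSelf (Stk.ofPsh (termSp (S := S)).obj)) ≅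
      BasedFunctor.comp (BasedFunctor.id _) (FibCat.toSelf (AlgSt.ofSp G.obj)) :=
    eqToIso ((eq_toSelf _).trans (eq_toSelf _).symm)
  let N := fpMap (F' := Stk.ofPshMap tF.hom) (G' := Stk.ofPshMap tG.hom)
    (F := FibCat.toSelf (AlgSt.ofSp F.obj)) (G := FibCat.toSelf (AlgSt.ofSp G.obj))
    (BasedFunctor.id _) (BasedFunctor.id _) (FibCat.toSelf (Stk.ofPsh (termSp (S := S)).obj)) α β
  have hN : FibCat.IsEquivOver N := by
    have := toSelf_termSp_full (S := S)
    have := toSelf_ofPsh_faithful (termSp (S := S)).obj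
    exact isEquivOver_fpMap _ _ _ _ _ isEquivOver_id isEquivOver_id
  exact ⟨⟨pullback tF tG, hP⟩, _, isEquivOver_comp _ N hL hN⟩

/-- the product over the base of two categories representable by algebraic spaces is representable
by an algebraic space -/
theorem repByAlgSp_fp_selfOver {𝒜 : BasedCategory.{v₂, u₂} (Over S)} {ℬ : BasedCategory.{v₃, u₃} (Over S)}
    (a : 𝒜 ⥤ᵇ FibCat.selfOver (Over S)) (b : ℬ ⥤ᵇ FibCat.selfOver (Over S))
    (h𝒜 : AlgSt.RepByAlgSp 𝒜) (hℬ : AlgSt.RepByAlgSp ℬ) : AlgSt.RepByAlgSp (FibCat.fp a b) := by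
  obtain ⟨F, e₁, he₁⟩ := h𝒜
  obtain ⟨G, e₂, he₂⟩ := hℬ
  let α : BasedFunctor.comp (FibCat.toSelf (AlgSt.ofSp F.obj)) (BasedFunctor.id _) ≅
      BasedFunctor.comp e₁ a := eqToIso ((eq_toSelf _).trans (eq_toSelf _).symm)
  let β : BasedFunctor.comp (FibCat.toSelf (AlgSt.ofSp G.obj)) (BasedFunctor.id _) ≅
      BasedFunctor.comp e₂ b := eqToIso ((eq_toSelf _).trans (eq_toSelf _).symm)
  let N := fpMap (F' := FibCat.toSelf (AlgSt.ofSp F.obj)) (G' := FibCat.toSelf (AlgSt.ofSp G.obj))
    (F := a) (G := b) e₁ e₂ (BasedFunctor.id _) α β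
  have hN : FibCat.IsEquivOver N := by
    have : (BasedFunctor.id (FibCat.selfOver (Over S))).toFunctor.Full := Functor.Full.id
    have : (BasedFunctor.id (FibCat.selfOver (Over S))).toFunctor.Faithful := Functor.Faithful.id
    exact isEquivOver_fpMap _ _ _ _ _ he₁ he₂
  exact repByAlgSp_of_isEquivOver N hN (repByAlgSp_prod_ofSp F G)

end Groth.Agent.H3.AlgStProd
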