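import Mathlib
import Groth.Agent.Lib.Helper3.AlgSt.Prod

/-!
# The diagonal and charts (helper3)
-/

set_option autoImplicit false
universe v₂ u₂ v₃ u₃ v u
open CategoryTheory CategoryTheory.Functor CategoryTheory.Limits Opposite AlgebraicGeometry

namespace Groth.Agent.H3.AlgStDiag

open Groth.Agent.H3.FibCatAux Groth.Agent.H3.GerbAux Groth.Agent.H3.FpCalc Groth.Agent.H3.TwoCart
  Groth.Agent.H3.StackPsh Groth.Agent.H3.PshBridge Groth.Agent.H3.AlgStAux Groth.Agent.H3.RepBridge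
  Groth.Agent.H3.SetoidPsh Groth.Agent.H3.BaseChangeSp Groth.Agent.H3.AlgStComp
  Groth.Agent.H3.AlgStCharts Groth.Agent.H3.AlgStProd
open AlgSp

variable {S : Scheme.{u}} {𝒳 𝒜 ℬ : AlgSt.Cat S}

lemma isFibGrpd_prod (h𝒳 : FibCat.IsFibGrpd 𝒳.p) :
    FibCat.IsFibGrpd (FibCat.fp (FibCat.toSelf 𝒳) (FibCat.toSelf 𝒳)).p :=
  X6401 _ _ h𝒳 h𝒳 isFibGrpd_id

/-- if the diagonal is representable by algebraic spaces, then the 2-fibre product of two categories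
representable by algebraic spaces over `𝒳` is representable by an algebraic space -/
theorem repByAlgSp_fp_of_diag (h𝒳 : FibCat.IsFibGrpd 𝒳.p)
    (hΔ : AlgSt.RepByAlgSp1 (FibCat.diag (FibCat.toSelf 𝒳)))
    (f : 𝒜 ⥤ᵇ 𝒳) (g : ℬ ⥤ᵇ 𝒳) (hA : AlgSt.RepByAlgSp 𝒜) (hB : AlgSt.RepByAlgSp ℬ) :
    AlgSt.RepByAlgSp (FibCat.fp f g) := by
  have he : ∀ W, (magicIso f g (FibCat.toSelf 𝒳)).hom.toNatTrans.app W =
      (FibCat.toSelf 𝒳).map W.obj.iso.hom := fun W => magicIso_app f g _ W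
  have hE := magic_isTwoCartOver f g (FibCat.toSelf 𝒳) (magicIso f g _) he
  obtain ⟨E', hE', -, -⟩ := isEquivOver_symm hE
  refine repByAlgSp_of_isEquivOver E' hE' ?_
  exact repByAlgSp_fp_of_repByAlgSp h𝒳 (isFibGrpd_prod h𝒳) (FibCat.diag (FibCat.toSelf 𝒳))
    (magicR f g (FibCat.toSelf 𝒳)) hΔ (repByAlgSp_fp_selfOver _ _ hA hB)

/-- S12765, forward direction -/
theorem repByAlgSp1_chart_of_diag (h𝒳 : FibCat.IsFibGrpd 𝒳.p)
    (hΔ : AlgSt.RepByAlgSp1 (FibCat.diag (FibCat.toSelf 𝒳)))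
    (U : Over S) (x : FibCat.overCat U ⥤ᵇ 𝒳) : AlgSt.RepByAlgSp1 x := by
  intro V y
  have hU : AlgSt.RepByAlgSp (FibCat.overCat U) :=
    ⟨⟨(yon S).obj U, IsAlgSpace.yon_obj U⟩, toOver U, isEquivOver_toOver U⟩
  have hV : AlgSt.RepByAlgSp (FibCat.overCat V) :=
    ⟨⟨(yon S).obj V, IsAlgSpace.yon_obj V⟩, toOver V, isEquivOver_toOver V⟩
  exact repByAlgSp_fp_of_diag h𝒳 hΔ y x hV hU

section Factor

variable {𝒳' 𝒴' 𝒮 𝒲 𝒵 : BasedCategory.{u, u + 1} (Over S)}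

/-- fibre products with a functor factoring through one side of a 2-cartesian square -/
theorem repByAlgSp_fp_comp_of_isTwoCartOver (F : 𝒳' ⥤ᵇ 𝒮) (G : 𝒴' ⥤ᵇ 𝒮) (a : 𝒲 ⥤ᵇ 𝒳') (b : 𝒲 ⥤ᵇ 𝒴')
    (e : BasedFunctor.comp a F ≅ BasedFunctor.comp b G) (h : FibCat.IsTwoCartOver a b e)
    (δ : 𝒵 ⥤ᵇ 𝒳') (hr : AlgSt.RepByAlgSp (FibCat.fp δ a)) :
    AlgSt.RepByAlgSp (FibCat.fp (BasedFunctor.comp δ F) G) := by
  let α : BasedFunctor.comp δ (BasedFunctor.id 𝒳') ≅ BasedFunctor.comp (BasedFunctor.id 𝒵) δ :=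
    Iso.refl _
  let β : BasedFunctor.comp a (BasedFunctor.id 𝒳') ≅
      BasedFunctor.comp (FibCat.fpLift a b e) (FibCat.fpFst F G) := Iso.refl _
  let N := fpMap (F' := δ) (G' := a) (F := δ) (G := FibCat.fpFst F G) (BasedFunctor.id 𝒵)
    (FibCat.fpLift a b e) (BasedFunctor.id 𝒳') α β
  have hN : FibCat.IsEquivOver N := by
    have : (BasedFunctor.id 𝒳').toFunctor.Full := Functor.Full.id
    have : (BasedFunctor.id 𝒳').toFunctor.Faithful := Functor.Faithful.id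
    exact isEquivOver_fpMap _ _ _ _ _ isEquivOver_id h
  exact repByAlgSp_of_isEquivOver (pasteL δ F G) (isEquivOver_pasteL δ F G)
    (repByAlgSp_of_isEquivOver N hN hr)

/-- 2-fibre products along 2-isomorphic functors -/
theorem repByAlgSp_fp_of_iso {y y' : 𝒵 ⥤ᵇ 𝒮} (ι : y ≅ y') (G : 𝒴' ⥤ᵇ 𝒮)
    (hr : AlgSt.RepByAlgSp (FibCat.fp y' G)) : AlgSt.RepByAlgSp (FibCat.fp y G) := by
  let α : BasedFunctor.comp y' (BasedFunctor.id 𝒮) ≅ BasedFunctor.comp (BasedFunctor.id 𝒵) y :=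
    ι.symm
  let N := fpMap (F' := y') (G' := G) (F := y) (G := G) (BasedFunctor.id 𝒵)
    (BasedFunctor.id 𝒴') (BasedFunctor.id 𝒮) α (idSq G)
  have hN : FibCat.IsEquivOver N := by
    have : (BasedFunctor.id 𝒮).toFunctor.Full := Functor.Full.id
    have : (BasedFunctor.id 𝒮).toFunctor.Faithful := Functor.Faithful.id
    exact isEquivOver_fpMap _ _ _ _ _ isEquivOver_id isEquivOver_id
  exact repByAlgSp_of_isEquivOver N hN hr

end Factor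

section Converse

/-- morphisms of `C` over itself lying over the same identity are equal -/
lemma selfOver_hom_eq {C : Type u₂} [Category.{v₂} C] {A B R : C} (φ ψ : A ⟶ B)
    (h1 : (𝟭 C).IsHomLift (𝟙 R) φ) (h2 : (𝟭 C).IsHomLift (𝟙 R) ψ) : φ = ψ := by
  have e1 := IsHomLift.fac' (𝟭 C) (𝟙 R) φ
  have e2 := IsHomLift.fac' (𝟭 C) (𝟙 R) ψ
  exact e1.trans e2.symm

/-- S12765, converse direction -/
theorem repByAlgSp1_diag_of_charts (_h𝒳 : FibCat.IsFibGrpd 𝒳.p)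
    (h : ∀ (U : Over S) (x : FibCat.overCat U ⥤ᵇ 𝒳), AlgSt.RepByAlgSp1 x) :
    AlgSt.RepByAlgSp1 (FibCat.diag (FibCat.toSelf 𝒳)) := by
  intro U y
  let x₁ : FibCat.overCat U ⥤ᵇ 𝒳 := BasedFunctor.comp y (FibCat.fpFst _ _)
  let x₂ : FibCat.overCat U ⥤ᵇ 𝒳 := BasedFunctor.comp y (FibCat.fpSnd _ _)
  have hU : AlgSt.RepByAlgSp (FibCat.overCat U) :=
    ⟨⟨(yon S).obj U, IsAlgSpace.yon_obj U⟩, toOver U, isEquivOver_toOver U⟩
  have hW : AlgSt.RepByAlgSp (FibCat.fp x₁ x₂) := h U x₂ U x₁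
  have hPr : AlgSt.RepByAlgSp (FibCat.fp (BasedFunctor.comp x₁ (FibCat.toSelf 𝒳))
      (BasedFunctor.comp x₂ (FibCat.toSelf 𝒳))) := repByAlgSp_fp_selfOver _ _ hU hU
  let e₀ : BasedFunctor.comp (BasedFunctor.id (FibCat.overCat U))
        (BasedFunctor.comp x₁ (FibCat.toSelf 𝒳)) ≅
      BasedFunctor.comp (BasedFunctor.id (FibCat.overCat U))
        (BasedFunctor.comp x₂ (FibCat.toSelf 𝒳)) :=
    eqToIso ((eq_toSelf _).trans (eq_toSelf _).symm)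
  let δ : FibCat.overCat U ⥤ᵇ FibCat.fp (BasedFunctor.comp x₁ (FibCat.toSelf 𝒳))
      (BasedFunctor.comp x₂ (FibCat.toSelf 𝒳)) :=
    FibCat.fpLift (BasedFunctor.id _) (BasedFunctor.id _) e₀
  have he : ∀ W, (magicIso x₁ x₂ (FibCat.toSelf 𝒳)).hom.toNatTrans.app W =
      (FibCat.toSelf 𝒳).map W.obj.iso.hom := fun W => magicIso_app x₁ x₂ _ W
  have hI : AlgSt.RepByAlgSp1 (magicI x₁ x₂ (FibCat.toSelf 𝒳) (magicIso x₁ x₂ _)) :=
    repByAlgSp1_of_repByAlgSp hW hPr _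
  have h1 := hI U δ
  have h2 := repByAlgSp_fp_comp_of_isTwoCartOver (magicR x₁ x₂ (FibCat.toSelf 𝒳))
    (FibCat.diag (FibCat.toSelf 𝒳)) (magicI x₁ x₂ (FibCat.toSelf 𝒳) (magicIso x₁ x₂ _))
    (magicL x₁ x₂) (magicE x₁ x₂ _ (magicIso x₁ x₂ _) he)
    (magic_isTwoCartOver x₁ x₂ _ (magicIso x₁ x₂ _) he) δ h1
  have hw : ∀ a : (FibCat.overCat U).obj,
      (FibCat.toSelf 𝒳).map (Iso.refl (y.obj a).obj.fst).hom ≫
        ((BasedFunctor.comp δ (magicR x₁ x₂ (FibCat.toSelf 𝒳))).obj a).obj.iso.hom =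
      (y.obj a).obj.iso.hom ≫ (FibCat.toSelf 𝒳).map (Iso.refl (y.obj a).obj.snd).hom := by
    intro a
    have b1 : (FibCat.toSelf 𝒳).map (Iso.refl (y.obj a).obj.fst).hom = 𝟙 _ :=
      (FibCat.toSelf 𝒳).toFunctor.map_id _
    have b2 : (FibCat.toSelf 𝒳).map (Iso.refl (y.obj a).obj.snd).hom = 𝟙 _ :=
      (FibCat.toSelf 𝒳).toFunctor.map_id _
    rw [b1, b2, Category.id_comp, Category.comp_id]
    have c1 : (𝟭 (Over S)).IsHomLift (𝟙 (𝒳.p.obj (y.obj a).obj.fst)) (y.obj a).obj.iso.hom :=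
      (y.obj a).property
    have c2 : (𝟭 (Over S)).IsHomLift (𝟙 (𝒳.p.obj (y.obj a).obj.fst))
        ((BasedFunctor.comp δ (magicR x₁ x₂ (FibCat.toSelf 𝒳))).obj a).obj.iso.hom :=
      ((BasedFunctor.comp δ (magicR x₁ x₂ (FibCat.toSelf 𝒳))).obj a).property
    exact selfOver_hom_eq _ _ c2 c1
  let ι : y ≅ BasedFunctor.comp δ (magicR x₁ x₂ (FibCat.toSelf 𝒳)) :=
    BasedNatIso.mkNatIso
      (NatIso.ofComponents
        (fun a => fpIsoMk (X := y.obj a)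
          (Y := (BasedFunctor.comp δ (magicR x₁ x₂ (FibCat.toSelf 𝒳))).obj a)
          (Iso.refl _) (Iso.refl _) (hw a))
        (by
          intro a a' φ
          apply fp_hom_ext
          · show (y.map φ).hom.fst ≫ 𝟙 _ = 𝟙 _ ≫ (y.map φ).hom.fst
            rw [Category.comp_id, Category.id_comp]
          · show (y.map φ).hom.snd ≫ 𝟙 _ = 𝟙 _ ≫ (y.map φ).hom.snd
            rw [Category.comp_id, Category.id_comp]))
      (by
        intro a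
        rw [fp_isHomLift_iff]
        show 𝒳.p.IsHomLift (𝟙 _) (𝟙 (y.obj a).obj.fst)
        exact IsHomLift.of_fac' 𝒳.p _ _ ((FibCat.fpFst _ _).w_obj (y.obj a) |>.trans (y.w_obj a))
          ((FibCat.fpFst _ _).w_obj (y.obj a) |>.trans (y.w_obj a)) (by simp))
  exact repByAlgSp_fp_of_iso ι (FibCat.diag (FibCat.toSelf 𝒳)) h2

/-- S12765 -/
theorem repByAlgSp1_diag_iff (h𝒳 : FibCat.IsFibGrpd 𝒳.p) :
    AlgSt.RepByAlgSp1 (FibCat.diag (FibCat.toSelf 𝒳)) ↔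
      ∀ (U : Over S) (x : FibCat.overCat U ⥤ᵇ 𝒳), AlgSt.RepByAlgSp1 x :=
  ⟨fun hΔ U x => repByAlgSp1_chart_of_diag h𝒳 hΔ U x, repByAlgSp1_diag_of_charts h𝒳⟩

end Converse

end Groth.Agent.H3.AlgStDiag
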