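import Mathlib
import Groth.Agent.Lib.Helper3.AlgSt.DiagCharts

/-!
# Algebraic spaces are Deligne-Mumford stacks (helper3)
-/

set_option autoImplicit false
universe v₂ u₂ v₃ u₃ v u
open CategoryTheory CategoryTheory.Functor CategoryTheory.Limits Opposite AlgebraicGeometry

namespace Groth.Agent.H3.AlgStSpaceDM

open Groth.Agent.H3.FibCatAux Groth.Agent.H3.GerbAux Groth.Agent.H3.FpCalc Groth.Agent.H3.TwoCart
  Groth.Agent.H3.StackPsh Groth.Agent.H3.PshBridge Groth.Agent.H3.AlgStAux Groth.Agent.H3.RepBridge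
  Groth.Agent.H3.SetoidPsh Groth.Agent.H3.BaseChangeSp Groth.Agent.H3.AlgStComp
  Groth.Agent.H3.AlgStCharts Groth.Agent.H3.AlgStProd Groth.Agent.H3.AlgStDiag
open AlgSp

variable {S : Scheme.{u}}

/-- a morphism of sheaves representable by schemes with `P` is representable by algebraic spaces
with any `Q` implied by `P` -/
theorem repBySpWith_of_repWith (P : MorphismProperty Scheme.{u}) [P.IsStableUnderBaseChange]
    (Q : MorphismProperty (Sp S))
    (hQ : ∀ ⦃F G : Sp S⦄ (f : F ⟶ G), RepWith P f → Q f) {F G : Sp S} (a : F ⟶ G)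
    (ha : RepWith P a) : RepBySpWith Q a.hom := by
  rw [repBySpWith_hom_iff]
  intro U ξ F' fst snd sq
  refine ⟨(repBySp_hom_iff a).1 (Representable.repBySp ha.rep) ξ fst snd sq, hQ snd ?_⟩
  exact (RepWith P).of_isPullback sq ha

/-- a chart from a scheme, as a functor -/
abbrev chartOf {F : Sp S} {U : Over S} (a : (yon S).obj U ⟶ F) : FibCat.overCat U ⥤ᵇ AlgSt.ofSp F :=
  BasedFunctor.comp (ofOver U) (AlgSt.ofSpMap a)

theorem repByAlgSpWith_chartOf (P : MorphismProperty Scheme.{u}) [P.IsStableUnderBaseChange]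
    (Q : MorphismProperty (Sp S))
    (hQ : ∀ ⦃F G : Sp S⦄ (f : F ⟶ G), RepWith P f → Q f) {F : Sp S} {U : Over S}
    (a : (yon S).obj U ⟶ F) (ha : RepWith P a) : AlgSt.RepByAlgSpWith Q (chartOf a) := by
  have h1 : AlgSt.RepByAlgSpWith Q (Stk.ofPshMap a.hom) :=
    repByAlgSpWith_ofPshMap_of_repBySpWith a.hom Q (repBySpWith_of_repWith P Q hQ a ha)
  exact repByAlgSpWith_of_square Q (Stk.ofPshMap a.hom) (chartOf a) (ofOver U) (BasedFunctor.id _)
    (isEquivOver_ofOver U) isEquivOver_id (Iso.refl _) h1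

open Groth.Agent.H5.AlgSp in
/-- the category of an algebraic space is a Deligne-Mumford stack -/
theorem isDM_ofSp (F : Space S) : AlgSt.IsDM Scheme.fppfPrecoverage (AlgSt.ofSp F.obj) := by
  obtain ⟨U, a, hae, has⟩ := F.property.atlas
  have hsurj : AlgSt.RepByAlgSpWith IsSurjectiveMor (chartOf a) :=
    repByAlgSpWith_chartOf @Surjective _
      (fun _ _ f hf => points_map_surjective_of_repWith hf) a has
  have het : AlgSt.RepByAlgSpWith IsEtaleMor (chartOf a) :=
    repByAlgSpWith_chartOf @Etale _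
      (fun _ _ f hf U φ hφ => (RepWith @Etale).comp_mem _ _ hφ hf) a hae
  have hsm : AlgSt.RepByAlgSpWith (LocP @Smooth) (chartOf a) := by
    have h1 : (@Etale : MorphismProperty Scheme.{u}) ≤ @Smooth :=
      fun _ _ f hf => by have : Etale f := hf; infer_instance
    exact repByAlgSpWith_chartOf @Etale _
      (fun _ _ f hf => locP_of_repWith h1 (repWith_mono h1 hf)) a hae
  have hself : AlgSt.RepByAlgSp (AlgSt.ofSp F.obj) := ⟨F, BasedFunctor.id _, isEquivOver_id⟩
  refine ⟨⟨?_, ?_, ⟨U, chartOf a, hsm, hsurj⟩⟩, ⟨U, chartOf a, het, hsurj⟩⟩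
  · exact (isStack_ofPsh_iff _ _).2 ((isSheaf_iff_isSheaf_of_type _ _).1 F.obj.property)
  · refine repByAlgSp1_diag_of_charts (Stk.isFibGrpd_ofPsh _) (fun V x => ?_)
    have hV : AlgSt.RepByAlgSp (FibCat.overCat V) :=
      ⟨⟨(yon S).obj V, IsAlgSpace.yon_obj V⟩, toOver V, isEquivOver_toOver V⟩
    exact repByAlgSp1_of_repByAlgSp hV hself x

/-- S12772 -/
theorem isDM_of_repByAlgSp {𝒳 : AlgSt.Cat S} (hr : AlgSt.RepByAlgSp 𝒳) :
    AlgSt.IsDM Scheme.fppfPrecoverage 𝒳 := by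
  obtain ⟨F, e, he⟩ := hr
  exact (isDM_iff_of_isEquivOver e he).1 (isDM_ofSp F)

end Groth.Agent.H3.AlgStSpaceDM
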