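import Mathlib
import Groth.Agent.Lib.Helper3.AlgSt.SpaceDM
import Groth.Agent.Lib.Helper3.StackFibrewise

/-!
# Stacks and functors representable by algebraic spaces (helper3)
-/

set_option autoImplicit false
universe v₂ u₂ v₃ u₃ v u
open CategoryTheory CategoryTheory.Functor CategoryTheory.Limits Opposite AlgebraicGeometry

namespace Groth.Agent.H3.AlgStStackRep

open Groth.Agent.H3.FibCatAux Groth.Agent.H3.GerbAux Groth.Agent.H3.FpCalc Groth.Agent.H3.TwoCart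
  Groth.Agent.H3.StackPsh Groth.Agent.H3.PshBridge Groth.Agent.H3.AlgStAux Groth.Agent.H3.RepBridge
  Groth.Agent.H3.SetoidPsh Groth.Agent.H3.BaseChangeSp Groth.Agent.H3.AlgStComp
  Groth.Agent.H3.AlgStCharts Groth.Agent.H3.AlgStProd Groth.Agent.H3.AlgStDiag
  Groth.Agent.H3.AlgStSpaceDM Groth.Agent.H3.StackFibrewise
open AlgSp

variable {S : Scheme.{u}} {𝒳 𝒴 𝒵 : AlgSt.Cat S}

/-- a category representable by an algebraic space is a stack for the fppf topology -/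
theorem isStack_of_repByAlgSp (h : AlgSt.RepByAlgSp 𝒵) :
    Stk.IsStack (QuotSh.J Scheme.fppfPrecoverage S) 𝒵 := by
  obtain ⟨F, e, he⟩ := h
  refine isStack_of_isEquivOver _ e he ?_
  exact (isStack_ofPsh_iff _ _).2 ((isSheaf_iff_isSheaf_of_type _ _).1 F.obj.property)

/-- S12767 -/
theorem isStack_of_repByAlgSp1 (h𝒳 : FibCat.IsFibGrpd 𝒳.p)
    (h𝒴 : Stk.IsStack (QuotSh.J Scheme.fppfPrecoverage S) 𝒴) (j : 𝒳 ⥤ᵇ 𝒴)
    (hj : AlgSt.RepByAlgSp1 j) : Stk.IsStack (QuotSh.J Scheme.fppfPrecoverage S) 𝒳 :=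
  isStack_of_fibrewise j _ h𝒳 h𝒴 (fun U y => isStack_of_repByAlgSp (hj U y))

/-- the second projection of a 2-fibre product is a base change of the first functor -/
theorem repByAlgSp1_fpSnd (f : 𝒳 ⥤ᵇ 𝒵) (g : 𝒴 ⥤ᵇ 𝒵) (hf : AlgSt.RepByAlgSp1 f) :
    AlgSt.RepByAlgSp1 (FibCat.fpSnd f g) := by
  have h1 : AlgSt.RepByAlgSp1 (FibCat.fpFst g f) := repByAlgSp1_fpFst f g hf
  exact repByAlgSp1_of_square (FibCat.fpFst g f) (FibCat.fpSnd f g)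
    (FibCat.fpLift (FibCat.fpSnd f g) (FibCat.fpFst f g) (FibCat.fpIso f g).symm)
    (BasedFunctor.id _) (swap_isTwoCartOver f g) isEquivOver_id (Iso.refl _) h1

theorem repByAlgSpWith_fpSnd (P : MorphismProperty (Sp S)) (f : 𝒳 ⥤ᵇ 𝒵) (g : 𝒴 ⥤ᵇ 𝒵)
    (hf : AlgSt.RepByAlgSpWith P f) : AlgSt.RepByAlgSpWith P (FibCat.fpSnd f g) := by
  have h1 : AlgSt.RepByAlgSpWith P (FibCat.fpFst g f) := repByAlgSpWith_fpFst P f g hf
  exact repByAlgSpWith_of_square P (FibCat.fpFst g f) (FibCat.fpSnd f g)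
    (FibCat.fpLift (FibCat.fpSnd f g) (FibCat.fpFst f g) (FibCat.fpIso f g).symm)
    (BasedFunctor.id _) (swap_isTwoCartOver f g) isEquivOver_id (Iso.refl _) h1

/-- S12769 -/
theorem isStack_fp_of_repByAlgSp1 (h𝒳 : FibCat.IsFibGrpd 𝒳.p) (h𝒵 : FibCat.IsFibGrpd 𝒵.p)
    (h𝒴 : Stk.IsStack (QuotSh.J Scheme.fppfPrecoverage S) 𝒴) (f : 𝒳 ⥤ᵇ 𝒵) (g : 𝒴 ⥤ᵇ 𝒵)
    (hf : AlgSt.RepByAlgSp1 f) :
    Stk.IsStack (QuotSh.J Scheme.fppfPrecoverage S) (FibCat.fp f g) :=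
  isStack_of_repByAlgSp1 (X6401 f g h𝒳 h𝒴.1 h𝒵) h𝒴 (FibCat.fpSnd f g) (repByAlgSp1_fpSnd f g hf)

end Groth.Agent.H3.AlgStStackRep
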