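import Mathlib
import Groth.Agent.Lib.Helper3.AlgSt.StackRep
import Groth.Agent.Lib.Helper3.AlgSpCov.LocPBaseInst
import Groth.Agent.Lib.Helper3.AlgSpCov.Covers
import Groth.Agent.Lib.Helper8.AlgSp.MorCalc
import Groth.Agent.Lib.Helper3.AlgSpCov.RepBase
import Groth.Agent.Lib.Helper3.AlgSpCov.QCBase
import Groth.Agent.Lib.Helper5.AlgSp.Proper

/-!
# Good properties of morphisms of algebraic spaces (helper3)

`Good P`: stable under base change and composition among algebraic spaces and fppf local on the base.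
-/

set_option autoImplicit false
universe v₂ u₂ v₃ u₃ v u
open CategoryTheory CategoryTheory.Functor CategoryTheory.Limits Opposite AlgebraicGeometry

namespace Groth.Agent.H3.AlgStProps

open Groth.Agent.H3.BaseChangeSp Groth.Agent.H3.AlgStComp Groth.Agent.H3.AlgSpCov
  Groth.Agent.H5.AlgSp Groth.Agent.H5.EtSrc
open AlgSp

variable {S : Scheme.{u}}

theorem isLocalOnBase_fppf_of_fpqc {Q : MorphismProperty (Sp S)}
    (h : IsLocalOnBase (IsFpqcCover (S := S)) Q) : IsLocalOnBase (IsFppfCover (S := S)) Q := by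
  intro ι Y Yi g hY hYi hcov
  exact h Yi g hY hYi (isFpqcCover_of_isFppfCover hY Yi hYi g hcov)

theorem baseChangeSp_of_bcStable {Q : MorphismProperty (Sp S)} (h : BCStable Q) : BaseChangeSp Q :=
  fun _ _ _ _ hX₁ hY₁ _ hY₂ a b a' b' sq ha => h a b b' a' hX₁ hY₁ hY₂ sq ha

/-- the three standing hypotheses on a property of morphisms of algebraic spaces -/
structure Good (P : MorphismProperty (Sp S)) : Prop where
  bc : BaseChangeSp P
  comp : CompSp P
  loc : IsLocalOnBase (IsFppfCover (S := S)) P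

theorem Good.and {P Q : MorphismProperty (Sp S)} (hP : Good P) (hQ : Good Q) :
    Good (fun _ _ f => P f ∧ Q f) where
  bc := fun _ _ _ _ h1 h2 h3 h4 a b a' b' sq h =>
    ⟨hP.bc h1 h2 h3 h4 a b a' b' sq h.1, hQ.bc h1 h2 h3 h4 a b a' b' sq h.2⟩
  comp := fun _ _ _ h1 h2 h3 a b ha hb =>
    ⟨hP.comp h1 h2 h3 a b ha.1 hb.1, hQ.comp h1 h2 h3 a b ha.2 hb.2⟩
  loc := isLocalOnBase_and hP.loc hQ.loc

theorem good_top : Good (⊤ : MorphismProperty (Sp S)) :=
  ⟨baseChangeSp_top, compSp_top, isLocalOnBase_top⟩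

section LocP

variable {P : MorphismProperty Scheme.{u}} [P.IsStableUnderBaseChange]
  [P.IsStableUnderComposition] [IsEtaleLocalSource P]

theorem good_locP (hP : (@Etale : MorphismProperty Scheme.{u}) ≤ P)
    [IsZariskiLocalAtTarget P] [P.DescendsAlong (@Surjective ⊓ @Flat ⊓ @QuasiCompact)] :
    Good (LocP (S := S) P) where
  bc := baseChangeSp_of_bcStable (bcStable_locP hP)
  comp := fun _ _ _ hX hY hZ a b ha hb => locP_comp hP hX hY hZ ha hb
  loc := isLocalOnBase_fppf_of_fpqc (isLocalOnBase_fpqc_locP hP)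

end LocP

theorem good_smooth : Good (LocP (S := S) @Smooth) := good_locP etale_le_smooth

theorem good_locP_etale : Good (LocP (S := S) @Etale) := good_locP le_rfl

theorem good_isSurjectiveMor : Good (IsSurjectiveMor (S := S)) where
  bc := fun _ _ _ _ _ _ _ _ a b a' b' sq ha =>
    Groth.Agent.H8.AlgSp.isSurjectiveMor_baseChange sq ha
  comp := fun _ _ _ _ _ _ a b ha hb => Groth.Agent.H8.AlgSp.isSurjectiveMor_comp ha hb
  loc := by
    intro ι Y Yi g hY hYi hcov X f hX Xi p q hXi sq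
    constructor
    · intro hf i
      exact Groth.Agent.H8.AlgSp.isSurjectiveMor_baseChange (sq i) hf
    · intro hp y
      obtain ⟨i, yi, hyi⟩ := hcov.2 y
      obtain ⟨xi, hxi⟩ := hp i yi
      refine ⟨Points.map (q i) xi, ?_⟩
      rw [← Points.map_comp, (sq i).w, Points.map_comp, hxi, hyi]

theorem good_isEtaleMor : Good (IsEtaleMor (S := S)) where
  bc := fun _ _ _ _ hX₁ hY₁ hX₂ hY₂ a b a' b' sq ha => by
    rw [isEtaleMor_iff_locP hY₂]
    rw [isEtaleMor_iff_locP hY₁] at ha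
    exact good_locP_etale.bc hX₁ hY₁ hX₂ hY₂ a b a' b' sq ha
  comp := fun _ _ _ hX hY hZ a b ha hb => by
    rw [isEtaleMor_iff_locP hZ]
    rw [isEtaleMor_iff_locP hY] at ha
    rw [isEtaleMor_iff_locP hZ] at hb
    exact good_locP_etale.comp hX hY hZ a b ha hb
  loc := isLocalOnBase_fppf_of_fpqc isLocalOnBase_fpqc_isEtaleMor

theorem good_lft : Good (LocP (S := S) @LocallyOfFiniteType) := good_locP AlgSpCov.etale_le_lft

theorem good_lfp : Good (LocP (S := S) @LocallyOfFinitePresentation) := good_locP etale_le_lfp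

theorem good_flat : Good (LocP (S := S) @Flat) := good_locP etale_le_flat

theorem good_unram : Good (LocP (S := S) (@LocallyOfFiniteType ⊓ @FormallyUnramified)) :=
  good_locP (fun _ _ f hf => by
    have : Etale f := hf
    exact ⟨inferInstance, inferInstance⟩)

theorem good_lqf : Good (LocP (S := S) (@LocallyQuasiFinite ⊓ @LocallyOfFiniteType)) :=
  good_locP (fun _ _ f hf => by
    have : Etale f := hf
    exact ⟨locallyQuasiFinite_of_etale f, inferInstance⟩)

theorem good_isProperMor : Good (IsProperMor (S := S)) where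
  bc := fun _ _ _ _ hX₁ hY₁ _ hY₂ _ _ _ _ sq ha => isProperMor_of_isPullback sq hX₁ hY₁ hY₂ ha
  comp := fun _ _ _ hX hY hZ _ _ ha hb => isProperMor_comp hX hY hZ ha hb
  loc := isLocalOnBase_fppf_of_fpqc isLocalOnBase_fpqc_isProperMor

theorem good_isSeparatedMor : Good (IsSeparatedMor (S := S)) where
  bc := fun _ _ _ _ _ _ _ _ _ _ _ _ sq ha => repWith_diag_of_isPullback sq ha
  comp := fun _ _ _ _ _ _ _ _ ha hb => isSeparatedMor_comp ha hb
  loc := isLocalOnBase_fppf_of_fpqc isLocalOnBase_fpqc_isSeparatedMor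

theorem good_isQuasiSeparatedMor : Good (IsQuasiSeparatedMor (S := S)) where
  bc := fun _ _ _ _ _ _ _ _ _ _ _ _ sq ha => repWith_diag_of_isPullback sq ha
  comp := fun _ _ _ _ _ _ _ _ ha hb => isQuasiSeparatedMor_comp ha hb
  loc := isLocalOnBase_fppf_of_fpqc isLocalOnBase_fpqc_isQuasiSeparatedMor

theorem good_isQuasiCompactMor : Good (IsQuasiCompactMor (S := S)) where
  bc := baseChangeSp_of_bcStable bcStable_isQuasiCompactMor
  comp := fun _ _ _ _ hY hZ _ _ ha hb => isQuasiCompactMor_comp hY hZ ha hb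
  loc := isLocalOnBase_fppf_of_fpqc isLocalOnBase_fpqc_isQuasiCompactMor

theorem good_qcqs : Good ((IsQuasiCompactMor ⊓ IsQuasiSeparatedMor : MorphismProperty (Sp S))) :=
  good_isQuasiCompactMor.and good_isQuasiSeparatedMor

theorem good_monomorphisms : Good (MorphismProperty.monomorphisms (Sp S)) where
  bc := fun _ _ _ _ _ _ _ _ _ _ _ _ sq ha =>
    MorphismProperty.of_isPullback (P := MorphismProperty.monomorphisms (Sp S)) sq ha
  comp := fun _ _ _ _ _ _ _ _ ha hb => (MorphismProperty.monomorphisms (Sp S)).comp_mem _ _ ha hb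
  loc := isLocalOnBase_fppf_of_fpqc isLocalOnBase_fpqc_monomorphisms

/-- weaker standing hypotheses: base change, composition and "can be checked on charts" -/
structure GoodC (P : MorphismProperty (Sp S)) : Prop where
  bc : BaseChangeSp P
  comp : CompSp P
  charts : OfCharts P

theorem Good.toC {P : MorphismProperty (Sp S)} (h : Good P) : GoodC P :=
  ⟨h.bc, h.comp, ofCharts_of_isLocalOnBase P h.loc⟩

theorem goodC_repWith (P₀ : MorphismProperty Scheme.{u}) [P₀.IsStableUnderBaseChange]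
    [P₀.IsMultiplicative] : GoodC (RepWith (S := S) P₀) where
  bc := fun _ _ _ _ _ _ _ _ _ _ _ _ sq ha =>
    MorphismProperty.of_isPullback (P := RepWith (S := S) P₀) sq ha
  comp := fun _ _ _ _ _ _ _ _ ha hb => (RepWith (S := S) P₀).comp_mem _ _ ha hb
  charts := ofCharts_repWith P₀

theorem GoodC.and {P Q : MorphismProperty (Sp S)} (hP : GoodC P) (hQ : GoodC Q) :
    GoodC (fun _ _ f => P f ∧ Q f) where
  bc := fun _ _ _ _ h1 h2 h3 h4 a b a' b' sq h =>
    ⟨hP.bc h1 h2 h3 h4 a b a' b' sq h.1, hQ.bc h1 h2 h3 h4 a b a' b' sq h.2⟩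
  comp := fun _ _ _ h1 h2 h3 a b ha hb =>
    ⟨hP.comp h1 h2 h3 a b ha.1 hb.1, hQ.comp h1 h2 h3 a b ha.2 hb.2⟩
  charts := fun _ _ hX hY b h =>
    ⟨hP.charts hX hY b (fun U ξ F' fst snd sq => by
        obtain ⟨hs, hA, h2⟩ := h ξ fst snd sq
        exact ⟨hs, hA, h2.1⟩),
      hQ.charts hX hY b (fun U ξ F' fst snd sq => by
        obtain ⟨hs, hA, h2⟩ := h ξ fst snd sq
        exact ⟨hs, hA, h2.2⟩)⟩

/-- composition of 1-morphisms representable by algebraic spaces with `P` -/
theorem GoodC.repComp {P : MorphismProperty (Sp S)} (hP : GoodC P)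
    {𝒳 𝒴 𝒵 : BasedCategory.{u, u + 1} (Over S)} (h𝒳 : FibCat.IsFibGrpd 𝒳.p)
    (h𝒴 : FibCat.IsFibGrpd 𝒴.p) (f : 𝒳 ⥤ᵇ 𝒴) (g : 𝒴 ⥤ᵇ 𝒵)
    (hf : AlgSt.RepByAlgSpWith P f) (hg : AlgSt.RepByAlgSpWith P g) :
    AlgSt.RepByAlgSpWith P (BasedFunctor.comp f g) :=
  repByAlgSpWith_comp' h𝒳 h𝒴 P hP.bc hP.comp hP.charts f g hf hg

end Groth.Agent.H3.AlgStProps
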