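import Mathlib
import Groth.Agent.Lib.Helper3.AlgSt.PropFacts
import Groth.Agent.Lib.Helper3.TwoCartDiagBC

/-!
# The diagonal of a functor representable by algebraic spaces (helper3)
-/

set_option autoImplicit false
universe v₂ u₂ v₃ u₃ v u
open CategoryTheory CategoryTheory.Functor CategoryTheory.Limits Opposite AlgebraicGeometry

namespace Groth.Agent.H3.AlgStDiagRep

open Groth.Agent.H3.FibCatAux Groth.Agent.H3.GerbAux Groth.Agent.H3.FpCalc Groth.Agent.H3.TwoCart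
  Groth.Agent.H3.StackPsh Groth.Agent.H3.PshBridge Groth.Agent.H3.AlgStAux Groth.Agent.H3.RepBridge
  Groth.Agent.H3.SetoidPsh Groth.Agent.H3.BaseChangeSp Groth.Agent.H3.AlgStComp
  Groth.Agent.H3.AlgStCharts Groth.Agent.H3.AlgStProd Groth.Agent.H3.AlgStDiag
  Groth.Agent.H3.AlgStSpaceDM Groth.Agent.H3.AlgStStackRep Groth.Agent.H3.AlgStProps
open AlgSp

variable {S : Scheme.{u}} {𝒳 𝒴 𝒯 : AlgSt.Cat S}

section Chart

variable (f : 𝒳 ⥤ᵇ 𝒴) (y : 𝒯 ⥤ᵇ FibCat.fp f f)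

/-- first component of a chart of `𝒳 ×_𝒴 𝒳` -/
abbrev cx : 𝒯 ⥤ᵇ 𝒳 := BasedFunctor.comp y (FibCat.fpFst f f)

/-- second component -/
abbrev cx' : 𝒯 ⥤ᵇ 𝒳 := BasedFunctor.comp y (FibCat.fpSnd f f)

/-- the image of the first component in `𝒴` -/
abbrev cg : 𝒯 ⥤ᵇ 𝒴 := BasedFunctor.comp (cx f y) f

/-- the 2-isomorphism of the chart -/
def cIso : BasedFunctor.comp (BasedFunctor.id 𝒯) (cg f y) ≅ BasedFunctor.comp (cx' f y) f :=
  BasedNatIso.mkNatIso
    (NatIso.ofComponents (fun t => (y.obj t).obj.iso) (fun φ => (y.map φ).hom.w))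
    (fun t => by
      have h1 : 𝒴.p.IsHomLift (𝟙 (𝒳.p.obj (y.obj t).obj.fst)) (y.obj t).obj.iso.hom :=
        (y.obj t).property
      have h2 : 𝒳.p.obj (y.obj t).obj.fst = 𝒯.p.obj t :=
        ((FibCat.fpFst f f).w_obj (y.obj t)).trans (y.w_obj t)
      rw [h2] at h1
      exact h1)

lemma cIso_app (t : 𝒯.obj) : (cIso f y).hom.toNatTrans.app t = (y.obj t).obj.iso.hom := rfl

/-- the first section of the base change of `f` -/
def sec1 : 𝒯 ⥤ᵇ FibCat.fp (cg f y) f :=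
  FibCat.fpLift (BasedFunctor.id 𝒯) (cx f y) (Iso.refl _)

/-- the second section -/
def sec2 : 𝒯 ⥤ᵇ FibCat.fp (cg f y) f :=
  FibCat.fpLift (BasedFunctor.id 𝒯) (cx' f y) (cIso f y)

/-- the pair of sections -/
def secPair : 𝒯 ⥤ᵇ FibCat.fp (FibCat.fpFst (cg f y) f) (FibCat.fpFst (cg f y) f) :=
  FibCat.fpLift (sec1 f y) (sec2 f y) (Iso.refl _)

omit f y in
lemma id_id_comp {E : Type u₂} [Category.{v₂} E] {A B : E} (u v : A ⟶ A) (m : A ⟶ B)
    (hu : u = 𝟙 A) (hv : v = 𝟙 A) : u ≫ v ≫ m = m := by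
  subst hu hv; simp

lemma secPair_comp_iso (t : 𝒯.obj) :
    ((BasedFunctor.comp (secPair f y) (dbcM f (cg f y))).obj t).obj.iso.hom =
      (y.obj t).obj.iso.hom :=
  (dbcM_obj_iso f (cg f y) ((secPair f y).obj t)).trans
    (id_id_comp _ _ _ rfl ((cg f y).toFunctor.map_id t))

lemma chartIso_w (t : 𝒯.obj) :
    f.map (Iso.refl (y.obj t).obj.fst).hom ≫
        ((BasedFunctor.comp (secPair f y) (dbcM f (cg f y))).obj t).obj.iso.hom =
      (y.obj t).obj.iso.hom ≫ f.map (Iso.refl (y.obj t).obj.snd).hom := by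
  have b1 : f.map (Iso.refl (y.obj t).obj.fst).hom = 𝟙 _ := f.toFunctor.map_id _
  have b2 : f.map (Iso.refl (y.obj t).obj.snd).hom = 𝟙 _ := f.toFunctor.map_id _
  rw [b1, b2, secPair_comp_iso]
  exact (Category.id_comp _).trans (Category.comp_id _).symm

/-- a chart of `𝒳 ×_𝒴 𝒳` factors through the comparison functor from the self-product of the base
change -/
def chartIso : y ≅ BasedFunctor.comp (secPair f y) (dbcM f (cg f y)) :=
  BasedNatIso.mkNatIso
    (NatIso.ofComponents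
      (fun t => fpIsoMk (X := y.obj t)
        (Y := (BasedFunctor.comp (secPair f y) (dbcM f (cg f y))).obj t)
        (Iso.refl _) (Iso.refl _) (chartIso_w f y t))
      (by
        intro a a' φ
        apply fp_hom_ext
        · show (y.map φ).hom.fst ≫ 𝟙 _ = 𝟙 _ ≫ (y.map φ).hom.fst
          rw [Category.comp_id, Category.id_comp]
        · show (y.map φ).hom.snd ≫ 𝟙 _ = 𝟙 _ ≫ (y.map φ).hom.snd
          rw [Category.comp_id, Category.id_comp]))
    (by
      intro t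
      rw [fp_isHomLift_iff]
      show 𝒳.p.IsHomLift (𝟙 _) (𝟙 (y.obj t).obj.fst)
      exact IsHomLift.of_fac' 𝒳.p _ _ ((FibCat.fpFst _ _).w_obj (y.obj t) |>.trans (y.w_obj t))
        ((FibCat.fpFst _ _).w_obj (y.obj t) |>.trans (y.w_obj t)) (by simp))

end Chart

/-- the diagonal of a functor representable by algebraic spaces is representable by algebraic
spaces -/
theorem repByAlgSp1_diag (h𝒳 : FibCat.IsFibGrpd 𝒳.p) (h𝒴 : FibCat.IsFibGrpd 𝒴.p) (f : 𝒳 ⥤ᵇ 𝒴)
    (hf : AlgSt.RepByAlgSp1 f) : AlgSt.RepByAlgSp1 (FibCat.diag f) := by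
  intro U y
  have hT : FibCat.IsFibGrpd (FibCat.overCat U).p := isFibGrpd_overCat U
  have hW : AlgSt.RepByAlgSp (FibCat.fp (cg f y) f) := hf U (cg f y)
  have hWf : FibCat.IsFibGrpd (FibCat.fp (cg f y) f).p := X6401 _ _ hT h𝒳 h𝒴
  have hfW : AlgSt.RepByAlgSp1 (FibCat.fpFst (cg f y) f) := repByAlgSp1_fpFst f (cg f y) hf
  have hWW : AlgSt.RepByAlgSp (FibCat.fp (FibCat.fpFst (cg f y) f) (FibCat.fpFst (cg f y) f)) :=
    repByAlgSp_fp_of_repByAlgSp hWf hT (FibCat.fpFst (cg f y) f) (FibCat.fpFst (cg f y) f) hfW hW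
  have hΔ : AlgSt.RepByAlgSp1 (FibCat.diag (FibCat.fpFst (cg f y) f)) :=
    repByAlgSp1_of_repByAlgSp hW hWW _
  have h1 := hΔ U (secPair f y)
  have h2 := repByAlgSp_fp_comp_of_isTwoCartOver (dbcM f (cg f y)) (FibCat.diag f)
    (FibCat.diag (FibCat.fpFst (cg f y) f)) (FibCat.fpSnd (cg f y) f) (dbcE f (cg f y))
    (dbc_isTwoCartOver f (cg f y)) (secPair f y) h1
  exact repByAlgSp_fp_of_iso (chartIso f y) (FibCat.diag f) h2

section DiagComp

variable {𝒵 : AlgSt.Cat S} (j : 𝒳 ⥤ᵇ 𝒴) (t : 𝒴 ⥤ᵇ 𝒵)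

omit j t in
lemma three_id {E : Type u₂} [Category.{v₂} E] {A : E} (u v w : A ⟶ A) (hu : u = 𝟙 A)
    (hv : v = 𝟙 A) (hw : w = 𝟙 A) : u ≫ v = w ≫ u := by
  subst hu hv hw; rfl

lemma diagComp_w (x : 𝒳.obj) :
    (BasedFunctor.comp j t).map (Iso.refl x).hom ≫
      ((BasedFunctor.comp (FibCat.diag j) (magicI j j t (magicIso j j t))).obj x).obj.iso.hom =
    ((FibCat.diag (BasedFunctor.comp j t)).obj x).obj.iso.hom ≫
      (BasedFunctor.comp j t).map (Iso.refl x).hom := by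
  have b1 : (BasedFunctor.comp j t).map (Iso.refl x).hom = 𝟙 _ :=
    (BasedFunctor.comp j t).toFunctor.map_id _
  have b2 : ((BasedFunctor.comp (FibCat.diag j) (magicI j j t (magicIso j j t))).obj x).obj.iso.hom =
      t.map (𝟙 (j.obj x)) := rfl
  have b3 : t.map (𝟙 (j.obj x)) = 𝟙 _ := t.toFunctor.map_id _
  exact three_id _ _ _ b1 (b2.trans b3) rfl

/-- the diagonal of a composite is the diagonal of the first functor followed by a base change of
the diagonal of the second -/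
def diagCompIso : FibCat.diag (BasedFunctor.comp j t) ≅
    BasedFunctor.comp (FibCat.diag j) (magicI j j t (magicIso j j t)) :=
  BasedNatIso.mkNatIso
    (NatIso.ofComponents
      (fun x => fpIsoMk (X := (FibCat.diag (BasedFunctor.comp j t)).obj x)
        (Y := (BasedFunctor.comp (FibCat.diag j) (magicI j j t (magicIso j j t))).obj x)
        (Iso.refl x) (Iso.refl x) (diagComp_w j t x))
      (by
        intro a a' φ
        apply fp_hom_ext
        · show φ ≫ 𝟙 _ = 𝟙 _ ≫ φ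
          rw [Category.comp_id, Category.id_comp]
        · show φ ≫ 𝟙 _ = 𝟙 _ ≫ φ
          rw [Category.comp_id, Category.id_comp]))
    (by
      intro x
      rw [fp_isHomLift_iff]
      show 𝒳.p.IsHomLift (𝟙 _) (𝟙 x)
      exact IsHomLift.id rfl)

/-- the comparison functor `𝒳 ×_𝒴 𝒳 ⟶ 𝒳 ×_𝒵 𝒳` is a base change of the diagonal of `t` -/
theorem repByAlgSpWith_magicI (P : MorphismProperty (Sp S))
    (ht : AlgSt.RepByAlgSpWith P (FibCat.diag t)) :
    AlgSt.RepByAlgSpWith P (magicI j j t (magicIso j j t)) :=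
  repByAlgSpWith_of_isTwoCartOver P (magicR j j t) (FibCat.diag t) (magicI j j t (magicIso j j t))
    (magicL j j) (magicE j j t (magicIso j j t) (fun W => magicIso_app j j t W))
    (magic_isTwoCartOver j j t (magicIso j j t) (fun W => magicIso_app j j t W)) ht

/-- the diagonal of a composite has `P` if the diagonals of both functors do -/
theorem repByAlgSpWith_diag_comp (P : MorphismProperty (Sp S)) (hP : Good P)
    (h𝒳 : FibCat.IsFibGrpd 𝒳.p) (h𝒴 : FibCat.IsFibGrpd 𝒴.p)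
    (hj : AlgSt.RepByAlgSpWith P (FibCat.diag j)) (ht : AlgSt.RepByAlgSpWith P (FibCat.diag t)) :
    AlgSt.RepByAlgSpWith P (FibCat.diag (BasedFunctor.comp j t)) := by
  have h1 := repByAlgSpWith_magicI j t P ht
  have h2 := repByAlgSpWith_comp h𝒳 (X6401 j j h𝒳 h𝒳 h𝒴) P hP.bc hP.comp hP.loc _ _ hj h1
  let e : BasedFunctor.comp (FibCat.diag (BasedFunctor.comp j t)) (BasedFunctor.id _) ≅
      BasedFunctor.comp (BasedFunctor.id 𝒳)
        (BasedFunctor.comp (FibCat.diag j) (magicI j j t (magicIso j j t))) := diagCompIso j t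
  exact repByAlgSpWith_of_square P
    (BasedFunctor.comp (FibCat.diag j) (magicI j j t (magicIso j j t)))
    (FibCat.diag (BasedFunctor.comp j t)) (BasedFunctor.id _)
    (BasedFunctor.id _) isEquivOver_id isEquivOver_id e h2

theorem repByAlgSp1_diag_comp (h𝒳 : FibCat.IsFibGrpd 𝒳.p) (h𝒴 : FibCat.IsFibGrpd 𝒴.p)
    (hj : AlgSt.RepByAlgSp1 (FibCat.diag j)) (ht : AlgSt.RepByAlgSp1 (FibCat.diag t)) :
    AlgSt.RepByAlgSp1 (FibCat.diag (BasedFunctor.comp j t)) := by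
  rw [← repByAlgSpWith_top_iff] at hj ht ⊢
  exact repByAlgSpWith_diag_comp j t ⊤ good_top h𝒳 h𝒴 hj ht

end DiagComp

/-- the diagonal of the source of a functor representable by algebraic spaces whose target has a
diagonal representable by algebraic spaces -/
theorem repByAlgSp1_diag_toSelf_of_repByAlgSp1 (h𝒳 : FibCat.IsFibGrpd 𝒳.p)
    (h𝒴 : FibCat.IsFibGrpd 𝒴.p) (j : 𝒳 ⥤ᵇ 𝒴) (hj : AlgSt.RepByAlgSp1 j)
    (hΔ : AlgSt.RepByAlgSp1 (FibCat.diag (FibCat.toSelf 𝒴))) :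
    AlgSt.RepByAlgSp1 (FibCat.diag (FibCat.toSelf 𝒳)) := by
  have h1 := repByAlgSp1_diag_comp j (FibCat.toSelf 𝒴) h𝒳 h𝒴 (repByAlgSp1_diag h𝒳 h𝒴 j hj) hΔ
  have h2 : BasedFunctor.comp j (FibCat.toSelf 𝒴) = FibCat.toSelf 𝒳 := eq_toSelf _
  rw [h2] at h1
  exact h1

end Groth.Agent.H3.AlgStDiagRep
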