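import Mathlib
import Groth.Agent.Lib.Helper3.AlgSt.DiagRep

/-!
# Products of functors (helper3)

`prodR s t b : 𝒜 ×_𝒮 𝒞 ⟶ 𝒜 ×_𝒮 ℬ` and `prodL s t a : 𝒞 ×_𝒮 ℬ ⟶ 𝒜 ×_𝒮 ℬ` are base changes of `b`, `a`.
-/

set_option autoImplicit false
universe v₆ u₆ v₅ u₅ v₄ u₄ v₃ u₃ v₂ u₂ v u
open CategoryTheory CategoryTheory.Functor CategoryTheory.Limits Opposite AlgebraicGeometry

namespace Groth.Agent.H3.AlgStProdMap

open Groth.Agent.H3.FibCatAux Groth.Agent.H3.GerbAux Groth.Agent.H3.FpCalc Groth.Agent.H3.TwoCart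
  Groth.Agent.H3.AlgStAux Groth.Agent.H3.AlgStComp Groth.Agent.H3.AlgStStackRep
  Groth.Agent.H3.AlgStProps
open AlgSp

section General

variable {C : Type u} [Category.{v} C] {𝒜 : BasedCategory.{v₂, u₂} C} {ℬ : BasedCategory.{v₃, u₃} C}
  {𝒞 : BasedCategory.{v₄, u₄} C} {𝒮 : BasedCategory.{v₅, u₅} C}

section R

variable (s : 𝒜 ⥤ᵇ 𝒮) (t : ℬ ⥤ᵇ 𝒮) (b : 𝒞 ⥤ᵇ ℬ)

/-- `id × b` -/
def prodR : FibCat.fp s (BasedFunctor.comp b t) ⥤ᵇ FibCat.fp s t :=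
  FibCat.fpLift (FibCat.fpFst s (BasedFunctor.comp b t))
    (BasedFunctor.comp (FibCat.fpSnd s (BasedFunctor.comp b t)) b) (FibCat.fpIso s (BasedFunctor.comp b t))

lemma prodR_w (X : (FibCat.fp (FibCat.fpSnd s t) b).obj) :
    s.map (Iso.refl X.obj.fst.obj.fst).hom ≫
      ((prodR s t b).obj ((pasteR s t b).obj X)).obj.iso.hom =
    X.obj.fst.obj.iso.hom ≫ t.map (qIso s t b X).hom := by
  have b1 : s.map (Iso.refl X.obj.fst.obj.fst).hom = 𝟙 _ := s.toFunctor.map_id _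
  have b2 : ((prodR s t b).obj ((pasteR s t b).obj X)).obj.iso.hom =
      X.obj.fst.obj.iso.hom ≫ t.map (qIso s t b X).hom := rfl
  rw [b1, b2]
  exact Category.id_comp _

/-- `id × b` is the base change of `b` along the second projection, up to the pasting equivalence -/
def prodRIso : BasedFunctor.comp (FibCat.fpFst (FibCat.fpSnd s t) b) (BasedFunctor.id _) ≅
    BasedFunctor.comp (pasteR s t b) (prodR s t b) :=
  BasedNatIso.mkNatIso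
    (NatIso.ofComponents
      (fun X => fpIsoMk (X := X.obj.fst) (Y := (prodR s t b).obj ((pasteR s t b).obj X))
        (Iso.refl _) (qIso s t b X) (prodR_w s t b X))
      (by
        intro X X' φ
        apply fp_hom_ext
        · show φ.hom.fst.hom.fst ≫ 𝟙 _ = 𝟙 _ ≫ φ.hom.fst.hom.fst
          rw [Category.comp_id, Category.id_comp]
        · exact qIso_w s t b φ))
    (by
      intro X
      rw [fp_isHomLift_iff]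
      show 𝒜.p.IsHomLift (𝟙 _) (𝟙 X.obj.fst.obj.fst)
      exact IsHomLift.id rfl)

end R

section L

variable (s : 𝒜 ⥤ᵇ 𝒮) (t : ℬ ⥤ᵇ 𝒮) (a : 𝒞 ⥤ᵇ 𝒜)

/-- `a × id` -/
def prodL : FibCat.fp (BasedFunctor.comp a s) t ⥤ᵇ FibCat.fp s t :=
  FibCat.fpLift (BasedFunctor.comp (FibCat.fpFst (BasedFunctor.comp a s) t) a)
    (FibCat.fpSnd (BasedFunctor.comp a s) t) (FibCat.fpIso (BasedFunctor.comp a s) t)

omit s t a in
lemma cancel_aux {E : Type u₆} [Category.{v₆} E] {A B D : E} (u : B ⟶ A) (v : A ⟶ B) (m : B ⟶ D)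
    (k : D ⟶ D) (huv : u ≫ v = 𝟙 B) (hk : k = 𝟙 D) : u ≫ (v ≫ m) = m ≫ k := by
  subst hk
  rw [← Category.assoc, huv, Category.id_comp, Category.comp_id]

lemma prodL_w (X : (FibCat.fp a (FibCat.fpFst s t)).obj) :
    s.map (pIso a s t X).symm.hom ≫
      ((prodL s t a).obj ((pasteL a s t).obj X)).obj.iso.hom =
    X.obj.snd.obj.iso.hom ≫ t.map (Iso.refl X.obj.snd.obj.snd).hom := by
  have b1 : t.map (Iso.refl X.obj.snd.obj.snd).hom = 𝟙 _ := t.toFunctor.map_id _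
  have b3 : s.map (pIso a s t X).symm.hom ≫ s.map (pIso a s t X).hom = 𝟙 _ := by
    rw [← s.toFunctor.map_comp]
    show s.map ((pIso a s t X).inv ≫ (pIso a s t X).hom) = 𝟙 _
    rw [Iso.inv_hom_id]
    exact s.toFunctor.map_id _
  exact cancel_aux (s.map (pIso a s t X).symm.hom) (s.map (pIso a s t X).hom)
    X.obj.snd.obj.iso.hom _ b3 b1

lemma pIso_inv_w {X Y : (FibCat.fp a (FibCat.fpFst s t)).obj} (φ : X ⟶ Y) :
    φ.hom.snd.hom.fst ≫ (pIso a s t Y).inv = (pIso a s t X).inv ≫ a.map φ.hom.fst := by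
  have h := pIso_w a s t φ
  rw [Iso.eq_inv_comp, ← Category.assoc, ← h, Category.assoc, Iso.hom_inv_id, Category.comp_id]

/-- `a × id` is the base change of `a` along the first projection, up to the pasting equivalence -/
def prodLIso : BasedFunctor.comp (FibCat.fpSnd a (FibCat.fpFst s t)) (BasedFunctor.id _) ≅
    BasedFunctor.comp (pasteL a s t) (prodL s t a) :=
  BasedNatIso.mkNatIso
    (NatIso.ofComponents
      (fun X => fpIsoMk (X := X.obj.snd) (Y := (prodL s t a).obj ((pasteL a s t).obj X))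
        (pIso a s t X).symm (Iso.refl _) (prodL_w s t a X))
      (by
        intro X X' φ
        apply fp_hom_ext
        · exact pIso_inv_w s t a φ
        · show φ.hom.snd.hom.snd ≫ 𝟙 _ = 𝟙 _ ≫ φ.hom.snd.hom.snd
          rw [Category.comp_id, Category.id_comp]))
    (by
      intro X
      rw [fp_isHomLift_iff]
      have h1 := pasteL_aux1 a s t X
      have h2 : 𝒜.p.IsHomLift (𝟙 (𝒞.p.obj X.obj.fst)) (pIso a s t X).symm.hom :=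
        iso_inv_isHomLift (pIso a s t X) h1
      have h3 : (FibCat.fp a (FibCat.fpFst s t)).p.obj X = 𝒞.p.obj X.obj.fst := rfl
      rw [h3]
      exact h2)

end L

end General

section General2

variable {C : Type u} [Category.{v} C] {𝒳₁ : BasedCategory.{v₂, u₂} C} {𝒳₂ : BasedCategory.{v₃, u₃} C}
  {𝒴₁ : BasedCategory.{v₄, u₄} C} {𝒴₂ : BasedCategory.{v₅, u₅} C} {𝒮 : BasedCategory.{v₆, u₆} C}
  (f₁ : 𝒳₁ ⥤ᵇ 𝒴₁) (f₂ : 𝒳₂ ⥤ᵇ 𝒴₂) (t₁ : 𝒴₁ ⥤ᵇ 𝒮) (t₂ : 𝒴₂ ⥤ᵇ 𝒮)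

/-- `f₁ × f₂` -/
def prodMap : FibCat.fp (BasedFunctor.comp f₁ t₁) (BasedFunctor.comp f₂ t₂) ⥤ᵇ FibCat.fp t₁ t₂ :=
  FibCat.fpLift
    (BasedFunctor.comp (FibCat.fpFst (BasedFunctor.comp f₁ t₁) (BasedFunctor.comp f₂ t₂)) f₁)
    (BasedFunctor.comp (FibCat.fpSnd (BasedFunctor.comp f₁ t₁) (BasedFunctor.comp f₂ t₂)) f₂)
    (FibCat.fpIso (BasedFunctor.comp f₁ t₁) (BasedFunctor.comp f₂ t₂))

lemma prodMap_eq : prodMap f₁ f₂ t₁ t₂ =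
    BasedFunctor.comp (prodR (BasedFunctor.comp f₁ t₁) t₂ f₂) (prodL t₁ t₂ f₁) := by
  apply basedFunctor_ext
  rfl

end General2

section Rep

variable {S : Scheme.{u}}

theorem repByAlgSpWith_prodR {𝒜 ℬ 𝒞 𝒮 : AlgSt.Cat S} (P : MorphismProperty (Sp S))
    (s : 𝒜 ⥤ᵇ 𝒮) (t : ℬ ⥤ᵇ 𝒮) (b : 𝒞 ⥤ᵇ ℬ) (hb : AlgSt.RepByAlgSpWith P b) :
    AlgSt.RepByAlgSpWith P (prodR s t b) :=
  repByAlgSpWith_of_square' P (prodR s t b) (FibCat.fpFst (FibCat.fpSnd s t) b) (pasteR s t b)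
    (BasedFunctor.id _) (isEquivOver_pasteR s t b) isEquivOver_id (prodRIso s t b)
    (repByAlgSpWith_fpFst P b (FibCat.fpSnd s t) hb)

theorem repByAlgSpWith_prodL {𝒜 ℬ 𝒞 𝒮 : AlgSt.Cat S} (P : MorphismProperty (Sp S))
    (s : 𝒜 ⥤ᵇ 𝒮) (t : ℬ ⥤ᵇ 𝒮) (a : 𝒞 ⥤ᵇ 𝒜) (ha : AlgSt.RepByAlgSpWith P a) :
    AlgSt.RepByAlgSpWith P (prodL s t a) :=
  repByAlgSpWith_of_square' P (prodL s t a) (FibCat.fpSnd a (FibCat.fpFst s t)) (pasteL a s t)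
    (BasedFunctor.id _) (isEquivOver_pasteL a s t) isEquivOver_id (prodLIso s t a)
    (repByAlgSpWith_fpSnd P a (FibCat.fpFst s t) ha)

/-- the product of two functors representable by algebraic spaces with `P` has `P` -/
theorem repByAlgSpWith_prodMap {𝒳₁ 𝒳₂ 𝒴₁ 𝒴₂ 𝒮 : AlgSt.Cat S} (P : MorphismProperty (Sp S))
    (hP : Good P) (h𝒳₁ : FibCat.IsFibGrpd 𝒳₁.p) (h𝒳₂ : FibCat.IsFibGrpd 𝒳₂.p)
    (h𝒴₂ : FibCat.IsFibGrpd 𝒴₂.p) (h𝒮 : FibCat.IsFibGrpd 𝒮.p)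
    (f₁ : 𝒳₁ ⥤ᵇ 𝒴₁) (f₂ : 𝒳₂ ⥤ᵇ 𝒴₂) (t₁ : 𝒴₁ ⥤ᵇ 𝒮) (t₂ : 𝒴₂ ⥤ᵇ 𝒮)
    (hf₁ : AlgSt.RepByAlgSpWith P f₁) (hf₂ : AlgSt.RepByAlgSpWith P f₂) :
    AlgSt.RepByAlgSpWith P (prodMap f₁ f₂ t₁ t₂) := by
  rw [prodMap_eq]
  exact repByAlgSpWith_comp (X6401 _ _ h𝒳₁ h𝒳₂ h𝒮) (X6401 _ _ h𝒳₁ h𝒴₂ h𝒮) P hP.bc hP.comp hP.loc
    _ _ (repByAlgSpWith_prodR P (BasedFunctor.comp f₁ t₁) t₂ f₂ hf₂)
    (repByAlgSpWith_prodL P t₁ t₂ f₁ hf₁)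

section SelfOver

open Groth.Agent.H3.AlgStProd Groth.Agent.H3.AlgStDiag

/-- 2-isomorphisms between functors to the base over itself are unique -/
lemma selfOver_iso_eq {C : Type u₂} [Category.{v₂} C] {𝒲 : BasedCategory.{v₃, u₃} C}
    {F G : 𝒲 ⥤ᵇ FibCat.selfOver C} (e e' : F ≅ G) : e = e' := by
  apply Iso.ext
  apply BasedNatTrans.ext
  apply NatTrans.ext
  funext x
  exact selfOver_hom_eq _ _ (e.hom.isHomLift' x) (e'.hom.isHomLift' x)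

/-- S12789, with the structure functors of the sources generalized -/
theorem repByAlgSpWith_fpLift_selfOver {𝒳₁ 𝒳₂ 𝒴₁ 𝒴₂ : AlgSt.Cat S} (P : MorphismProperty (Sp S))
    (hP : Good P) (h𝒳₁ : FibCat.IsFibGrpd 𝒳₁.p) (h𝒳₂ : FibCat.IsFibGrpd 𝒳₂.p)
    (h𝒴₂ : FibCat.IsFibGrpd 𝒴₂.p)
    (f₁ : 𝒳₁ ⥤ᵇ 𝒴₁) (f₂ : 𝒳₂ ⥤ᵇ 𝒴₂) (hf₁ : AlgSt.RepByAlgSpWith P f₁)
    (hf₂ : AlgSt.RepByAlgSpWith P f₂)
    (s₁ : 𝒳₁ ⥤ᵇ FibCat.selfOver (Over S)) (s₂ : 𝒳₂ ⥤ᵇ FibCat.selfOver (Over S))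
    (t₁ : 𝒴₁ ⥤ᵇ FibCat.selfOver (Over S)) (t₂ : 𝒴₂ ⥤ᵇ FibCat.selfOver (Over S))
    (e : BasedFunctor.comp (BasedFunctor.comp (FibCat.fpFst s₁ s₂) f₁) t₁ ≅
      BasedFunctor.comp (BasedFunctor.comp (FibCat.fpSnd s₁ s₂) f₂) t₂) :
    AlgSt.RepByAlgSpWith P (FibCat.fpLift (BasedFunctor.comp (FibCat.fpFst s₁ s₂) f₁)
      (BasedFunctor.comp (FibCat.fpSnd s₁ s₂) f₂) e) := by
  have hs₁ : s₁ = BasedFunctor.comp f₁ t₁ := (eq_toSelf s₁).trans (eq_toSelf _).symm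
  have hs₂ : s₂ = BasedFunctor.comp f₂ t₂ := (eq_toSelf s₂).trans (eq_toSelf _).symm
  subst hs₁ hs₂
  have he : e = FibCat.fpIso (BasedFunctor.comp f₁ t₁) (BasedFunctor.comp f₂ t₂) :=
    selfOver_iso_eq _ _
  subst he
  exact repByAlgSpWith_prodMap P hP h𝒳₁ h𝒳₂ h𝒴₂ isFibGrpd_id f₁ f₂ t₁ t₂ hf₁ hf₂

end SelfOver

end Rep

section Rep1General

open Groth.Agent.H3.AlgStProd Groth.Agent.H3.AlgStDiag

variable {C : Type u} [Category.{v} C]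

theorem isRepresentable1_fpSnd {𝒳 : BasedCategory.{v₂, u₂} C} {𝒴 : BasedCategory.{v₃, u₃} C}
    {𝒵 : BasedCategory.{v₄, u₄} C} (f : 𝒳 ⥤ᵇ 𝒵) (g : 𝒴 ⥤ᵇ 𝒵) (hf : FibCat.IsRepresentable1 f) :
    FibCat.IsRepresentable1 (FibCat.fpSnd f g) := by
  have h1 : FibCat.IsRepresentable1 (FibCat.fpFst g f) := isRepresentable1_fpFst f g hf
  exact isRepresentable1_of_square (FibCat.fpFst g f) (FibCat.fpSnd f g)
    (FibCat.fpLift (FibCat.fpSnd f g) (FibCat.fpFst f g) (FibCat.fpIso f g).symm)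
    (BasedFunctor.id _) (swap_isTwoCartOver f g) isEquivOver_id (Iso.refl _) h1

theorem isRepresentable1_prodR {𝒜 : BasedCategory.{v₂, u₂} C} {ℬ : BasedCategory.{v₃, u₃} C}
    {𝒞 : BasedCategory.{v₄, u₄} C} {𝒮 : BasedCategory.{v₅, u₅} C}
    (s : 𝒜 ⥤ᵇ 𝒮) (t : ℬ ⥤ᵇ 𝒮) (b : 𝒞 ⥤ᵇ ℬ) (hb : FibCat.IsRepresentable1 b) :
    FibCat.IsRepresentable1 (prodR s t b) :=
  isRepresentable1_of_square' (prodR s t b) (FibCat.fpFst (FibCat.fpSnd s t) b) (pasteR s t b)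
    (BasedFunctor.id _) (isEquivOver_pasteR s t b) isEquivOver_id (prodRIso s t b)
    (isRepresentable1_fpFst b (FibCat.fpSnd s t) hb)

theorem isRepresentable1_prodL {𝒜 : BasedCategory.{v₂, u₂} C} {ℬ : BasedCategory.{v₃, u₃} C}
    {𝒞 : BasedCategory.{v₄, u₄} C} {𝒮 : BasedCategory.{v₅, u₅} C}
    (s : 𝒜 ⥤ᵇ 𝒮) (t : ℬ ⥤ᵇ 𝒮) (a : 𝒞 ⥤ᵇ 𝒜) (ha : FibCat.IsRepresentable1 a) :
    FibCat.IsRepresentable1 (prodL s t a) :=
  isRepresentable1_of_square' (prodL s t a) (FibCat.fpSnd a (FibCat.fpFst s t)) (pasteL a s t)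
    (BasedFunctor.id _) (isEquivOver_pasteL a s t) isEquivOver_id (prodLIso s t a)
    (isRepresentable1_fpSnd a (FibCat.fpFst s t) ha)

/-- S12790, with the structure functors generalized -/
theorem isRepresentable1_fpLift_selfOver {𝒳₁ 𝒳₂ 𝒴₁ 𝒴₂ : BasedCategory.{v, max u v} C}
    (f₁ : 𝒳₁ ⥤ᵇ 𝒴₁) (f₂ : 𝒳₂ ⥤ᵇ 𝒴₂) (hf₁ : FibCat.IsRepresentable1 f₁)
    (hf₂ : FibCat.IsRepresentable1 f₂)
    (s₁ : 𝒳₁ ⥤ᵇ FibCat.selfOver C) (s₂ : 𝒳₂ ⥤ᵇ FibCat.selfOver C)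
    (t₁ : 𝒴₁ ⥤ᵇ FibCat.selfOver C) (t₂ : 𝒴₂ ⥤ᵇ FibCat.selfOver C)
    (e : BasedFunctor.comp (BasedFunctor.comp (FibCat.fpFst s₁ s₂) f₁) t₁ ≅
      BasedFunctor.comp (BasedFunctor.comp (FibCat.fpSnd s₁ s₂) f₂) t₂) :
    FibCat.IsRepresentable1 (FibCat.fpLift (BasedFunctor.comp (FibCat.fpFst s₁ s₂) f₁)
      (BasedFunctor.comp (FibCat.fpSnd s₁ s₂) f₂) e) := by
  have hs₁ : s₁ = BasedFunctor.comp f₁ t₁ := (eq_toSelf s₁).trans (eq_toSelf _).symm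
  have hs₂ : s₂ = BasedFunctor.comp f₂ t₂ := (eq_toSelf s₂).trans (eq_toSelf _).symm
  subst hs₁ hs₂
  have he : e = FibCat.fpIso (BasedFunctor.comp f₁ t₁) (BasedFunctor.comp f₂ t₂) :=
    selfOver_iso_eq _ _
  subst he
  have h := isRepresentable1_comp _ _
    (isRepresentable1_prodR (BasedFunctor.comp f₁ t₁) t₂ f₂ hf₂)
    (isRepresentable1_prodL t₁ t₂ f₁ hf₁)
  rw [← prodMap_eq] at h
  exact h

end Rep1General

end Groth.Agent.H3.AlgStProdMap
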