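import Mathlib
import Groth.Agent.Lib.Helper3.AlgSt.ProdMap

/-!
# Permanence properties of algebraic stacks (helper3)
-/

set_option autoImplicit false
universe v₂ u₂ v₃ u₃ v u
open CategoryTheory CategoryTheory.Functor CategoryTheory.Limits Opposite AlgebraicGeometry

namespace Groth.Agent.H3.AlgStAlgebraic

open Groth.Agent.H3.FibCatAux Groth.Agent.H3.GerbAux Groth.Agent.H3.FpCalc Groth.Agent.H3.TwoCart
  Groth.Agent.H3.StackPsh Groth.Agent.H3.PshBridge Groth.Agent.H3.AlgStAux Groth.Agent.H3.RepBridge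
  Groth.Agent.H3.SetoidPsh Groth.Agent.H3.BaseChangeSp Groth.Agent.H3.AlgStComp
  Groth.Agent.H3.AlgStCharts Groth.Agent.H3.AlgStProd Groth.Agent.H3.AlgStDiag
  Groth.Agent.H3.AlgStSpaceDM Groth.Agent.H3.AlgStStackRep Groth.Agent.H3.AlgStProps
  Groth.Agent.H3.AlgStDiagRep Groth.Agent.H3.AlgStProdMap Groth.Agent.H3.StackMore
open AlgSp

variable {S : Scheme.{u}}

section SelfOver

theorem isEquivOver_toSelf_termSp :
    FibCat.IsEquivOver (FibCat.toSelf (Stk.ofPsh (termSp (S := S)).obj)) := by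
  rw [X5139]
  refine ⟨⟨toSelf_termSp_full, toSelf_ofPsh_faithful _⟩, ?_⟩
  intro U
  refine ⟨⟨U, ⟨Over.mkIdTerminal.from U⟩⟩, Iso.refl _, ?_⟩
  exact IsHomLift.id rfl

theorem isStack_selfOver :
    Stk.IsStack (QuotSh.J Scheme.fppfPrecoverage S) (FibCat.selfOver (Over S)) :=
  isStack_of_isEquivOver _ _ isEquivOver_toSelf_termSp
    ((isStack_ofPsh_iff _ _).2 ((isSheaf_iff_isSheaf_of_type _ _).1 (termSp (S := S)).property))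

end SelfOver

/-- properties implied by being representable and etale -/
def EtaleImplies (Q : MorphismProperty (Sp S)) : Prop :=
  ∀ ⦃F G : Sp S⦄ (f : F ⟶ G), RepWith @Etale f → Q f

open Groth.Agent.H5.AlgSp in
lemma etaleImplies_smooth : EtaleImplies (LocP (S := S) @Smooth) := by
  intro F G f hf
  have h1 : (@Etale : MorphismProperty Scheme.{u}) ≤ @Smooth :=
    fun _ _ f hf => by have : Etale f := hf; infer_instance
  exact locP_of_repWith h1 (repWith_mono h1 hf)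

lemma etaleImplies_isEtaleMor : EtaleImplies (IsEtaleMor (S := S)) :=
  fun _ _ _ hf _ _ hφ => (RepWith @Etale).comp_mem _ _ hφ hf

section Atlas

variable {𝒯 𝒲 𝒳 𝒴 𝒵 : AlgSt.Cat S}

open Groth.Agent.H5.AlgSp in
/-- an atlas from a chart whose source is representable by an algebraic space -/
theorem hasAtlas_of_space_chart (Q : MorphismProperty (Sp S)) (hQ : Good Q) (hQe : EtaleImplies Q)
    (h𝒲 : FibCat.IsFibGrpd 𝒲.p) (hW : AlgSt.RepByAlgSp 𝒲) (w : 𝒲 ⥤ᵇ 𝒯)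
    (hw : AlgSt.RepByAlgSpWith Q w) (hws : AlgSt.RepByAlgSpWith IsSurjectiveMor w) :
    AlgSt.HasAtlas Q 𝒯 := by
  obtain ⟨F, e, he⟩ := hW
  obtain ⟨U, a, hae, has⟩ := F.property.atlas
  have h1 : AlgSt.RepByAlgSpWith Q (BasedFunctor.comp (chartOf a) e) :=
    repByAlgSpWith_of_square' Q (BasedFunctor.comp (chartOf a) e) (chartOf a) (BasedFunctor.id _) e
      isEquivOver_id he (Iso.refl _) (repByAlgSpWith_chartOf @Etale Q hQe a hae)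
  have h1s : AlgSt.RepByAlgSpWith IsSurjectiveMor (BasedFunctor.comp (chartOf a) e) :=
    repByAlgSpWith_of_square' _ (BasedFunctor.comp (chartOf a) e) (chartOf a) (BasedFunctor.id _) e
      isEquivOver_id he (Iso.refl _) (repByAlgSpWith_chartOf @Surjective _
        (fun _ _ f hf => points_map_surjective_of_repWith hf) a has)
  refine ⟨U, BasedFunctor.comp (BasedFunctor.comp (chartOf a) e) w, ?_, ?_⟩
  · exact repByAlgSpWith_comp (isFibGrpd_overCat U) h𝒲 Q hQ.bc hQ.comp hQ.loc _ w h1 hw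
  · exact repByAlgSpWith_comp (isFibGrpd_overCat U) h𝒲 _ good_isSurjectiveMor.bc
      good_isSurjectiveMor.comp good_isSurjectiveMor.loc _ w h1s hws

/-- atlases pull back along functors representable by algebraic spaces -/
theorem hasAtlas_of_repByAlgSp1 (Q : MorphismProperty (Sp S)) (hQ : Good Q) (hQe : EtaleImplies Q)
    (h𝒳 : FibCat.IsFibGrpd 𝒳.p) (h𝒴 : FibCat.IsFibGrpd 𝒴.p) (j : 𝒳 ⥤ᵇ 𝒴)
    (hj : AlgSt.RepByAlgSp1 j) (h : AlgSt.HasAtlas Q 𝒴) : AlgSt.HasAtlas Q 𝒳 := by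
  obtain ⟨V, v, hv1, hv2⟩ := h
  exact hasAtlas_of_space_chart Q hQ hQe (X6401 v j (isFibGrpd_overCat V) h𝒳 h𝒴) (hj V v)
    (FibCat.fpSnd v j) (repByAlgSpWith_fpSnd Q v j hv1) (repByAlgSpWith_fpSnd _ v j hv2)

/-- an atlas of a 2-fibre product from atlases of the factors -/
theorem hasAtlas_fp (Q : MorphismProperty (Sp S)) (hQ : Good Q) (hQe : EtaleImplies Q)
    (h𝒴 : FibCat.IsFibGrpd 𝒴.p) (h𝒵 : FibCat.IsFibGrpd 𝒵.p)
    (f : 𝒳 ⥤ᵇ 𝒵) (g : 𝒴 ⥤ᵇ 𝒵) (hX : AlgSt.HasAtlas Q 𝒳) (hY : AlgSt.HasAtlas Q 𝒴)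
    (hF : ∀ (U V : Over S) (u : FibCat.overCat U ⥤ᵇ 𝒳) (v : FibCat.overCat V ⥤ᵇ 𝒴),
      AlgSt.RepByAlgSp (FibCat.fp (BasedFunctor.comp u f) (BasedFunctor.comp v g))) :
    AlgSt.HasAtlas Q (FibCat.fp f g) := by
  obtain ⟨U, u, hu1, hu2⟩ := hX
  obtain ⟨V, v, hv1, hv2⟩ := hY
  have hU := isFibGrpd_overCat U
  have hV := isFibGrpd_overCat V
  exact hasAtlas_of_space_chart Q hQ hQe (X6401 _ _ hU hV h𝒵) (hF U V u v) (prodMap u v f g)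
    (repByAlgSpWith_prodMap Q hQ hU hV h𝒴 h𝒵 u v f g hu1 hv1)
    (repByAlgSpWith_prodMap _ good_isSurjectiveMor hU hV h𝒴 h𝒵 u v f g hu2 hv2)

end Atlas

section Main

variable {𝒳 𝒴 𝒵 : AlgSt.Cat S}

/-- S12768 -/
theorem isAlgStack_of_repByAlgSp1 (h𝒳 : FibCat.IsFibGrpd 𝒳.p)
    (h𝒴 : AlgSt.IsAlgStack Scheme.fppfPrecoverage 𝒴) (j : 𝒳 ⥤ᵇ 𝒴) (hj : AlgSt.RepByAlgSp1 j) :
    AlgSt.IsAlgStack Scheme.fppfPrecoverage 𝒳 where
  isStack := isStack_of_repByAlgSp1 h𝒳 h𝒴.isStack j hj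
  diag := repByAlgSp1_diag_toSelf_of_repByAlgSp1 h𝒳 h𝒴.isStack.1 j hj h𝒴.diag
  atlas := hasAtlas_of_repByAlgSp1 _ good_smooth etaleImplies_smooth h𝒳 h𝒴.isStack.1 j hj h𝒴.atlas

/-- the comparison functor `𝒳 ×_𝒵 𝒴 ⟶ 𝒳 ×_𝒯 𝒴` is a base change of the diagonal of `t : 𝒵 ⟶ 𝒯` -/
theorem repByAlgSpWith_magicI' {𝒯 : AlgSt.Cat S} (P : MorphismProperty (Sp S))
    (f : 𝒳 ⥤ᵇ 𝒵) (g : 𝒴 ⥤ᵇ 𝒵) (t : 𝒵 ⥤ᵇ 𝒯)
    (ht : AlgSt.RepByAlgSpWith P (FibCat.diag t)) :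
    AlgSt.RepByAlgSpWith P (magicI f g t (magicIso f g t)) :=
  repByAlgSpWith_of_isTwoCartOver P (magicR f g t) (FibCat.diag t) (magicI f g t (magicIso f g t))
    (magicL f g) (magicE f g t (magicIso f g t) (fun W => magicIso_app f g t W))
    (magic_isTwoCartOver f g t (magicIso f g t) (fun W => magicIso_app f g t W)) ht

/-- the diagonal of a product over the base -/
theorem repByAlgSp1_diag_prod (h𝒳 : FibCat.IsFibGrpd 𝒳.p) (h𝒴 : FibCat.IsFibGrpd 𝒴.p)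
    (hΔX : AlgSt.RepByAlgSp1 (FibCat.diag (FibCat.toSelf 𝒳)))
    (hΔY : AlgSt.RepByAlgSp1 (FibCat.diag (FibCat.toSelf 𝒴)))
    (s : 𝒳 ⥤ᵇ FibCat.selfOver (Over S)) (t : 𝒴 ⥤ᵇ FibCat.selfOver (Over S)) :
    AlgSt.RepByAlgSp1 (FibCat.diag (FibCat.toSelf (FibCat.fp s t))) := by
  have hs := eq_toSelf s
  have ht := eq_toSelf t
  subst hs ht
  have h1 : AlgSt.RepByAlgSp1 (FibCat.diag (FibCat.fpFst (FibCat.toSelf 𝒳) (FibCat.toSelf 𝒴))) := by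
    rw [← repByAlgSpWith_top_iff] at hΔY ⊢
    exact repByAlgSpWith_of_isTwoCartOver ⊤ (dbcM (FibCat.toSelf 𝒴) (FibCat.toSelf 𝒳))
      (FibCat.diag (FibCat.toSelf 𝒴)) _ (FibCat.fpSnd (FibCat.toSelf 𝒳) (FibCat.toSelf 𝒴))
      (dbcE (FibCat.toSelf 𝒴) (FibCat.toSelf 𝒳))
      (dbc_isTwoCartOver (FibCat.toSelf 𝒴) (FibCat.toSelf 𝒳)) hΔY
  have h2 := repByAlgSp1_diag_comp (FibCat.fpFst (FibCat.toSelf 𝒳) (FibCat.toSelf 𝒴))
    (FibCat.toSelf 𝒳) (X6401 _ _ h𝒳 h𝒴 isFibGrpd_id) h𝒳 h1 hΔX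
  have h3 : BasedFunctor.comp (FibCat.fpFst (FibCat.toSelf 𝒳) (FibCat.toSelf 𝒴)) (FibCat.toSelf 𝒳) =
      FibCat.toSelf _ := eq_toSelf _
  rw [h3] at h2
  exact h2

/-- S12764 -/
theorem isAlgStack_prod (h𝒳 : AlgSt.IsAlgStack Scheme.fppfPrecoverage 𝒳)
    (h𝒴 : AlgSt.IsAlgStack Scheme.fppfPrecoverage 𝒴)
    (s : 𝒳 ⥤ᵇ FibCat.selfOver (Over S)) (t : 𝒴 ⥤ᵇ FibCat.selfOver (Over S)) :
    AlgSt.IsAlgStack Scheme.fppfPrecoverage (FibCat.fp s t) where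
  isStack := isStack_fp s t _ h𝒳.isStack h𝒴.isStack (isPrestack_of_isStack _ isStack_selfOver)
  diag := repByAlgSp1_diag_prod h𝒳.isStack.1 h𝒴.isStack.1 h𝒳.diag h𝒴.diag s t
  atlas := hasAtlas_fp _ good_smooth etaleImplies_smooth h𝒴.isStack.1 isFibGrpd_id s t h𝒳.atlas
    h𝒴.atlas (fun U V _ _ => repByAlgSp_fp_selfOver _ _
      ⟨⟨(yon S).obj U, IsAlgSpace.yon_obj U⟩, toOver U, isEquivOver_toOver U⟩
      ⟨⟨(yon S).obj V, IsAlgSpace.yon_obj V⟩, toOver V, isEquivOver_toOver V⟩)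

/-- S12763 -/
theorem isAlgStack_fp (h𝒵 : Stk.IsStack (QuotSh.J Scheme.fppfPrecoverage S) 𝒵)
    (hΔ : AlgSt.RepByAlgSp1 (FibCat.diag (FibCat.toSelf 𝒵)))
    (h𝒳 : AlgSt.IsAlgStack Scheme.fppfPrecoverage 𝒳) (h𝒴 : AlgSt.IsAlgStack Scheme.fppfPrecoverage 𝒴)
    (f : 𝒳 ⥤ᵇ 𝒵) (g : 𝒴 ⥤ᵇ 𝒵) :
    AlgSt.IsAlgStack Scheme.fppfPrecoverage (FibCat.fp f g) where
  isStack := isStack_fp f g _ h𝒳.isStack h𝒴.isStack (isPrestack_of_isStack _ h𝒵)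
  diag := by
    have hfp : FibCat.IsFibGrpd (FibCat.fp f g).p := X6401 f g h𝒳.isStack.1 h𝒴.isStack.1 h𝒵.1
    have hpr : FibCat.IsFibGrpd (FibCat.fp (BasedFunctor.comp f (FibCat.toSelf 𝒵))
        (BasedFunctor.comp g (FibCat.toSelf 𝒵))).p :=
      X6401 _ _ h𝒳.isStack.1 h𝒴.isStack.1 isFibGrpd_id
    have hI : AlgSt.RepByAlgSp1 (magicI f g (FibCat.toSelf 𝒵) (magicIso f g _)) := by
      rw [← repByAlgSpWith_top_iff] at hΔ ⊢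
      exact repByAlgSpWith_magicI' ⊤ f g (FibCat.toSelf 𝒵) hΔ
    exact repByAlgSp1_diag_toSelf_of_repByAlgSp1 hfp hpr _ hI
      (repByAlgSp1_diag_prod h𝒳.isStack.1 h𝒴.isStack.1 h𝒳.diag h𝒴.diag _ _)
  atlas := hasAtlas_fp _ good_smooth etaleImplies_smooth h𝒴.isStack.1 h𝒵.1 f g h𝒳.atlas
    h𝒴.atlas (fun U V u v => repByAlgSp_fp_of_diag h𝒵.1 hΔ _ _
      ⟨⟨(yon S).obj U, IsAlgSpace.yon_obj U⟩, toOver U, isEquivOver_toOver U⟩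
      ⟨⟨(yon S).obj V, IsAlgSpace.yon_obj V⟩, toOver V, isEquivOver_toOver V⟩)

end Main

end Groth.Agent.H3.AlgStAlgebraic
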