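import Mathlib
import Groth.Agent.Lib.Helper3.AlgSt.PropFacts
import Groth.Agent.Lib.Helper5.AlgSp.FibreProduct
import Groth.Agent.Lib.Helper3.AlgSt.Charts

/-!
# "Representable by algebraic spaces with `P`" versus `P` of the map of sheaves (helper3)

For `P` stable under base change and checkable on charts:
* `repByAlgSpWith_ofPshMap_iff` : `RepByAlgSpWith P (ofPshMap a.hom) ↔ P a` for a morphism of
  algebraic spaces;
* `repByAlgSpWith_iff_spMapOfOver` : for `Φ : ofSp F ⥤ᵇ (Sch/U)`,
  `RepByAlgSpWith P Φ ↔ P (spMapOfOver Φ)`;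
* `repByAlgSpWith_iff_forall` : independence of the representing space.
-/

set_option autoImplicit false
universe v₂ u₂ v₃ u₃ v u
open CategoryTheory CategoryTheory.Functor CategoryTheory.Limits Opposite AlgebraicGeometry

namespace Groth.Agent.H3.AlgStBridge2

open Groth.Agent.H3.FibCatAux Groth.Agent.H3.GerbAux Groth.Agent.H3.FpCalc Groth.Agent.H3.TwoCart
  Groth.Agent.H3.StackPsh Groth.Agent.H3.PshBridge Groth.Agent.H3.AlgStAux Groth.Agent.H3.RepBridge
  Groth.Agent.H3.SetoidPsh Groth.Agent.H3.BaseChangeSp Groth.Agent.H3.AlgStComp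
  Groth.Agent.H3.AlgStProps
open AlgSp

variable {S : Scheme.{u}}

section A

variable {F G : PSp S} (a : F ⟶ G)

/-- `repBySpWith_of_repByAlgSpWith_ofPshMap` for properties only known to be cancellable along
isomorphisms of algebraic spaces -/
theorem repBySpWith_of_repByAlgSpWith_ofPshMap' (Q : MorphismProperty (Sp S)) (hc : IsoCancel Q)
    (h : AlgSt.RepByAlgSpWith Q (Stk.ofPshMap a)) : RepBySpWith Q a := by
  intro U ξ F' fst snd sq
  let y := BasedFunctor.comp (ofOver U) (Stk.ofPshMap ξ)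
  have hξ : chartMap y = ξ := chartMap_ofOver ξ
  rw [← hξ] at sq
  obtain ⟨M, hM, hM1, -⟩ := exists_equiv_fp a y fst snd sq
  have hθ : ∀ x' : (Stk.ofPsh F').obj, ∃ i : (projOf snd).obj x' ⟶
      (FibCat.fpFst y (Stk.ofPshMap a)).obj (M.obj x'),
      (Over.forget U).IsHomLift (𝟙 ((Stk.ofPsh F').p.obj x')) i := by
    intro x'
    have hx : (projOf snd).obj x' = (FibCat.fpFst y (Stk.ofPshMap a)).obj (M.obj x') := by
      rw [← hM1]; rfl
    exact ⟨eqToHom hx, IsHomLift.eqToHom_domain_lift_id hx ((projOf snd).w_obj x')⟩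
  exact transfer_to_psh Q hc snd
    (repWith_transfer Q (FibCat.fpFst y (Stk.ofPshMap a)) (projOf snd) M hM hθ (h U y))

end A

section B

variable {X Y : Sp S}

/-- a morphism of algebraic spaces with `P` (stable under base change) is representable by
algebraic spaces with `P` as a map of presheaves -/
theorem repBySpWith_of_baseChangeSp (P : MorphismProperty (Sp S)) (hPb : BaseChangeSp P)
    (hX : IsAlgSpace X) (hY : IsAlgSpace Y) (a : X ⟶ Y) (ha : P a) : RepBySpWith P a.hom := by
  rw [repBySpWith_hom_iff]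
  intro U ξ F' fst snd sq
  have hF' : IsAlgSpace F' :=
    Groth.Agent.H5.AlgSp.isAlgSpace_pullback hY.diag hX (IsAlgSpace.yon_obj U) sq
  exact ⟨hF', hPb hX hY hF' (IsAlgSpace.yon_obj U) a ξ snd fst sq ha⟩

/-- for a morphism `a` of algebraic spaces, the functor of `a` is representable by algebraic
spaces with `P` iff `a` has `P` -/
theorem repByAlgSpWith_ofPshMap_iff (P : MorphismProperty (Sp S)) (hPb : BaseChangeSp P)
    (hP : OfCharts P) (hX : IsAlgSpace X) (hY : IsAlgSpace Y) (a : X ⟶ Y) :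
    AlgSt.RepByAlgSpWith P (Stk.ofPshMap a.hom) ↔ P a := by
  constructor
  · intro h
    exact hP hX hY a
      (repBySpWith_of_repByAlgSpWith_ofPshMap' a.hom P (isoCancel_of_baseChangeSp hPb) h)
  · intro h
    exact repByAlgSpWith_ofPshMap_of_repBySpWith a.hom P (repBySpWith_of_baseChangeSp P hPb hX hY a h)

end B

section C

open Groth.Agent.H3.AlgStCharts

variable {U : Over S}

lemma eqToHom_cancel_aux {D : Type*} [Category D] {A B E : D} (h : A = B) (k : A ⟶ E) :
    eqToHom h ≫ eqToHom h.symm ≫ k = k := by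
  subst h; simp

lemma eqToHom_id_aux {D : Type*} [Category D] {A B : D} (h : A = B) (h' : B = B) :
    eqToHom h = eqToHom h ≫ 𝟙 B ≫ eqToHom h' := by
  subst h; simp

/-- a functor over `(Sch/S)` from the category of a sheaf to a slice is the projection attached to
its map of sheaves -/
theorem projIso {F : Sp S} (Φ : AlgSt.ofSp F ⥤ᵇ FibCat.overCat U) :
    Nonempty (Φ ≅ projOf (AlgSt.spMapOfOver Φ).hom) := by
  apply iso_of_fiberwise_iso (isFibSetoid_overCat U)
  intro x
  have hx : (Φ.obj x).left = x.base := Φ.w_obj x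
  have hw : eqToHom hx ≫ AlgSt.secHom Φ x = (Φ.obj x).hom := eqToHom_cancel_aux hx _
  refine ⟨Over.isoMk (eqToIso hx) hw, ?_⟩
  have h1 : (Over.forget U).map (Over.isoMk (eqToIso hx) hw :
      Φ.obj x ≅ (projOf (AlgSt.spMapOfOver Φ).hom).obj x).hom = eqToHom hx := rfl
  exact IsHomLift.of_fac' _ _ _ hx rfl (h1.trans (eqToHom_id_aux hx rfl))

variable {𝒳 𝒴 : AlgSt.Cat S}

/-- **Bridge**: a functor from the category of an algebraic space to a slice is representable by
algebraic spaces with `P` iff its map of sheaves has `P`. -/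
theorem repByAlgSpWith_iff_spMapOfOver (P : MorphismProperty (Sp S)) (hPb : BaseChangeSp P)
    (hP : OfCharts P) (F : Space S) (Φ : AlgSt.ofSp F.obj ⥤ᵇ FibCat.overCat U) :
    AlgSt.RepByAlgSpWith P Φ ↔ P (AlgSt.spMapOfOver Φ) := by
  obtain ⟨ι⟩ := projIso Φ
  rw [← repByAlgSpWith_ofPshMap_iff P hPb hP F.property (IsAlgSpace.yon_obj U)]
  let e : BasedFunctor.comp (Stk.ofPshMap (AlgSt.spMapOfOver Φ).hom) (toOver U) ≅
      BasedFunctor.comp (BasedFunctor.id _) Φ := ι.symm
  constructor
  · exact repByAlgSpWith_of_square P Φ (Stk.ofPshMap (AlgSt.spMapOfOver Φ).hom) (BasedFunctor.id _)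
      (toOver U) isEquivOver_id (isEquivOver_toOver U) e
  · exact repByAlgSpWith_of_square' P Φ (Stk.ofPshMap (AlgSt.spMapOfOver Φ).hom) (BasedFunctor.id _)
      (toOver U) isEquivOver_id (isEquivOver_toOver U) e

/-- precomposition with an equivalence does not change "representable by algebraic spaces with
`P`" -/
theorem repByAlgSpWith_comp_equiv_iff (P : MorphismProperty (Sp S)) {𝒲 : AlgSt.Cat S}
    (e : 𝒲 ⥤ᵇ 𝒳) (he : FibCat.IsEquivOver e) (f : 𝒳 ⥤ᵇ 𝒴) :
    AlgSt.RepByAlgSpWith P (BasedFunctor.comp e f) ↔ AlgSt.RepByAlgSpWith P f := by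
  let ε : BasedFunctor.comp (BasedFunctor.comp e f) (BasedFunctor.id 𝒴) ≅ BasedFunctor.comp e f :=
    Iso.refl _
  constructor
  · exact repByAlgSpWith_of_square' P f (BasedFunctor.comp e f) e (BasedFunctor.id 𝒴) he
      isEquivOver_id ε
  · exact repByAlgSpWith_of_square P f (BasedFunctor.comp e f) e (BasedFunctor.id 𝒴) he
      isEquivOver_id ε

/-- **Independence of the representing space**: for `P` stable under base change and checkable
on charts, `f` is representable by algebraic spaces with `P` iff it is representable by algebraic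
spaces and EVERY representing space of every base change to a scheme has `P`. -/
theorem repByAlgSpWith_iff_forall (P : MorphismProperty (Sp S)) (hPb : BaseChangeSp P)
    (hP : OfCharts P) (f : 𝒳 ⥤ᵇ 𝒴) :
    AlgSt.RepByAlgSpWith P f ↔ AlgSt.RepByAlgSp1 f ∧
      ∀ (U : Over S) (y : FibCat.overCat U ⥤ᵇ 𝒴) (F : Space S)
        (e : AlgSt.ofSp F.obj ⥤ᵇ FibCat.fp y f), FibCat.IsEquivOver e →
        P (AlgSt.spMapOfOver (BasedFunctor.comp e (FibCat.fpFst y f))) := by
  constructor
  · intro h
    refine ⟨repByAlgSp1_of_repByAlgSpWith h, fun U y F e he => ?_⟩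
    rw [← repByAlgSpWith_iff_spMapOfOver P hPb hP, repByAlgSpWith_comp_equiv_iff P e he]
    exact repByAlgSpWith_fpFst P f y h
  · rintro ⟨h1, h2⟩ U y
    obtain ⟨F, e, he⟩ := h1 U y
    exact ⟨F, e, he, h2 U y F e he⟩

/-- it suffices to check "representable by algebraic spaces with `P`" after every base change to
a scheme -/
theorem repByAlgSpWith_of_forall_fpFst (P : MorphismProperty (Sp S)) (hPb : BaseChangeSp P)
    (hP : OfCharts P) (f : 𝒳 ⥤ᵇ 𝒴) (hf : AlgSt.RepByAlgSp1 f)
    (h : ∀ (U : Over S) (y : FibCat.overCat U ⥤ᵇ 𝒴), AlgSt.RepByAlgSpWith P (FibCat.fpFst y f)) :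
    AlgSt.RepByAlgSpWith P f := by
  intro U y
  obtain ⟨F, e, he⟩ := hf U y
  refine ⟨F, e, he, ?_⟩
  rw [← repByAlgSpWith_iff_spMapOfOver P hPb hP, repByAlgSpWith_comp_equiv_iff P e he]
  exact h U y

end C

end Groth.Agent.H3.AlgStBridge2
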