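import Mathlib
import Groth.Agent.Lib.Helper3.AlgSt.Bridge2
import Groth.Agent.Lib.Helper5.AlgSp.Cover

/-!
# Descent of "representable by algebraic spaces with `P`" (helper3)
-/

set_option autoImplicit false
universe v₂ u₂ v₃ u₃ v u
open CategoryTheory CategoryTheory.Functor CategoryTheory.Limits Opposite AlgebraicGeometry

namespace Groth.Agent.H3.AlgStDescent

open Groth.Agent.H3.FibCatAux Groth.Agent.H3.GerbAux Groth.Agent.H3.FpCalc Groth.Agent.H3.TwoCart
  Groth.Agent.H3.StackPsh Groth.Agent.H3.PshBridge Groth.Agent.H3.AlgStAux Groth.Agent.H3.RepBridge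
  Groth.Agent.H3.SetoidPsh Groth.Agent.H3.BaseChangeSp Groth.Agent.H3.AlgStComp
  Groth.Agent.H3.AlgStProps Groth.Agent.H3.AlgStBridge2 Groth.Agent.H3.AlgStCharts
open AlgSp

variable {S : Scheme.{u}}

section Family

/-- a covering sieve of the big fppf site contains an fppf covering family indexed by the points
of the scheme -/
theorem exists_family_of_mem_J {U : Over S} (R : Sieve U) (hR : R ∈ J S U) :
    ∃ (V : ↥U.left → Over S) (h : ∀ t, V t ⟶ U), (∀ t, R (h t)) ∧ (∀ t, Flat (h t).left) ∧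
      (∀ t, LocallyOfFinitePresentation (h t).left) ∧ ∀ t, t ∈ Set.range (h t).left := by
  rw [Groth.Agent.H5.AlgSp.mem_J_iff] at hR
  obtain ⟨R₀, hR₀, hle⟩ := hR
  obtain ⟨ι, W, g, rfl⟩ := R₀.exists_eq_ofArrows
  rw [Presieve.map_ofArrows] at hR₀
  unfold Scheme.fppfPrecoverage at hR₀
  obtain ⟨hsurj, hprop⟩ := (Scheme.ofArrows_mem_precoverage_iff
    (@Flat ⊓ @LocallyOfFinitePresentation) (S := U.left)
    (X := fun i => (W i).left) (f := fun i => (g i).left)).1 hR₀
  choose i hi using hsurj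
  refine ⟨fun t => W (i t), fun t => g (i t), fun t => hle _ _ (Presieve.ofArrows.mk (i t)),
    fun t => (hprop (i t)).1, fun t => (hprop (i t)).2, fun t => hi t⟩

/-- an fppf covering family of schemes gives an fppf covering of sheaves -/
theorem isFppfCover_yon {U : Over S} {ι : Type u} (V : ι → Over S) (h : ∀ i, V i ⟶ U)
    (h1 : ∀ i, Flat (h i).left) (h2 : ∀ i, LocallyOfFinitePresentation (h i).left)
    (h3 : ∀ t : ↥U.left, ∃ i, t ∈ Set.range (h i).left) :
    IsFppfCover (fun i => (yon S).obj (V i)) (fun i => (yon S).map (h i)) := by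
  refine ⟨fun i => ⟨?_, ?_⟩, fun x => ?_⟩
  · exact Groth.Agent.H5.AlgSp.locP_of_repWith Groth.Agent.H5.AlgSp.etale_le_flat
      ((repWith_yon_map_iff _ _).2 (h1 i))
  · exact Groth.Agent.H5.AlgSp.locP_of_repWith Groth.Agent.H5.AlgSp.etale_le_lfp
      ((repWith_yon_map_iff _ _).2 (h2 i))
  · obtain ⟨i, v, hv⟩ := h3 (Points.toScheme U x)
    refine ⟨i, Points.ofScheme (V i) v, ?_⟩
    apply (Points.schemeEquiv U).symm.injective
    show Points.toScheme U (Points.map ((yon S).map (h i)) (Points.ofScheme (V i) v)) =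
      Points.toScheme U x
    rw [Points.map_ofPt, Category.id_comp, Points.toScheme_ofPt, hv]

end Family

section Iso

variable {𝒳 𝒴 𝒵 : AlgSt.Cat S}

/-- "representable by algebraic spaces with `P`" for the base change of `f` along `y` only
depends on `y` up to 2-isomorphism -/
theorem repByAlgSpWith_fpFst_of_iso (P : MorphismProperty (Sp S)) (f : 𝒳 ⥤ᵇ 𝒴)
    {y y' : 𝒵 ⥤ᵇ 𝒴} (ι : y ≅ y') (h : AlgSt.RepByAlgSpWith P (FibCat.fpFst y f)) :
    AlgSt.RepByAlgSpWith P (FibCat.fpFst y' f) := by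
  let α : BasedFunctor.comp y' (BasedFunctor.id 𝒴) ≅ BasedFunctor.comp (BasedFunctor.id 𝒵) y :=
    ι.symm
  let N := fpMap (F' := y') (G' := f) (F := y) (G := f) (BasedFunctor.id 𝒵) (BasedFunctor.id 𝒳)
    (BasedFunctor.id 𝒴) α (idSq f)
  have hN : FibCat.IsEquivOver N := by
    have : (BasedFunctor.id 𝒴).toFunctor.Full := Functor.Full.id
    have : (BasedFunctor.id 𝒴).toFunctor.Faithful := Functor.Faithful.id
    exact isEquivOver_fpMap _ _ _ _ _ isEquivOver_id isEquivOver_id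
  let ε : BasedFunctor.comp (FibCat.fpFst y' f) (BasedFunctor.id 𝒵) ≅
      BasedFunctor.comp N (FibCat.fpFst y f) := Iso.refl _
  exact repByAlgSpWith_of_square P (FibCat.fpFst y f) (FibCat.fpFst y' f) N (BasedFunctor.id 𝒵) hN
    isEquivOver_id ε h

end Iso

section LemmaD

variable {𝒲 : AlgSt.Cat S} {U : Over S}

/-- the square comparing `h_V ⟶ h_U` with `(Sch/V) ⟶ (Sch/U)` -/
theorem overMapIso {V : Over S} (h : V ⟶ U) :
    Nonempty (BasedFunctor.comp (Stk.ofPshMap ((pyon S).map h)) (toOver U) ≅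
      BasedFunctor.comp (toOver V) (AlgSt.overMap h)) := by
  apply iso_of_fiberwise_iso (isFibSetoid_overCat U)
  intro x
  have hx : (BasedFunctor.comp (Stk.ofPshMap ((pyon S).map h)) (toOver U)).obj x =
      (BasedFunctor.comp (toOver V) (AlgSt.overMap h)).obj x := rfl
  exact ⟨eqToIso hx, IsHomLift.eqToHom_domain_lift_id hx
    ((BasedFunctor.comp (Stk.ofPshMap ((pyon S).map h)) (toOver U)).w_obj x)⟩

/-- **Descent on a scheme base**: let `π : 𝒲 ⟶ (Sch/U)` with `𝒲` representable by an algebraic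
space, and `R` a covering sieve of `U` such that the base change of `π` to every member of `R` has
`P`; then `π` has `P`. -/
theorem spMapOfOver_of_sieve (P : MorphismProperty (Sp S)) (hPb : BaseChangeSp P)
    (hP : IsLocalOnBase IsFppfCover P) (π : 𝒲 ⥤ᵇ FibCat.overCat U) (F : Space S)
    (e : AlgSt.ofSp F.obj ⥤ᵇ 𝒲) (he : FibCat.IsEquivOver e) (R : Sieve U) (hR : R ∈ J S U)
    (hloc : ∀ ⦃V : Over S⦄ (h : V ⟶ U), R.arrows h →
      AlgSt.RepByAlgSpWith P (FibCat.fpFst (AlgSt.overMap h) π)) :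
    P (AlgSt.spMapOfOver (BasedFunctor.comp e π)) := by
  have hPc : OfCharts P := ofCharts_of_isLocalOnBase P hP
  obtain ⟨V, h, hRh, h1, h2, h3⟩ := exists_family_of_mem_J R hR
  set Φ := BasedFunctor.comp e π with hΦ
  set a := AlgSt.spMapOfOver Φ with ha
  obtain ⟨ι⟩ := projIso Φ
  have hXi : ∀ t, IsAlgSpace (pullback a ((yon S).map (h t))) := fun t =>
    Groth.Agent.H5.AlgSp.isAlgSpace_pullback (IsAlgSpace.yon_obj U).diag F.property
      (IsAlgSpace.yon_obj (V t)) (IsPullback.of_hasPullback a ((yon S).map (h t)))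
  refine (hP (fun t => (yon S).obj (V t)) (fun t => (yon S).map (h t)) (IsAlgSpace.yon_obj U)
    (fun t => IsAlgSpace.yon_obj (V t)) (isFppfCover_yon V h h1 h2 (fun t => ⟨t, h3 t⟩)) a F.property
    (fun t => pullback a ((yon S).map (h t))) (fun t => pullback.snd a ((yon S).map (h t)))
    (fun t => pullback.fst a ((yon S).map (h t))) hXi
    (fun t => IsPullback.of_hasPullback a ((yon S).map (h t)))).2 ?_
  intro t
  rw [← repByAlgSpWith_ofPshMap_iff P hPb hPc (hXi t) (IsAlgSpace.yon_obj (V t))]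
  have sqP : IsPullback (pullback.fst a ((yon S).map (h t))).hom
      (pullback.snd a ((yon S).map (h t))).hom a.hom ((pyon S).map (h t)) :=
    (IsPullback.of_hasPullback a ((yon S).map (h t))).map (sheafToPresheaf (J S) (Type (u + 1)))
  have hL := isTwoCartOver_of_isPullback sqP
  -- step 1: to the 2-fibre product of the functors of presheaves
  let ε₁ : BasedFunctor.comp (Stk.ofPshMap (pullback.snd a ((yon S).map (h t))).hom)
      (BasedFunctor.id _) ≅ BasedFunctor.comp
        (FibCat.fpLift (Stk.ofPshMap (pullback.snd a ((yon S).map (h t))).hom)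
          (Stk.ofPshMap (pullback.fst a ((yon S).map (h t))).hom) (sqE sqP.w))
        (FibCat.fpFst (Stk.ofPshMap ((pyon S).map (h t))) (Stk.ofPshMap a.hom)) := Iso.refl _
  refine repByAlgSpWith_of_square P
    (FibCat.fpFst (Stk.ofPshMap ((pyon S).map (h t))) (Stk.ofPshMap a.hom)) _ _ (BasedFunctor.id _)
    hL isEquivOver_id ε₁ ?_
  -- step 2: to the 2-fibre product over `(Sch/U)`
  obtain ⟨α⟩ := overMapIso (h t)
  let β : BasedFunctor.comp (Stk.ofPshMap a.hom) (toOver U) ≅ BasedFunctor.comp e π := ι.symm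
  obtain ⟨⟨hU1, hU2⟩, -⟩ := (X5139 (toOver U)).1 (isEquivOver_toOver U)
  let N := fpMap (F' := Stk.ofPshMap ((pyon S).map (h t))) (G' := Stk.ofPshMap a.hom)
    (F := AlgSt.overMap (h t)) (G := π) (toOver (V t)) e (toOver U) α β
  have hN : FibCat.IsEquivOver N := isEquivOver_fpMap _ _ _ _ _ (isEquivOver_toOver (V t)) he
  let ε₂ : BasedFunctor.comp
      (FibCat.fpFst (Stk.ofPshMap ((pyon S).map (h t))) (Stk.ofPshMap a.hom)) (toOver (V t)) ≅
      BasedFunctor.comp N (FibCat.fpFst (AlgSt.overMap (h t)) π) := Iso.refl _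
  exact repByAlgSpWith_of_square P (FibCat.fpFst (AlgSt.overMap (h t)) π) _ N (toOver (V t)) hN
    (isEquivOver_toOver (V t)) ε₂ (hloc (h t) (hRh t))

end LemmaD

section Main

variable {𝒳 𝒴 𝒵 : AlgSt.Cat S}

/-- **S12781**: descent of "representable by algebraic spaces with `P`" along a 1-morphism that
is locally essentially surjective. -/
theorem repByAlgSpWith_descent (P : MorphismProperty (Sp S)) (hPb : BaseChangeSp P)
    (hP : IsLocalOnBase IsFppfCover P) (f : 𝒳 ⥤ᵇ 𝒴) (hf : AlgSt.RepByAlgSp1 f) (g : 𝒵 ⥤ᵇ 𝒴)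
    (hg : ∀ (U : Over S) (y : FibCat.overCat U ⥤ᵇ 𝒴), ∃ R ∈ J S U,
      ∀ ⦃V : Over S⦄ (h : V ⟶ U), R.arrows h →
        ∃ z : FibCat.overCat V ⥤ᵇ 𝒵,
          Nonempty (BasedFunctor.comp z g ≅ BasedFunctor.comp (AlgSt.overMap h) y))
    (h' : AlgSt.RepByAlgSpWith P (FibCat.fpFst g f)) : AlgSt.RepByAlgSpWith P f := by
  intro U y
  obtain ⟨F, e, he⟩ := hf U y
  obtain ⟨R, hR, hloc⟩ := hg U y
  refine ⟨F, e, he, spMapOfOver_of_sieve P hPb hP (FibCat.fpFst y f) F e he R hR ?_⟩
  intro V h hRh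
  obtain ⟨z, ⟨ι⟩⟩ := hloc h hRh
  -- base change of `fpFst g f` along `z`
  have s1 : AlgSt.RepByAlgSpWith P (FibCat.fpFst z (FibCat.fpFst g f)) :=
    repByAlgSpWith_fpFst P (FibCat.fpFst g f) z h'
  have s2 : AlgSt.RepByAlgSpWith P (FibCat.fpFst (BasedFunctor.comp z g) f) := by
    let ε : BasedFunctor.comp (FibCat.fpFst z (FibCat.fpFst g f)) (BasedFunctor.id _) ≅
        BasedFunctor.comp (pasteL z g f) (FibCat.fpFst (BasedFunctor.comp z g) f) := Iso.refl _
    exact repByAlgSpWith_of_square' P _ _ (pasteL z g f) (BasedFunctor.id _)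
      (isEquivOver_pasteL z g f) isEquivOver_id ε s1
  have s3 : AlgSt.RepByAlgSpWith P (FibCat.fpFst (BasedFunctor.comp (AlgSt.overMap h) y) f) :=
    repByAlgSpWith_fpFst_of_iso P f ι s2
  let ε : BasedFunctor.comp (FibCat.fpFst (AlgSt.overMap h) (FibCat.fpFst y f))
      (BasedFunctor.id _) ≅ BasedFunctor.comp (pasteL (AlgSt.overMap h) y f)
        (FibCat.fpFst (BasedFunctor.comp (AlgSt.overMap h) y) f) := Iso.refl _
  exact repByAlgSpWith_of_square P _ _ (pasteL (AlgSt.overMap h) y f) (BasedFunctor.id _)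
    (isEquivOver_pasteL (AlgSt.overMap h) y f) isEquivOver_id ε s3

end Main

end Groth.Agent.H3.AlgStDescent
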