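import Mathlib
import Groth.Agent.Lib.Helper3.AlgSt.Descent
import Groth.Agent.Lib.Helper3.AlgSt.DiagRep
import Groth.Agent.Lib.Helper3.Whisker
import Groth.Agent.Lib.Helper5.AlgSp.LocPCalc

/-!
# Locally essentially surjective 1-morphisms (helper3)

`LES g` : every chart of the target lifts through `g` after passing to an fppf covering sieve.
Flat, locally finitely presented, surjective 1-morphisms representable by algebraic spaces are
`LES`, and `LES` passes to the comparison `𝒳' ×_{𝒴'} 𝒳' ⟶ 𝒳 ×_𝒴 𝒳`.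
-/

set_option autoImplicit false
universe v₂ u₂ v₃ u₃ v u
open CategoryTheory CategoryTheory.Functor CategoryTheory.Limits Opposite AlgebraicGeometry

namespace Groth.Agent.H3.AlgStLES

open Groth.Agent.H3.FibCatAux Groth.Agent.H3.GerbAux Groth.Agent.H3.FpCalc Groth.Agent.H3.TwoCart
  Groth.Agent.H3.StackPsh Groth.Agent.H3.PshBridge Groth.Agent.H3.AlgStAux Groth.Agent.H3.RepBridge
  Groth.Agent.H3.SetoidPsh Groth.Agent.H3.BaseChangeSp Groth.Agent.H3.AlgStComp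
  Groth.Agent.H3.AlgStProps Groth.Agent.H3.AlgStBridge2 Groth.Agent.H3.AlgStCharts
  Groth.Agent.H3.AlgStDescent Groth.Agent.H3.Whisker
open AlgSp

variable {S : Scheme.{u}}

/-- `g` is locally essentially surjective for the fppf topology -/
def LES {𝒵 𝒴 : AlgSt.Cat S} (g : 𝒵 ⥤ᵇ 𝒴) : Prop :=
  ∀ (U : Over S) (y : FibCat.overCat U ⥤ᵇ 𝒴), ∃ R ∈ J S U,
    ∀ ⦃V : Over S⦄ (h : V ⟶ U), R.arrows h →
      ∃ z : FibCat.overCat V ⥤ᵇ 𝒵,
        Nonempty (BasedFunctor.comp z g ≅ BasedFunctor.comp (AlgSt.overMap h) y)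

section OverMap

/-- `(Sch/V) ⟶ (Sch/T) ⟶ (Sch/U)` is the functor of the composite -/
theorem overMapComp {V T U : Over S} (k : V ⟶ T) (c : T ⟶ U) :
    Nonempty (BasedFunctor.comp (AlgSt.overMap k) (AlgSt.overMap c) ≅ AlgSt.overMap (k ≫ c)) := by
  apply iso_of_fiberwise_iso (isFibSetoid_overCat U)
  intro x
  have hx : (BasedFunctor.comp (AlgSt.overMap k) (AlgSt.overMap c)).obj x =
      (AlgSt.overMap (k ≫ c)).obj x := by
    show (Over.map c).obj ((Over.map k).obj x) = (Over.map (k ≫ c)).obj x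
    rw [Over.mapComp_eq]
    rfl
  exact ⟨eqToIso hx, IsHomLift.eqToHom_domain_lift_id hx
    ((BasedFunctor.comp (AlgSt.overMap k) (AlgSt.overMap c)).w_obj x)⟩

end OverMap

section Fppf

variable {𝒵 𝒴 : AlgSt.Cat S}

/-- a chart of the target of a flat, locally finitely presented, surjective 1-morphism lifts after
an fppf covering by one scheme -/
theorem exists_fppf_chart (z : 𝒵 ⥤ᵇ 𝒴) (hz₁ : AlgSt.RepByAlgSpWith (LocP @Flat) z)
    (hz₂ : AlgSt.RepByAlgSpWith (LocP @LocallyOfFinitePresentation) z)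
    (hz₃ : AlgSt.RepByAlgSpWith IsSurjectiveMor z) (U : Over S) (y : FibCat.overCat U ⥤ᵇ 𝒴) :
    ∃ (T : Over S) (c : T ⟶ U) (t : FibCat.overCat T ⥤ᵇ 𝒵), Flat c.left ∧
      LocallyOfFinitePresentation c.left ∧ Function.Surjective c.left ∧
      Nonempty (BasedFunctor.comp t z ≅ BasedFunctor.comp (AlgSt.overMap c) y) := by
  obtain ⟨G, e, he, hb1⟩ := hz₁ U y
  have hb2 := ((repByAlgSpWith_iff_forall _ good_lfp.bc good_lfp.toC.charts z).1 hz₂).2 U y G e he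
  have hb3 := ((repByAlgSpWith_iff_forall _ good_isSurjectiveMor.bc
    good_isSurjectiveMor.toC.charts z).1 hz₃).2 U y G e he
  set b := AlgSt.spMapOfOver (BasedFunctor.comp e (FibCat.fpFst y z)) with hb
  obtain ⟨T, q, hqe, hqs⟩ := G.property.atlas
  obtain ⟨c, hc⟩ : ∃ c : T ⟶ U, (yon S).map c = q ≫ b := ⟨(yon S).preimage (q ≫ b), by simp⟩
  have hc1 : Flat c.left := by
    have : LocP @Flat ((yon S).map c) := by
      rw [hc]; exact Groth.Agent.H5.AlgSp.locP_comp_etale hqe hb1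
    exact locP_yon_map this
  have hc2 : LocallyOfFinitePresentation c.left := by
    have : LocP @LocallyOfFinitePresentation ((yon S).map c) := by
      rw [hc]; exact Groth.Agent.H5.AlgSp.locP_comp_etale hqe hb2
    exact locP_yon_map this
  have hc3 : Function.Surjective c.left := by
    intro u
    obtain ⟨g, hg⟩ := hb3 (Points.ofScheme U u)
    obtain ⟨t', ht'⟩ := Groth.Agent.H5.AlgSp.points_map_surjective_of_repWith hqs g
    refine ⟨Points.toScheme T t', ?_⟩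
    rw [← Points.toScheme_ofPt c (Points.toScheme T t')]
    have h1 : Points.ofPt ((yon S).map c) (Points.toScheme T t') =
        Points.map ((yon S).map c) (Points.ofScheme T (Points.toScheme T t')) := by
      rw [Points.map_ofPt, Category.id_comp]
    rw [h1, Points.ofScheme_toScheme, hc, Points.map_comp, ht', hg, Points.toScheme_ofScheme]
  -- the lift
  let Ψ : FibCat.overCat T ⥤ᵇ FibCat.fp y z :=
    BasedFunctor.comp (ofOver T) (BasedFunctor.comp (AlgSt.ofSpMap q) e)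
  refine ⟨T, c, BasedFunctor.comp Ψ (FibCat.fpSnd y z), hc1, hc2, hc3, ?_⟩
  let Φ : AlgSt.ofSp ((yon S).obj T) ⥤ᵇ FibCat.overCat U :=
    BasedFunctor.comp (AlgSt.ofSpMap q) (BasedFunctor.comp e (FibCat.fpFst y z))
  have hΦ : AlgSt.spMapOfOver Φ = (yon S).map c := by
    rw [hc]; exact spMapOfOver_ofSpMap_comp q _
  obtain ⟨ι₁⟩ := projIso Φ
  rw [hΦ] at ι₁
  obtain ⟨ι₂⟩ := overMapIso c
  let i2 : BasedFunctor.comp Ψ (FibCat.fpFst y z) ≅ AlgSt.overMap c :=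
    whiskerL (ofOver T) (ι₁ ≪≫ ι₂)
  let i1 : BasedFunctor.comp (BasedFunctor.comp Ψ (FibCat.fpFst y z)) y ≅
      BasedFunctor.comp (BasedFunctor.comp Ψ (FibCat.fpSnd y z)) z :=
    whiskerL Ψ (FibCat.fpIso y z)
  exact ⟨i1.symm ≪≫ whiskerR i2 y⟩

/-- flat, locally finitely presented, surjective 1-morphisms representable by algebraic spaces
are locally essentially surjective -/
theorem les_of_fppf (z : 𝒵 ⥤ᵇ 𝒴) (hz₁ : AlgSt.RepByAlgSpWith (LocP @Flat) z)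
    (hz₂ : AlgSt.RepByAlgSpWith (LocP @LocallyOfFinitePresentation) z)
    (hz₃ : AlgSt.RepByAlgSpWith IsSurjectiveMor z) : LES z := by
  intro U y
  obtain ⟨T, c, t, hc1, hc2, hc3, ⟨ι⟩⟩ := exists_fppf_chart z hz₁ hz₂ hz₃ U y
  refine ⟨Sieve.generate (Presieve.singleton c), ?_, ?_⟩
  · exact Groth.Agent.H5.AlgSp.mem_J_of_fppf c hc1 hc2 ⟨hc3⟩ _
      ⟨T, 𝟙 T, c, Presieve.singleton.mk, Category.id_comp c⟩
  · rintro V h ⟨T', k, c', ⟨⟩, rfl⟩
    obtain ⟨κ⟩ := overMapComp k c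
    exact ⟨BasedFunctor.comp (AlgSt.overMap k) t,
      ⟨whiskerL (AlgSt.overMap k) ι ≪≫ whiskerR κ y⟩⟩

end Fppf

section Applications

variable {𝒳 𝒴 𝒵 : AlgSt.Cat S}

/-- "representable by algebraic spaces with `P`" is invariant under 2-isomorphism -/
theorem repByAlgSpWith_of_iso (P : MorphismProperty (Sp S)) {f f' : 𝒳 ⥤ᵇ 𝒴} (ι : f ≅ f')
    (h : AlgSt.RepByAlgSpWith P f) : AlgSt.RepByAlgSpWith P f' := by
  let ε : BasedFunctor.comp f' (BasedFunctor.id 𝒴) ≅ BasedFunctor.comp (BasedFunctor.id 𝒳) f :=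
    ι.symm
  exact repByAlgSpWith_of_square P f f' (BasedFunctor.id 𝒳) (BasedFunctor.id 𝒴) isEquivOver_id
    isEquivOver_id ε h

/-- descent along a locally essentially surjective 1-morphism (S12781 restated) -/
theorem repByAlgSpWith_of_les (P : MorphismProperty (Sp S)) (hPb : BaseChangeSp P)
    (hP : IsLocalOnBase IsFppfCover P) (f : 𝒳 ⥤ᵇ 𝒴) (hf : AlgSt.RepByAlgSp1 f) (g : 𝒵 ⥤ᵇ 𝒴)
    (hg : LES g) (h' : AlgSt.RepByAlgSpWith P (FibCat.fpFst g f)) : AlgSt.RepByAlgSpWith P f :=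
  repByAlgSpWith_descent P hPb hP f hf g hg h'

/-- S12843 -/
theorem repByAlgSpWith_iff_fpFst_of_fppf (P : MorphismProperty (Sp S)) (hPb : BaseChangeSp P)
    (hP : IsLocalOnBase IsFppfCover P) (f : 𝒳 ⥤ᵇ 𝒴) (hf : AlgSt.RepByAlgSp1 f) (z : 𝒵 ⥤ᵇ 𝒴)
    (hz₁ : AlgSt.RepByAlgSpWith (LocP @Flat) z)
    (hz₂ : AlgSt.RepByAlgSpWith (LocP @LocallyOfFinitePresentation) z)
    (hz₃ : AlgSt.RepByAlgSpWith IsSurjectiveMor z) :
    AlgSt.RepByAlgSpWith P f ↔ AlgSt.RepByAlgSpWith P (FibCat.fpFst z f) :=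
  ⟨fun h => repByAlgSpWith_fpFst P f z h,
    fun h' => repByAlgSpWith_descent P hPb hP f hf z (les_of_fppf z hz₁ hz₂ hz₃) h'⟩

/-- S12844 -/
theorem repByAlgSpWith_iff_exists_space_of_fppf (h𝒳 : FibCat.IsFibGrpd 𝒳.p)
    (h𝒴 : FibCat.IsFibGrpd 𝒴.p) (P : MorphismProperty (Sp S)) (hPb : BaseChangeSp P)
    (hP : IsLocalOnBase IsFppfCover P) (f : 𝒳 ⥤ᵇ 𝒴) (hf : AlgSt.RepByAlgSp1 f) (W : Space S)
    (w : AlgSt.ofSp W.obj ⥤ᵇ 𝒴) (hw₁ : AlgSt.RepByAlgSpWith (LocP @Flat) w)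
    (hw₂ : AlgSt.RepByAlgSpWith (LocP @LocallyOfFinitePresentation) w)
    (hw₃ : AlgSt.RepByAlgSpWith IsSurjectiveMor w) :
    AlgSt.RepByAlgSpWith P f ↔
      ∃ (V : Space S) (a : V ⟶ W) (e : AlgSt.ofSp V.obj ⥤ᵇ FibCat.fp w f),
        FibCat.IsEquivOver e ∧
          Nonempty (BasedFunctor.comp e (FibCat.fpFst w f) ≅ AlgSt.ofSpMap a.hom) ∧ P a.hom := by
  constructor
  · intro h
    exact exists_space_of_fp P hPb hP h𝒳 h𝒴 f h W w
  · rintro ⟨V, a, e, he, ⟨ι⟩, ha⟩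
    refine repByAlgSpWith_descent P hPb hP f hf w (les_of_fppf w hw₁ hw₂ hw₃) ?_
    rw [← repByAlgSpWith_comp_equiv_iff P e he]
    refine repByAlgSpWith_of_iso P ι.symm ?_
    exact (repByAlgSpWith_ofPshMap_iff P hPb (ofCharts_of_isLocalOnBase P hP) V.property W.property
      a.hom).2 ha

end Applications

end Groth.Agent.H3.AlgStLES
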