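import Mathlib
import Groth.Agent.Lib.Helper3.AlgSt.LocEssSurj

/-!
# Properties local on the source: cancelling a surjective cover (helper3)
-/

set_option autoImplicit false
universe v₂ u₂ v₃ u₃ v u
open CategoryTheory CategoryTheory.Functor CategoryTheory.Limits Opposite AlgebraicGeometry

namespace Groth.Agent.H3.AlgStSourceLocal

open Groth.Agent.H3.FibCatAux Groth.Agent.H3.GerbAux Groth.Agent.H3.FpCalc Groth.Agent.H3.TwoCart
  Groth.Agent.H3.StackPsh Groth.Agent.H3.PshBridge Groth.Agent.H3.AlgStAux Groth.Agent.H3.RepBridge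
  Groth.Agent.H3.SetoidPsh Groth.Agent.H3.BaseChangeSp Groth.Agent.H3.AlgStComp
  Groth.Agent.H3.AlgStProps Groth.Agent.H3.AlgStBridge2 Groth.Agent.H3.AlgStCharts
  Groth.Agent.H3.AlgStDescent Groth.Agent.H3.Whisker Groth.Agent.H3.AlgStLES
open AlgSp

variable {S : Scheme.{u}} {𝒳 𝒴 𝒵 : AlgSt.Cat S}

lemma baseChangeSp_and {P Q : MorphismProperty (Sp S)} (hP : BaseChangeSp P)
    (hQ : BaseChangeSp Q) : BaseChangeSp (fun _ _ f => P f ∧ Q f) :=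
  fun _ _ _ _ h1 h2 h3 h4 a b a' b' sq h =>
    ⟨hP h1 h2 h3 h4 a b a' b' sq h.1, hQ h1 h2 h3 h4 a b a' b' sq h.2⟩

lemma ofCharts_and {P Q : MorphismProperty (Sp S)} (hP : OfCharts P) (hQ : OfCharts Q) :
    OfCharts (fun _ _ f => P f ∧ Q f) :=
  fun _ _ hX hY b h =>
    ⟨hP hX hY b (fun U ξ F' fst snd sq => by
        obtain ⟨hs, hA, h2⟩ := h ξ fst snd sq
        exact ⟨hs, hA, h2.1⟩),
      hQ hX hY b (fun U ξ F' fst snd sq => by
        obtain ⟨hs, hA, h2⟩ := h ξ fst snd sq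
        exact ⟨hs, hA, h2.2⟩)⟩

/-- two properties hold for one and the same representing space -/
theorem repByAlgSpWith_and (P Q : MorphismProperty (Sp S)) (hQb : BaseChangeSp Q) (hQ : OfCharts Q)
    (f : 𝒳 ⥤ᵇ 𝒴) (h1 : AlgSt.RepByAlgSpWith P f) (h2 : AlgSt.RepByAlgSpWith Q f) :
    AlgSt.RepByAlgSpWith (fun _ _ a => P a ∧ Q a) f := by
  intro U y
  obtain ⟨F, e, he, hp⟩ := h1 U y
  exact ⟨F, e, he, hp, ((repByAlgSpWith_iff_forall Q hQb hQ f).1 h2).2 U y F e he⟩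

theorem repByAlgSpWith_and_left (P Q : MorphismProperty (Sp S)) (f : 𝒳 ⥤ᵇ 𝒴)
    (h : AlgSt.RepByAlgSpWith (fun _ _ a => P a ∧ Q a) f) : AlgSt.RepByAlgSpWith P f := by
  intro U y
  obtain ⟨F, e, he, hp, -⟩ := h U y
  exact ⟨F, e, he, hp⟩

theorem repByAlgSpWith_and_right (P Q : MorphismProperty (Sp S)) (f : 𝒳 ⥤ᵇ 𝒴)
    (h : AlgSt.RepByAlgSpWith (fun _ _ a => P a ∧ Q a) f) : AlgSt.RepByAlgSpWith Q f := by
  intro U y
  obtain ⟨F, e, he, -, hq⟩ := h U y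
  exact ⟨F, e, he, hq⟩

/-- a chart of a composite: the representing space of `z ×_𝒵 𝒳` maps to any representing space of
`z ×_𝒵 𝒴` with the property of `f` -/
theorem exists_comp_chart (h𝒳 : FibCat.IsFibGrpd 𝒳.p) (h𝒴 : FibCat.IsFibGrpd 𝒴.p)
    (P : MorphismProperty (Sp S)) (hPb : BaseChangeSp P) (hP : OfCharts P) (f : 𝒳 ⥤ᵇ 𝒴)
    (g : 𝒴 ⥤ᵇ 𝒵) (hf : AlgSt.RepByAlgSpWith P f) (U : Over S) (z : FibCat.overCat U ⥤ᵇ 𝒵)
    (G₁ : Space S) (e_g : AlgSt.ofSp G₁.obj ⥤ᵇ FibCat.fp z g) (he_g : FibCat.IsEquivOver e_g) :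
    ∃ (V : Space S) (a : V ⟶ G₁) (e : AlgSt.ofSp V.obj ⥤ᵇ FibCat.fp z (BasedFunctor.comp f g)),
      FibCat.IsEquivOver e ∧ P a.hom ∧
        AlgSt.spMapOfOver (BasedFunctor.comp e (FibCat.fpFst z (BasedFunctor.comp f g))) =
          a.hom ≫ AlgSt.spMapOfOver (BasedFunctor.comp e_g (FibCat.fpFst z g)) := by
  let w : AlgSt.ofSp G₁.obj ⥤ᵇ 𝒴 := BasedFunctor.comp e_g (FibCat.fpSnd z g)
  obtain ⟨V, a, e_f, he_f, ⟨ι⟩, ha⟩ := exists_space_of_fp' P hPb hP h𝒳 h𝒴 f hf G₁ w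
  let α : BasedFunctor.comp w (BasedFunctor.id 𝒴) ≅ BasedFunctor.comp e_g (FibCat.fpSnd z g) :=
    Iso.refl _
  let N := fpMap (F' := w) (G' := f) (F := FibCat.fpSnd z g) (G := f) e_g (BasedFunctor.id 𝒳)
    (BasedFunctor.id 𝒴) α (idSq f)
  have hN : FibCat.IsEquivOver N := by
    have : (BasedFunctor.id 𝒴).toFunctor.Full := Functor.Full.id
    have : (BasedFunctor.id 𝒴).toFunctor.Faithful := Functor.Faithful.id
    exact isEquivOver_fpMap _ _ _ _ _ he_g isEquivOver_id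
  let R := pasteR z g f
  have hR : FibCat.IsEquivOver R := isEquivOver_pasteR z g f
  let e := BasedFunctor.comp e_f (BasedFunctor.comp N R)
  have he : FibCat.IsEquivOver e := isEquivOver_comp e_f _ he_f (isEquivOver_comp N R hN hR)
  refine ⟨V, a, e, he, ha, ?_⟩
  rw [← spMapOfOver_ofSpMap_comp]
  apply spMapOfOver_eq_of_pointwise
  intro x
  let Ψ := BasedFunctor.comp e_g (FibCat.fpFst z g)
  refine ⟨Ψ.map (appIso ι x).hom, ?_⟩
  have h1 : (AlgSt.ofSp G₁.obj).p.IsHomLift (𝟙 x.base) (appIso ι x).hom :=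
    appIso_hom_isHomLift ι x rfl
  exact BasedFunctor.preserves_isHomLift Ψ (𝟙 x.base) (appIso ι x).hom

/-- **Cancelling a surjective cover**: if `y ∘ x` has `P`, `x` is a surjective `Q`-morphism and `P`
is local on the source for `Q`-coverings, then `y` has `P`. -/
theorem repByAlgSpWith_of_comp_of_cover (h𝒳 : FibCat.IsFibGrpd 𝒳.p) (h𝒴 : FibCat.IsFibGrpd 𝒴.p)
    (Q : MorphismProperty (Sp S)) (hQb : BaseChangeSp Q) (hQ : OfCharts Q)
    (P : MorphismProperty (Sp S)) (hPb : BaseChangeSp P) (hP : OfCharts P)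
    (hP' : IsLocalOnSource (fun _ _ Y g => IsCover Q Y g) P)
    (x : 𝒳 ⥤ᵇ 𝒴) (y : 𝒴 ⥤ᵇ 𝒵) (hy : AlgSt.RepByAlgSp1 y)
    (hx₁ : AlgSt.RepByAlgSpWith Q x) (hx₂ : AlgSt.RepByAlgSpWith IsSurjectiveMor x)
    (h : AlgSt.RepByAlgSpWith P (BasedFunctor.comp x y)) : AlgSt.RepByAlgSpWith P y := by
  intro U u
  obtain ⟨G₁, e_g, he_g⟩ := hy U u
  refine ⟨G₁, e_g, he_g, ?_⟩
  have hx := repByAlgSpWith_and Q IsSurjectiveMor good_isSurjectiveMor.bc
    good_isSurjectiveMor.toC.charts x hx₁ hx₂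
  obtain ⟨V, a, e, he, ⟨ha1, ha2⟩, key⟩ := exists_comp_chart h𝒳 h𝒴
    (fun _ _ a => Q a ∧ IsSurjectiveMor a) (baseChangeSp_and hQb good_isSurjectiveMor.bc)
    (ofCharts_and hQ good_isSurjectiveMor.toC.charts) x y hx U u G₁ e_g he_g
  have hPV := ((repByAlgSpWith_iff_forall P hPb hP (BasedFunctor.comp x y)).1 h).2 U u V e he
  rw [key] at hPV
  refine (hP' (fun _ : PUnit.{u + 1} => V.obj) (fun _ => a.hom) G₁.property
    (fun _ => V.property) ⟨fun _ => ha1, fun p => ⟨PUnit.unit, ha2 p⟩⟩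
    (AlgSt.spMapOfOver (BasedFunctor.comp e_g (FibCat.fpFst u y))) (IsAlgSpace.yon_obj U)).2 ?_
  intro _
  exact hPV

end Groth.Agent.H3.AlgStSourceLocal
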