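import Mathlib
import Groth.Agent.Lib.Helper3.AlgSt.SourceLocal
import Groth.Agent.Lib.Helper3.TwoCartGraph

/-!
# Cancellation for "representable by algebraic spaces with `P`" (helper3)
-/

set_option autoImplicit false
universe v₂ u₂ v₃ u₃ v u
open CategoryTheory CategoryTheory.Functor CategoryTheory.Limits Opposite AlgebraicGeometry

namespace Groth.Agent.H3.AlgStCancel

open Groth.Agent.H3.FibCatAux Groth.Agent.H3.GerbAux Groth.Agent.H3.FpCalc Groth.Agent.H3.TwoCart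
  Groth.Agent.H3.StackPsh Groth.Agent.H3.PshBridge Groth.Agent.H3.AlgStAux Groth.Agent.H3.RepBridge
  Groth.Agent.H3.SetoidPsh Groth.Agent.H3.BaseChangeSp Groth.Agent.H3.AlgStComp
  Groth.Agent.H3.AlgStProps Groth.Agent.H3.AlgStBridge2 Groth.Agent.H3.AlgStCharts
  Groth.Agent.H3.AlgStDescent Groth.Agent.H3.Whisker Groth.Agent.H3.AlgStLES
  Groth.Agent.H3.AlgStStackRep
open AlgSp

variable {S : Scheme.{u}} {𝒜 ℬ 𝒞 : AlgSt.Cat S}

/-- **Cancellation**: if `b ∘ a` and the diagonal of `b` have `P`, then `a` has `P`. -/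
theorem repByAlgSpWith_cancel (P : MorphismProperty (Sp S)) (hP : GoodC P)
    (h𝒜 : FibCat.IsFibGrpd 𝒜.p) (hℬ : FibCat.IsFibGrpd ℬ.p) (h𝒞 : FibCat.IsFibGrpd 𝒞.p)
    (a : 𝒜 ⥤ᵇ ℬ) (b : ℬ ⥤ᵇ 𝒞) (hab : AlgSt.RepByAlgSpWith P (BasedFunctor.comp a b))
    (hΔ : AlgSt.RepByAlgSpWith P (FibCat.diag b)) : AlgSt.RepByAlgSpWith P a := by
  let e : BasedFunctor.comp (BasedFunctor.id 𝒜) (BasedFunctor.comp a b) ≅ BasedFunctor.comp a b :=
    Iso.refl _
  have hΓ : AlgSt.RepByAlgSpWith P (graphΓ (BasedFunctor.comp a b) b a e) :=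
    repByAlgSpWith_of_isTwoCartOver P (graphR (BasedFunctor.comp a b) b a e) (FibCat.diag b)
      (graphΓ (BasedFunctor.comp a b) b a e) a (graphE (BasedFunctor.comp a b) b a e)
      (graph_isTwoCartOver (BasedFunctor.comp a b) b a e) hΔ
  have hpr : AlgSt.RepByAlgSpWith P (FibCat.fpSnd (BasedFunctor.comp a b) b) :=
    repByAlgSpWith_fpSnd P (BasedFunctor.comp a b) b hab
  have h := hP.repComp h𝒜 (X6401 (BasedFunctor.comp a b) b h𝒜 hℬ h𝒞)
    (graphΓ (BasedFunctor.comp a b) b a e) (FibCat.fpSnd (BasedFunctor.comp a b) b) hΓ hpr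
  exact h

end Groth.Agent.H3.AlgStCancel
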