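import Mathlib
import Groth.Agent.Lib.Helper3.AlgSt.Cancel
import Groth.Agent.Lib.Helper3.DiagSquare
import Groth.Agent.Lib.Helper3.AlgSt.DiagRep

/-!
# Properties of the diagonal of a 1-morphism representable by algebraic spaces (helper3)
-/

set_option autoImplicit false
universe v₂ u₂ v₃ u₃ w v u
open CategoryTheory CategoryTheory.Functor CategoryTheory.Limits Opposite AlgebraicGeometry

namespace Groth.Agent.H3.AlgStDiagProp

open Groth.Agent.H3.FibCatAux Groth.Agent.H3.GerbAux Groth.Agent.H3.FpCalc Groth.Agent.H3.TwoCart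
  Groth.Agent.H3.StackPsh Groth.Agent.H3.PshBridge Groth.Agent.H3.AlgStAux Groth.Agent.H3.RepBridge
  Groth.Agent.H3.SetoidPsh Groth.Agent.H3.BaseChangeSp Groth.Agent.H3.AlgStComp
  Groth.Agent.H3.AlgStProps Groth.Agent.H3.AlgStBridge2 Groth.Agent.H3.AlgStCharts
  Groth.Agent.H3.AlgStDescent Groth.Agent.H3.Whisker Groth.Agent.H3.AlgStLES
  Groth.Agent.H3.AlgStStackRep Groth.Agent.H3.DiagSquare Groth.Agent.H3.AlgStDiagRep
open AlgSp

section Elt

variable {C : Type u} [Category.{v} C] {P : Cᵒᵖ ⥤ Type w}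

/-- the isomorphism of two objects of the category of elements with equal sections -/
def eltIsoOfEq {T : C} {s s' : P.obj (op T)} (h : s = s') :
    (⟨T, s⟩ : Stk.EltObj P) ≅ ⟨T, s'⟩ where
  hom := ⟨𝟙 T, by subst h; simp⟩
  inv := ⟨𝟙 T, by subst h; simp⟩
  hom_inv_id := by apply Stk.EltObj.hom_ext; simp
  inv_hom_id := by apply Stk.EltObj.hom_ext; simp

@[simp] lemma eltIsoOfEq_hom_hom {T : C} {s s' : P.obj (op T)} (h : s = s') :
    (eltIsoOfEq h).hom.hom = 𝟙 T := rfl

lemma eltIsoOfEq_isHomLift {T : C} {s s' : P.obj (op T)} (h : s = s') :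
    (Stk.EltObj.forget P).IsHomLift (𝟙 T) (eltIsoOfEq h).hom :=
  IsHomLift.of_fac' _ _ _ rfl rfl (by simp)

end Elt

variable {S : Scheme.{u}}

section Factor

variable {𝒳 𝒴 𝒵 𝒯 : AlgSt.Cat S}

/-- if `y` factors through `g` up to 2-isomorphism, the base change of `f` along `y` inherits `P`
from the base change along `g` -/
theorem repByAlgSpWith_fpFst_of_factor (P : MorphismProperty (Sp S)) (f : 𝒳 ⥤ᵇ 𝒴) (g : 𝒵 ⥤ᵇ 𝒴)
    (y : 𝒯 ⥤ᵇ 𝒴) (z : 𝒯 ⥤ᵇ 𝒵) (ι : BasedFunctor.comp z g ≅ y)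
    (h' : AlgSt.RepByAlgSpWith P (FibCat.fpFst g f)) : AlgSt.RepByAlgSpWith P (FibCat.fpFst y f) := by
  have s1 : AlgSt.RepByAlgSpWith P (FibCat.fpFst z (FibCat.fpFst g f)) :=
    repByAlgSpWith_fpFst P (FibCat.fpFst g f) z h'
  have s2 : AlgSt.RepByAlgSpWith P (FibCat.fpFst (BasedFunctor.comp z g) f) := by
    let ε : BasedFunctor.comp (FibCat.fpFst z (FibCat.fpFst g f)) (BasedFunctor.id _) ≅
        BasedFunctor.comp (pasteL z g f) (FibCat.fpFst (BasedFunctor.comp z g) f) := Iso.refl _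
    exact repByAlgSpWith_of_square' P _ _ (pasteL z g f) (BasedFunctor.id _)
      (isEquivOver_pasteL z g f) isEquivOver_id ε s1
  exact repByAlgSpWith_fpFst_of_iso P f ι s2

end Factor

section Sheaf

variable {X Y : Sp S} (a : X ⟶ Y)

/-- the presheaf-level pullback square of `a` with itself -/
lemma sqP : IsPullback (pullback.fst a a).hom (pullback.snd a a).hom a.hom a.hom :=
  (IsPullback.of_hasPullback a a).map (sheafToPresheaf (J S) (Type (u + 1)))

/-- the comparison equivalence `ofPsh (X ×_Y X) ≃ ofPsh X ×_{ofPsh Y} ofPsh X` -/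
noncomputable def Lfun : Stk.ofPsh (pullback a a).obj ⥤ᵇ
    FibCat.fp (Stk.ofPshMap a.hom) (Stk.ofPshMap a.hom) :=
  FibCat.fpLift (Stk.ofPshMap (pullback.snd a a).hom) (Stk.ofPshMap (pullback.fst a a).hom)
    (sqE (sqP a).w)

lemma isEquivOver_Lfun : FibCat.IsEquivOver (Lfun a) := isTwoCartOver_of_isPullback (sqP a)

lemma diag_fst_app (T : Over S) (s : X.obj.obj (op T)) :
    (pullback.fst a a).hom.app (op T) ((pullback.diagonal a).hom.app (op T) s) = s := by
  have h : pullback.diagonal a ≫ pullback.fst a a = 𝟙 X := pullback.diagonal_fst a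
  have h2 := congrArg (fun t => t.hom.app (op T) s) h
  exact h2

lemma diag_snd_app (T : Over S) (s : X.obj.obj (op T)) :
    (pullback.snd a a).hom.app (op T) ((pullback.diagonal a).hom.app (op T) s) = s := by
  have h : pullback.diagonal a ≫ pullback.snd a a = 𝟙 X := pullback.diagonal_snd a
  have h2 := congrArg (fun t => t.hom.app (op T) s) h
  exact h2

/-- the diagonal of the functor of `a` is the functor of the diagonal of `a` -/
theorem diagIso : Nonempty (BasedFunctor.comp (Stk.ofPshMap (pullback.diagonal a).hom) (Lfun a) ≅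
    FibCat.diag (Stk.ofPshMap a.hom)) := by
  have hset : FibCat.IsFibSetoid (FibCat.fp (Stk.ofPshMap a.hom) (Stk.ofPshMap a.hom)).p :=
    isFibSetoid_of_isEquivOver (Lfun a) (isEquivOver_Lfun a)
      (Groth.Agent.H3.StkAux.isFibSetoid_ofPsh _)
  apply iso_of_fiberwise_iso hset
  rintro ⟨T, s⟩
  let i₁ := eltIsoOfEq (P := X.obj) (diag_snd_app a T s)
  let i₂ := eltIsoOfEq (P := X.obj) (diag_fst_app a T s)
  refine ⟨fpIsoMk (X := (BasedFunctor.comp (Stk.ofPshMap (pullback.diagonal a).hom) (Lfun a)).obj ⟨T, s⟩)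
    (Y := (FibCat.diag (Stk.ofPshMap a.hom)).obj ⟨T, s⟩) i₁ i₂ ?_, ?_⟩
  · apply Stk.EltObj.hom_ext
    show 𝟙 T ≫ 𝟙 T = 𝟙 T ≫ 𝟙 T
    rfl
  · rw [fp_isHomLift_iff]
    exact eltIsoOfEq_isHomLift (P := X.obj) (diag_snd_app a T s)

/-- for a morphism `a` of algebraic spaces, the diagonal of the functor of `a` has `P` iff the
diagonal of `a` has `P` -/
theorem repByAlgSpWith_diag_ofPshMap_iff (P : MorphismProperty (Sp S)) (hPb : BaseChangeSp P)
    (hP : OfCharts P) (hX : IsAlgSpace X) (hY : IsAlgSpace Y) :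
    AlgSt.RepByAlgSpWith P (FibCat.diag (Stk.ofPshMap a.hom)) ↔ P (pullback.diagonal a) := by
  have hXX : IsAlgSpace (pullback a a) :=
    Groth.Agent.H5.AlgSp.isAlgSpace_pullback hY.diag hX hX (IsPullback.of_hasPullback a a)
  rw [← repByAlgSpWith_ofPshMap_iff P hPb hP hX hXX (pullback.diagonal a)]
  obtain ⟨ι⟩ := diagIso a
  let ε : BasedFunctor.comp (Stk.ofPshMap (pullback.diagonal a).hom) (Lfun a) ≅
      BasedFunctor.comp (BasedFunctor.id _) (FibCat.diag (Stk.ofPshMap a.hom)) := ι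
  constructor
  · exact repByAlgSpWith_of_square P (FibCat.diag (Stk.ofPshMap a.hom))
      (Stk.ofPshMap (pullback.diagonal a).hom) (BasedFunctor.id _) (Lfun a) isEquivOver_id
      (isEquivOver_Lfun a) ε
  · exact repByAlgSpWith_of_square' P (FibCat.diag (Stk.ofPshMap a.hom))
      (Stk.ofPshMap (pullback.diagonal a).hom) (BasedFunctor.id _) (Lfun a) isEquivOver_id
      (isEquivOver_Lfun a) ε

end Sheaf

section Main

variable {𝒳 𝒴 : AlgSt.Cat S}

/-- the diagonal of `π : 𝒲 ⟶ (Sch/U)`, with `𝒲` representable by an algebraic space `G`, has `P` iff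
the diagonal of the morphism `G ⟶ h_U` has `P` -/
theorem repByAlgSpWith_diag_iff_of_space (P : MorphismProperty (Sp S)) (hPb : BaseChangeSp P)
    (hP : OfCharts P) {𝒲 : AlgSt.Cat S} {U : Over S} (π : 𝒲 ⥤ᵇ FibCat.overCat U) (G : Space S)
    (e : AlgSt.ofSp G.obj ⥤ᵇ 𝒲) (he : FibCat.IsEquivOver e) :
    AlgSt.RepByAlgSpWith P (FibCat.diag π) ↔
      P (pullback.diagonal (AlgSt.spMapOfOver (BasedFunctor.comp e π))) := by
  obtain ⟨ι⟩ := projIso (BasedFunctor.comp e π)
  rw [← repByAlgSpWith_diag_ofPshMap_iff (AlgSt.spMapOfOver (BasedFunctor.comp e π)) P hPb hP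
    G.property (IsAlgSpace.yon_obj U)]
  exact (repByAlgSpWith_diag_iff_of_square π
    (Stk.ofPshMap (AlgSt.spMapOfOver (BasedFunctor.comp e π)).hom) e (toOver U) ι.symm P he
    (isEquivOver_toOver U)).symm

/-- **The diagonal of a 1-morphism representable by algebraic spaces** has `P` as soon as the
diagonals of all its base changes to schemes (morphisms of algebraic spaces) have `P`. -/
theorem repByAlgSpWith_diag_of_rep (P : MorphismProperty (Sp S)) (hPb : BaseChangeSp P)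
    (hP : OfCharts P) (h𝒳 : FibCat.IsFibGrpd 𝒳.p) (h𝒴 : FibCat.IsFibGrpd 𝒴.p) (f : 𝒳 ⥤ᵇ 𝒴)
    (hf : AlgSt.RepByAlgSp1 f)
    (H : ∀ (U : Over S) (y : FibCat.overCat U ⥤ᵇ 𝒴) (G : Space S)
      (e : AlgSt.ofSp G.obj ⥤ᵇ FibCat.fp y f), FibCat.IsEquivOver e →
      P (pullback.diagonal (AlgSt.spMapOfOver (BasedFunctor.comp e (FibCat.fpFst y f))))) :
    AlgSt.RepByAlgSpWith P (FibCat.diag f) := by
  apply repByAlgSpWith_of_forall_fpFst P hPb hP (FibCat.diag f) (repByAlgSp1_diag h𝒳 h𝒴 f hf)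
  intro U y
  obtain ⟨G, e, he⟩ := hf U (cg f y)
  have hπ : AlgSt.RepByAlgSpWith P (FibCat.diag (FibCat.fpFst (cg f y) f)) :=
    (repByAlgSpWith_diag_iff_of_space P hPb hP _ G e he).2 (H U (cg f y) G e he)
  have h1 : AlgSt.RepByAlgSpWith P (FibCat.fpFst (dbcM f (cg f y)) (FibCat.diag f)) := by
    let ε : BasedFunctor.comp (FibCat.diag (FibCat.fpFst (cg f y) f)) (BasedFunctor.id _) ≅
        BasedFunctor.comp
          (FibCat.fpLift (FibCat.diag (FibCat.fpFst (cg f y) f)) (FibCat.fpSnd (cg f y) f)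
            (dbcE f (cg f y)))
          (FibCat.fpFst (dbcM f (cg f y)) (FibCat.diag f)) := Iso.refl _
    exact repByAlgSpWith_of_square' P _ _ _ (BasedFunctor.id _) (dbc_isTwoCartOver f (cg f y))
      isEquivOver_id ε hπ
  exact repByAlgSpWith_fpFst_of_factor P (FibCat.diag f) (dbcM f (cg f y)) y (secPair f y)
    (Groth.Agent.H3.AlgStDiagRep.chartIso f y).symm h1

end Main

end Groth.Agent.H3.AlgStDiagProp
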