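import Mathlib
import Groth.Agent.Lib.Helper3.AlgSt.DiagProp
import Groth.Agent.Lib.Helper5.AlgSp.RelDiag

/-!
# The diagonal of a 1-morphism representable by algebraic spaces: concrete properties (helper3)
-/

set_option autoImplicit false
universe u
open CategoryTheory CategoryTheory.Functor CategoryTheory.Limits Opposite AlgebraicGeometry

namespace Groth.Agent.H3.AlgStDiagFacts

open Groth.Agent.H3.FibCatAux Groth.Agent.H3.GerbAux Groth.Agent.H3.FpCalc Groth.Agent.H3.TwoCart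
  Groth.Agent.H3.AlgStAux Groth.Agent.H3.BaseChangeSp Groth.Agent.H3.AlgStComp
  Groth.Agent.H3.AlgStProps Groth.Agent.H3.AlgStBridge2 Groth.Agent.H3.AlgStDiagProp
  Groth.Agent.H3.AlgSpCov
open AlgSp

variable {S : Scheme.{u}}

section Space

variable {X Y : Sp S} (hX : IsAlgSpace X) (a : X ⟶ Y)

include hX

lemma locP_lft_diagonal : LocP @LocallyOfFiniteType (pullback.diagonal a) :=
  Groth.Agent.H5.AlgSp.locP_of_repWith AlgSpCov.etale_le_lft
    (Groth.Agent.H5.AlgSp.repWith_relDiag_of_isAlgSpace hX a).2.1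

lemma locP_lqf_diagonal : LocP (@LocallyQuasiFinite ⊓ @LocallyOfFiniteType) (pullback.diagonal a) :=
  Groth.Agent.H5.AlgSp.locP_of_repWith (fun _ _ f hf => by
    have : Etale f := hf
    exact ⟨Groth.Agent.H5.AlgSp.locallyQuasiFinite_of_etale f, inferInstance⟩)
    (Groth.Agent.H5.AlgSp.repWith_relDiag_of_isAlgSpace hX a).2.2.2.2

lemma locP_unram_diagonal :
    LocP (@LocallyOfFiniteType ⊓ @FormallyUnramified) (pullback.diagonal a) := by
  obtain ⟨h0, h1, h2, -, -⟩ := Groth.Agent.H5.AlgSp.repWith_relDiag_of_isAlgSpace hX a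
  refine Groth.Agent.H5.AlgSp.locP_of_repWith (fun _ _ f hf => by
    have : Etale f := hf
    exact ⟨inferInstance, inferInstance⟩) ⟨h0, fun T V g fst snd sq => ⟨h1.property g fst snd sq, ?_⟩⟩
  have hm : Mono snd.left := h2.property g fst snd sq
  have : IsIso (pullback.diagonal snd.left) := (pullback.isIso_diagonal_iff _).2 hm
  show FormallyUnramified snd.left
  infer_instance

omit hX in
lemma isSeparatedMor_diagonal : IsSeparatedMor (pullback.diagonal a) := by
  have : IsIso (pullback.diagonal (pullback.diagonal a)) :=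
    (pullback.isIso_diagonal_iff _).2 inferInstance
  exact (RepWith (S := S) @IsClosedImmersion).of_isIso _

end Space

section Stack

variable {𝒳 𝒴 : AlgSt.Cat S} (h𝒳 : FibCat.IsFibGrpd 𝒳.p) (h𝒴 : FibCat.IsFibGrpd 𝒴.p)
  (f : 𝒳 ⥤ᵇ 𝒴) (hf : AlgSt.RepByAlgSp1 f)

include h𝒳 h𝒴 hf

theorem diag_lft : AlgSt.RepByAlgSpWith (LocP @LocallyOfFiniteType) (FibCat.diag f) :=
  repByAlgSpWith_diag_of_rep _ good_lft.bc good_lft.toC.charts h𝒳 h𝒴 f hf
    (fun _ _ G _ _ => locP_lft_diagonal G.property _)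

theorem diag_lqf :
    AlgSt.RepByAlgSpWith (LocP (@LocallyQuasiFinite ⊓ @LocallyOfFiniteType)) (FibCat.diag f) :=
  repByAlgSpWith_diag_of_rep _ good_lqf.bc good_lqf.toC.charts h𝒳 h𝒴 f hf
    (fun _ _ G _ _ => locP_lqf_diagonal G.property _)

theorem diag_unram :
    AlgSt.RepByAlgSpWith (LocP (@LocallyOfFiniteType ⊓ @FormallyUnramified)) (FibCat.diag f) :=
  repByAlgSpWith_diag_of_rep _ good_unram.bc good_unram.toC.charts h𝒳 h𝒴 f hf
    (fun _ _ G _ _ => locP_unram_diagonal G.property _)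

theorem diag_mono :
    AlgSt.RepByAlgSpWith (MorphismProperty.monomorphisms (Sp S)) (FibCat.diag f) :=
  repByAlgSpWith_diag_of_rep _ good_monomorphisms.bc good_monomorphisms.toC.charts h𝒳 h𝒴 f hf
    (fun _ _ _ _ _ => MorphismProperty.monomorphisms.infer_property _)

theorem diag_sep : AlgSt.RepByAlgSpWith IsSeparatedMor (FibCat.diag f) :=
  repByAlgSpWith_diag_of_rep _ good_isSeparatedMor.bc good_isSeparatedMor.toC.charts h𝒳 h𝒴 f hf
    (fun _ _ _ _ _ => isSeparatedMor_diagonal _)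

end Stack

section Rep1

variable {𝒳 𝒴 : AlgSt.Cat S}

/-- a 1-morphism all of whose base changes to schemes are algebraic spaces representable over the
scheme is representable (by schemes) -/
theorem isRepresentable1_of_repByAlgSpWith (F : 𝒳 ⥤ᵇ 𝒴)
    (h : AlgSt.RepByAlgSpWith (RepWith (⊤ : MorphismProperty Scheme.{u})) F) :
    FibCat.IsRepresentable1 F := by
  intro U y
  obtain ⟨G, e, he, hrep⟩ := h U y
  obtain ⟨V, snd, fst, sq⟩ := hrep.rep (𝟙 ((yon S).obj U))
  have h1 : IsIso fst := sq.isIso_fst_of_isIso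
  have h2 : IsIso fst.hom := by
    have : fst.hom = (sheafToPresheaf (J S) (Type (u + 1))).map fst := rfl
    rw [this]; infer_instance
  have hM : FibCat.IsEquivOver (Stk.ofPshMap fst.hom) :=
    Groth.Agent.H3.PshBridge.isEquivOver_ofPshMap fst.hom
  exact (isRepresentable_iff_of_isEquivOver _ (isEquivOver_comp _ e hM he)).1
    ⟨V, Groth.Agent.H3.RepBridge.toOver V, Groth.Agent.H3.RepBridge.isEquivOver_toOver V⟩

theorem diag_rep (h𝒳 : FibCat.IsFibGrpd 𝒳.p) (h𝒴 : FibCat.IsFibGrpd 𝒴.p)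
    (f : 𝒳 ⥤ᵇ 𝒴) (hf : AlgSt.RepByAlgSp1 f) : FibCat.IsRepresentable1 (FibCat.diag f) := by
  apply isRepresentable1_of_repByAlgSpWith
  have hg : GoodC (RepWith (S := S) (⊤ : MorphismProperty Scheme.{u})) := goodC_repWith _
  exact repByAlgSpWith_diag_of_rep _ hg.bc hg.charts h𝒳 h𝒴 f hf
    (fun _ _ G _ _ =>
      ⟨(Groth.Agent.H5.AlgSp.repWith_relDiag_of_isAlgSpace G.property _).1, fun _ _ _ _ _ _ => trivial⟩)

end Rep1

end Groth.Agent.H3.AlgStDiagFacts
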