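import Mathlib
import Groth.Agent.Lib.Helper3.AlgSt.DiagFacts
import Groth.Agent.Lib.Helper3.AlgSt.Algebraic
import Groth.Agent.Lib.Helper3.UnivInjComp
import Groth.Agent.Lib.Helper3.TwoCartSection

/-!
# The diagonal of an algebraic stack is locally of finite type (helper3)
-/

set_option autoImplicit false
universe u
open CategoryTheory CategoryTheory.Functor CategoryTheory.Limits Opposite AlgebraicGeometry

namespace Groth.Agent.H3.AlgStDiagLft

open Groth.Agent.H3.FibCatAux Groth.Agent.H3.GerbAux Groth.Agent.H3.FpCalc Groth.Agent.H3.TwoCart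
  Groth.Agent.H3.AlgStAux Groth.Agent.H3.BaseChangeSp Groth.Agent.H3.AlgStComp
  Groth.Agent.H3.AlgStProps Groth.Agent.H3.AlgStBridge2 Groth.Agent.H3.AlgStDiagProp
  Groth.Agent.H3.AlgSpCov Groth.Agent.H3.AlgStCharts Groth.Agent.H3.AlgStProd
  Groth.Agent.H3.AlgStDiag Groth.Agent.H3.AlgStProdMap Groth.Agent.H3.AlgStLES
  Groth.Agent.H3.AlgStDescent Groth.Agent.H3.AlgStCancel Groth.Agent.H3.AlgStDiagFacts
  Groth.Agent.H3.RepBridge
open AlgSp

variable {S : Scheme.{u}}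

section Mono

variable {𝒳 𝒴 : AlgSt.Cat S}

/-- monotonicity in the property -/
theorem repByAlgSpWith_mono {P Q : MorphismProperty (Sp S)} (h : ∀ ⦃X Y : Sp S⦄ (a : X ⟶ Y), P a → Q a)
    {f : 𝒳 ⥤ᵇ 𝒴} (hf : AlgSt.RepByAlgSpWith P f) : AlgSt.RepByAlgSpWith Q f := by
  intro U y
  obtain ⟨F, e, he, hp⟩ := hf U y
  exact ⟨F, e, he, h _ hp⟩

theorem locP_mono {P Q : MorphismProperty Scheme.{u}} (h : P ≤ Q) ⦃X Y : Sp S⦄ (a : X ⟶ Y)
    (ha : LocP P a) : LocP Q a :=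
  fun _ _ c b k hc hb comm => h _ (ha c b k hc hb comm)

lemma smooth_le_flat : (@Smooth : MorphismProperty Scheme.{u}) ≤ @Flat :=
  fun _ _ f hf => by have : Smooth f := hf; infer_instance

lemma smooth_le_lfp : (@Smooth : MorphismProperty Scheme.{u}) ≤ @LocallyOfFinitePresentation :=
  fun _ _ f hf => by have : Smooth f := hf; infer_instance

lemma smooth_le_lft : (@Smooth : MorphismProperty Scheme.{u}) ≤ @LocallyOfFiniteType :=
  fun _ _ f hf => by have : Smooth f := hf; infer_instance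

/-- smooth surjective 1-morphisms are locally essentially surjective -/
theorem les_of_smooth_surjective (z : 𝒳 ⥤ᵇ 𝒴) (hz₁ : AlgSt.RepByAlgSpWith (LocP @Smooth) z)
    (hz₂ : AlgSt.RepByAlgSpWith IsSurjectiveMor z) : LES z :=
  les_of_fppf z (repByAlgSpWith_mono (locP_mono smooth_le_flat) hz₁)
    (repByAlgSpWith_mono (locP_mono smooth_le_lfp) hz₁) hz₂

end Mono

section Main

variable {𝒳 : AlgSt.Cat S}

lemma repByAlgSp_overCat (U : Over S) : AlgSt.RepByAlgSp (FibCat.overCat U) :=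
  ⟨⟨(yon S).obj U, IsAlgSpace.yon_obj U⟩, toOver U, isEquivOver_toOver U⟩

/-- any functor from a slice to the base is representable by algebraic spaces -/
lemma repByAlgSp1_to_selfOver (U : Over S) (s : FibCat.overCat U ⥤ᵇ FibCat.selfOver (Over S)) :
    AlgSt.RepByAlgSp1 s := by
  intro V y
  exact repByAlgSp_fp_selfOver y s (repByAlgSp_overCat V) (repByAlgSp_overCat U)

/-- **S12938**: the diagonal of an algebraic stack over the base is locally of finite type. -/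
theorem diag_toSelf_lft (h𝒳 : AlgSt.IsAlgStack Scheme.fppfPrecoverage 𝒳) :
    AlgSt.RepByAlgSpWith (LocP @LocallyOfFiniteType) (FibCat.diag (FibCat.toSelf 𝒳)) := by
  obtain ⟨U, u, hu1, hu2⟩ := h𝒳.atlas
  have hX := h𝒳.isStack.1
  have hU := isFibGrpd_overCat U
  have hS : FibCat.IsFibGrpd (FibCat.selfOver (Over S)).p := isFibGrpd_id
  set t := FibCat.toSelf 𝒳 with ht
  -- `u × u` is smooth and surjective, hence locally essentially surjective
  have hR1 : AlgSt.RepByAlgSpWith (LocP @Smooth) (magicR u u t) :=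
    repByAlgSpWith_prodMap _ good_smooth hU hU hX hS u u t t hu1 hu1
  have hR2 : AlgSt.RepByAlgSpWith IsSurjectiveMor (magicR u u t) :=
    repByAlgSpWith_prodMap _ good_isSurjectiveMor hU hU hX hS u u t t hu2 hu2
  have hLES : LES (magicR u u t) := les_of_smooth_surjective _ hR1 hR2
  refine repByAlgSpWith_descent _ good_lft.bc good_lft.loc (FibCat.diag t) h𝒳.diag (magicR u u t)
    hLES ?_
  -- the base change of the diagonal is `U ×_𝒳 U ⟶ U × U`
  have hI : AlgSt.RepByAlgSpWith (LocP @LocallyOfFiniteType) (magicI u u t (magicIso u u t)) := by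
    have hb : AlgSt.RepByAlgSp1 (FibCat.fpFst (BasedFunctor.comp u t) (BasedFunctor.comp u t)) :=
      repByAlgSp1_fpFst _ _ (repByAlgSp1_to_selfOver U _)
    have hfp := X6401 (BasedFunctor.comp u t) (BasedFunctor.comp u t) hU hU hS
    refine repByAlgSpWith_cancel _ good_lft.toC (X6401 u u hU hU hX) hfp hU
      (magicI u u t (magicIso u u t))
      (FibCat.fpFst (BasedFunctor.comp u t) (BasedFunctor.comp u t)) ?_ (diag_lft hfp hU _ hb)
    have h3 : AlgSt.RepByAlgSpWith (LocP @Smooth) (FibCat.fpFst u u) :=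
      repByAlgSpWith_fpFst _ u u hu1
    exact repByAlgSpWith_mono (locP_mono smooth_le_lft) h3
  let ε : BasedFunctor.comp (magicI u u t (magicIso u u t)) (BasedFunctor.id _) ≅
      BasedFunctor.comp
        (FibCat.fpLift (magicI u u t (magicIso u u t)) (magicL u u)
          (magicE u u t (magicIso u u t) (fun W => magicIso_app u u t W)))
        (FibCat.fpFst (magicR u u t) (FibCat.diag t)) := Iso.refl _
  exact repByAlgSpWith_of_square' _ _ _ _ (BasedFunctor.id _)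
    (magic_isTwoCartOver u u t (magicIso u u t) (fun W => magicIso_app u u t W)) isEquivOver_id ε hI

end Main

section Rel

variable {𝒳 𝒴 : AlgSt.Cat S}

open Groth.Agent.H3.AlgStDiagRep

/-- the diagonal of `f` from the diagonal of the source over the base and the diagonal of the
comparison `𝒳 ×_𝒴 𝒳 ⟶ 𝒳 × 𝒳` -/
lemma diag_cancel_aux (P : MorphismProperty (Sp S)) (hP : GoodC P) (h𝒳 : FibCat.IsFibGrpd 𝒳.p)
    (h𝒴 : FibCat.IsFibGrpd 𝒴.p) (f : 𝒳 ⥤ᵇ 𝒴)
    (h1 : AlgSt.RepByAlgSpWith P (FibCat.diag (FibCat.toSelf 𝒳)))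
    (h2 : AlgSt.RepByAlgSpWith P
      (FibCat.diag (magicI f f (FibCat.toSelf 𝒴) (magicIso f f (FibCat.toSelf 𝒴))))) :
    AlgSt.RepByAlgSpWith P (FibCat.diag f) := by
  have hS : FibCat.IsFibGrpd (FibCat.selfOver (Over S)).p := isFibGrpd_id
  have e2 : BasedFunctor.comp f (FibCat.toSelf 𝒴) = FibCat.toSelf 𝒳 := eq_toSelf _
  have h3 : AlgSt.RepByAlgSpWith P (FibCat.diag (BasedFunctor.comp f (FibCat.toSelf 𝒴))) := by
    rw [e2]; exact h1
  have h4 := repByAlgSpWith_of_iso P (diagCompIso f (FibCat.toSelf 𝒴)) h3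
  exact repByAlgSpWith_cancel P hP h𝒳 (X6401 f f h𝒳 h𝒳 h𝒴)
    (X6401 (BasedFunctor.comp f (FibCat.toSelf 𝒴)) (BasedFunctor.comp f (FibCat.toSelf 𝒴)) h𝒳 h𝒳 hS)
    (FibCat.diag f) _ h4 h2

/-- the comparison `𝒳 ×_𝒴 𝒳 ⟶ 𝒳 × 𝒳` is representable by algebraic spaces when the diagonal of
`𝒴` is -/
lemma repByAlgSp1_magicI (f : 𝒳 ⥤ᵇ 𝒴)
    (hΔ : AlgSt.RepByAlgSp1 (FibCat.diag (FibCat.toSelf 𝒴))) :
    AlgSt.RepByAlgSp1 (magicI f f (FibCat.toSelf 𝒴) (magicIso f f (FibCat.toSelf 𝒴))) := by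
  rw [← repByAlgSpWith_top_iff] at hΔ ⊢
  exact repByAlgSpWith_magicI f (FibCat.toSelf 𝒴) ⊤ hΔ

/-- the diagonal of any 1-morphism of algebraic stacks is representable by algebraic spaces -/
theorem repByAlgSp1_diag_of_algStack (h𝒳 : AlgSt.IsAlgStack Scheme.fppfPrecoverage 𝒳)
    (h𝒴 : AlgSt.IsAlgStack Scheme.fppfPrecoverage 𝒴) (f : 𝒳 ⥤ᵇ 𝒴) :
    AlgSt.RepByAlgSp1 (FibCat.diag f) := by
  have hS : FibCat.IsFibGrpd (FibCat.selfOver (Over S)).p := isFibGrpd_id
  have hX := h𝒳.isStack.1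
  have hY := h𝒴.isStack.1
  have hb := repByAlgSp1_magicI f h𝒴.diag
  have h2 := repByAlgSp1_diag (X6401 f f hX hX hY)
    (X6401 (BasedFunctor.comp f (FibCat.toSelf 𝒴)) (BasedFunctor.comp f (FibCat.toSelf 𝒴)) hX hX hS)
    _ hb
  have h1 := h𝒳.diag
  rw [← repByAlgSpWith_top_iff] at h1 h2 ⊢
  exact diag_cancel_aux ⊤ good_top.toC hX hY f h1 h2

/-- **S12939**: the diagonal of any 1-morphism of algebraic stacks is locally of finite type. -/
theorem diag_lft_of_algStack (h𝒳 : AlgSt.IsAlgStack Scheme.fppfPrecoverage 𝒳)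
    (h𝒴 : AlgSt.IsAlgStack Scheme.fppfPrecoverage 𝒴) (f : 𝒳 ⥤ᵇ 𝒴) :
    AlgSt.RepByAlgSpWith (LocP @LocallyOfFiniteType) (FibCat.diag f) := by
  have hS : FibCat.IsFibGrpd (FibCat.selfOver (Over S)).p := isFibGrpd_id
  have hX := h𝒳.isStack.1
  have hY := h𝒴.isStack.1
  have hb := repByAlgSp1_magicI f h𝒴.diag
  have h2 := diag_lft (X6401 f f hX hX hY)
    (X6401 (BasedFunctor.comp f (FibCat.toSelf 𝒴)) (BasedFunctor.comp f (FibCat.toSelf 𝒴)) hX hX hS)
    _ hb
  exact diag_cancel_aux _ good_lft.toC hX hY f (diag_toSelf_lft h𝒳) h2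

/-- **S12964**: a section of a 1-morphism of algebraic stacks is locally of finite type. -/
theorem section_lft {𝒯 : AlgSt.Cat S} (h𝒳 : AlgSt.IsAlgStack Scheme.fppfPrecoverage 𝒳)
    (h𝒯 : AlgSt.IsAlgStack Scheme.fppfPrecoverage 𝒯) (f : 𝒳 ⥤ᵇ 𝒯) (s : 𝒯 ⥤ᵇ 𝒳)
    (e : BasedFunctor.comp s f ≅ BasedFunctor.id 𝒯) :
    AlgSt.RepByAlgSpWith (LocP @LocallyOfFiniteType) s :=
  repByAlgSpWith_of_isTwoCartOver _ (sectR f s e) (FibCat.diag f) s s (sectE f s e)
    (sect_isTwoCartOver f s e) (diag_lft_of_algStack h𝒳 h𝒯 f)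

end Rel

end Groth.Agent.H3.AlgStDiagLft
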