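import Mathlib
import Groth.Agent.Lib.Helper3.AlgSt.Points.Univ
import Groth.Agent.Lib.Helper5.AlgSp.Permanence

/-!
# Quasi-compact 1-morphisms of algebraic stacks (helper3)
-/

set_option autoImplicit false
universe u
open CategoryTheory CategoryTheory.Functor CategoryTheory.Limits Opposite AlgebraicGeometry

noncomputable section

namespace Groth.Agent.H3.AlgStQCMor

open Groth.Agent.H3.FibCatAux Groth.Agent.H3.GerbAux Groth.Agent.H3.FpCalc Groth.Agent.H3.TwoCart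
  Groth.Agent.H3.StackPsh Groth.Agent.H3.PshBridge Groth.Agent.H3.AlgStAux Groth.Agent.H3.RepBridge
  Groth.Agent.H3.SetoidPsh Groth.Agent.H3.BaseChangeSp Groth.Agent.H3.AlgStComp
  Groth.Agent.H3.AlgStProps Groth.Agent.H3.AlgStBridge2 Groth.Agent.H3.AlgStCharts
  Groth.Agent.H3.AlgStDescent Groth.Agent.H3.Whisker Groth.Agent.H3.AlgStLES
  Groth.Agent.H3.FPtRel Groth.Agent.H3.AlgStStackRep Groth.Agent.H3.TwoYoneda
  Groth.Agent.H3.AlgStPoints Groth.Agent.H3.AlgStAlgebraic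

variable {S : Scheme.{u}} {𝒳 𝒴 𝒵 : AlgSt.Cat S}

/-- quasi-compactness passes along equivalences -/
theorem isQuasiCompact_of_isEquivOver (h𝒳 : AlgSt.IsAlgStack Scheme.fppfPrecoverage 𝒳)
    (h𝒴 : AlgSt.IsAlgStack Scheme.fppfPrecoverage 𝒴) (e : 𝒳 ⥤ᵇ 𝒴) (he : FibCat.IsEquivOver e)
    (h : AlgSt.IsQuasiCompact 𝒳) : AlgSt.IsQuasiCompact 𝒴 :=
  isQuasiCompact_of_isSurjective h𝒳 h𝒴 e (isSurjective_of_isEquivOver e he) h

theorem isQuasiCompact_of_isEquivOver' (h𝒳 : AlgSt.IsAlgStack Scheme.fppfPrecoverage 𝒳)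
    (h𝒴 : AlgSt.IsAlgStack Scheme.fppfPrecoverage 𝒴) (e : 𝒳 ⥤ᵇ 𝒴) (he : FibCat.IsEquivOver e)
    (h : AlgSt.IsQuasiCompact 𝒴) : AlgSt.IsQuasiCompact 𝒳 := by
  obtain ⟨e', he', -, -⟩ := isEquivOver_symm he
  exact isQuasiCompact_of_isEquivOver h𝒴 h𝒳 e' he' h

/-- the category of an algebraic space is quasi-compact iff the space is -/
theorem isQuasiCompact_ofSp_iff (F : AlgSp.Space S) :
    AlgSt.IsQuasiCompact (AlgSt.ofSp F.obj) ↔ AlgSp.IsQuasiCompactSp F.obj := by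
  rw [isQuasiCompact_iff_compactSpace (isAlgStack_ofSp F),
    Groth.Agent.H5.AlgSp.isQuasiCompactSp_iff_compactSpace F.property]
  exact ⟨fun _ => (ptHomeo F).symm.compactSpace, fun _ => (ptHomeo F).compactSpace⟩

/-- the second projection of a 2-fibre product is surjective when the first functor is -/
theorem isSurjective_fpSnd (h𝒳 : FibCat.IsFibGrpd 𝒳.p) (h𝒴 : FibCat.IsFibGrpd 𝒴.p)
    (h𝒵 : FibCat.IsFibGrpd 𝒵.p) (f : 𝒳 ⥤ᵇ 𝒴) (g : 𝒵 ⥤ᵇ 𝒴) (hg : AlgSt.IsSurjective g) :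
    AlgSt.IsSurjective (FibCat.fpSnd g f) := by
  intro x
  obtain ⟨z, hz⟩ := hg (AlgSt.Points.map f x)
  obtain ⟨w, -, hw⟩ := exists_point_fp h𝒳 h𝒴 h𝒵 f g z x hz
  exact ⟨w, hw⟩

/-- quasi-compactness of a base change can be checked after a surjective base change -/
theorem isQuasiCompact_fp_of_surjective {𝒵' : AlgSt.Cat S}
    (h𝒳 : AlgSt.IsAlgStack Scheme.fppfPrecoverage 𝒳)
    (h𝒴 : AlgSt.IsAlgStack Scheme.fppfPrecoverage 𝒴)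
    (h𝒵 : AlgSt.IsAlgStack Scheme.fppfPrecoverage 𝒵)
    (h𝒵' : AlgSt.IsAlgStack Scheme.fppfPrecoverage 𝒵') (f : 𝒳 ⥤ᵇ 𝒴) (g : 𝒵 ⥤ᵇ 𝒴)
    (z : 𝒵' ⥤ᵇ 𝒵) (hz : AlgSt.IsSurjective z)
    (h : AlgSt.IsQuasiCompact (FibCat.fp (BasedFunctor.comp z g) f)) :
    AlgSt.IsQuasiCompact (FibCat.fp g f) := by
  have h1 : AlgSt.IsAlgStack Scheme.fppfPrecoverage (FibCat.fp g f) :=
    isAlgStack_fp h𝒴.isStack h𝒴.diag h𝒵 h𝒳 g f
  have h2 : AlgSt.IsAlgStack Scheme.fppfPrecoverage (FibCat.fp (BasedFunctor.comp z g) f) :=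
    isAlgStack_fp h𝒴.isStack h𝒴.diag h𝒵' h𝒳 _ f
  have h3 : AlgSt.IsAlgStack Scheme.fppfPrecoverage (FibCat.fp z (FibCat.fpFst g f)) :=
    isAlgStack_fp h𝒵.isStack h𝒵.diag h𝒵' h1 z _
  have h4 := isQuasiCompact_of_isEquivOver' h3 h2 (pasteL z g f) (isEquivOver_pasteL z g f) h
  exact isQuasiCompact_of_isSurjective h3 h1 (FibCat.fpSnd z (FibCat.fpFst g f))
    (isSurjective_fpSnd h1.isStack.1 h𝒵.isStack.1 h𝒵'.isStack.1 _ z hz) h4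

/-- the source of a quasi-compact morphism to a quasi-compact stack is quasi-compact -/
theorem isQuasiCompact_of_isQuasiCompactMor (h𝒳 : AlgSt.IsAlgStack Scheme.fppfPrecoverage 𝒳)
    (h𝒴 : AlgSt.IsAlgStack Scheme.fppfPrecoverage 𝒴) (f : 𝒳 ⥤ᵇ 𝒴)
    (hf : AlgSt.IsQuasiCompactMor Scheme.fppfPrecoverage f) (hY : AlgSt.IsQuasiCompact 𝒴) :
    AlgSt.IsQuasiCompact 𝒳 := by
  have h1 := hf 𝒴 h𝒴 hY (BasedFunctor.id 𝒴)
  have h2 : AlgSt.IsAlgStack Scheme.fppfPrecoverage (FibCat.fp (BasedFunctor.id 𝒴) f) :=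
    isAlgStack_fp h𝒴.isStack h𝒴.diag h𝒴 h𝒳 _ f
  exact isQuasiCompact_of_isSurjective h2 h𝒳 (FibCat.fpSnd (BasedFunctor.id 𝒴) f)
    (isSurjective_fpSnd h𝒳.isStack.1 h𝒴.isStack.1 h𝒴.isStack.1 f _
      (fun y => ⟨y, points_map_id y⟩)) h1

/-- **S12983** -/
theorem isQuasiCompactMor_comp (h𝒳 : AlgSt.IsAlgStack Scheme.fppfPrecoverage 𝒳)
    (h𝒴 : AlgSt.IsAlgStack Scheme.fppfPrecoverage 𝒴)
    (h𝒵 : AlgSt.IsAlgStack Scheme.fppfPrecoverage 𝒵) (f : 𝒳 ⥤ᵇ 𝒴) (g : 𝒴 ⥤ᵇ 𝒵)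
    (hf : AlgSt.IsQuasiCompactMor Scheme.fppfPrecoverage f)
    (hg : AlgSt.IsQuasiCompactMor Scheme.fppfPrecoverage g) :
    AlgSt.IsQuasiCompactMor Scheme.fppfPrecoverage (BasedFunctor.comp f g) := by
  intro 𝒲 h𝒲 h𝒲qc w
  have h1 : AlgSt.IsAlgStack Scheme.fppfPrecoverage (FibCat.fp w g) :=
    isAlgStack_fp h𝒵.isStack h𝒵.diag h𝒲 h𝒴 w g
  have h2 := hg 𝒲 h𝒲 h𝒲qc w
  have h3 := hf (FibCat.fp w g) h1 h2 (FibCat.fpSnd w g)
  exact isQuasiCompact_of_isEquivOver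
    (isAlgStack_fp h𝒴.isStack h𝒴.diag h1 h𝒳 _ f)
    (isAlgStack_fp h𝒵.isStack h𝒵.diag h𝒲 h𝒳 w _)
    (pasteR w g f) (isEquivOver_pasteR w g f) h3

/-- base change of a quasi-compact morphism -/
theorem isQuasiCompactMor_fpFst (h𝒳 : AlgSt.IsAlgStack Scheme.fppfPrecoverage 𝒳)
    (h𝒴 : AlgSt.IsAlgStack Scheme.fppfPrecoverage 𝒴)
    (h𝒵 : AlgSt.IsAlgStack Scheme.fppfPrecoverage 𝒵) (f : 𝒳 ⥤ᵇ 𝒴) (g : 𝒵 ⥤ᵇ 𝒴)
    (hf : AlgSt.IsQuasiCompactMor Scheme.fppfPrecoverage f) :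
    AlgSt.IsQuasiCompactMor Scheme.fppfPrecoverage (FibCat.fpFst g f) := by
  intro 𝒲 h𝒲 h𝒲qc w
  have h1 := hf 𝒲 h𝒲 h𝒲qc (BasedFunctor.comp w g)
  have hfp : AlgSt.IsAlgStack Scheme.fppfPrecoverage (FibCat.fp g f) :=
    isAlgStack_fp h𝒴.isStack h𝒴.diag h𝒵 h𝒳 g f
  exact isQuasiCompact_of_isEquivOver'
    (isAlgStack_fp h𝒵.isStack h𝒵.diag h𝒲 hfp w _)
    (isAlgStack_fp h𝒴.isStack h𝒴.diag h𝒲 h𝒳 _ f)
    (pasteL w g f) (isEquivOver_pasteL w g f) h1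

/-- **S12981**, forward direction -/
theorem isQuasiCompactMor_of_rep (h𝒳 : AlgSt.IsAlgStack Scheme.fppfPrecoverage 𝒳)
    (h𝒴 : AlgSt.IsAlgStack Scheme.fppfPrecoverage 𝒴) (f : 𝒳 ⥤ᵇ 𝒴)
    (hf : AlgSt.RepByAlgSpWith AlgSp.IsQuasiCompactMor f) :
    AlgSt.IsQuasiCompactMor Scheme.fppfPrecoverage f := by
  rintro 𝒲 h𝒲 ⟨U, z, hU, hz₁, hz₂⟩ g
  obtain ⟨G, e, he, hp⟩ := hf U (BasedFunctor.comp z g)
  obtain ⟨p, hpdef⟩ : ∃ p, p = AlgSt.spMapOfOver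
    (BasedFunctor.comp e (FibCat.fpFst (BasedFunctor.comp z g) f)) := ⟨_, rfl⟩
  rw [← hpdef] at hp
  have hG : AlgSp.IsQuasiCompactSp G.obj :=
    hp (AlgSp.IsAlgSpace.yon_obj U)
      ((Groth.Agent.H5.AlgSp.isQuasiCompactSp_yon_iff U).2 inferInstance) (𝟙 _) (𝟙 _) p
      (IsPullback.of_horiz_isIso ⟨by simp⟩)
  have hU' : AlgSt.IsAlgStack Scheme.fppfPrecoverage (FibCat.overCat U) :=
    isAlgStack_of_isEquivOver (toOver U) (isEquivOver_toOver U)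
      (isAlgStack_ofSp ⟨(AlgSp.yon S).obj U, AlgSp.IsAlgSpace.yon_obj U⟩)
  refine isQuasiCompact_fp_of_surjective h𝒳 h𝒴 h𝒲 hU' f g z
    (isSurjective_of_rep h𝒲.isStack.1 z hz₂) ?_
  exact isQuasiCompact_of_isEquivOver (isAlgStack_ofSp G)
    (isAlgStack_fp h𝒴.isStack h𝒴.diag hU' h𝒳 _ f) e he ((isQuasiCompact_ofSp_iff G).2 hG)

/-- **S12981**, backward direction -/
theorem rep_of_isQuasiCompactMor (h𝒳 : AlgSt.IsAlgStack Scheme.fppfPrecoverage 𝒳)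
    (h𝒴 : AlgSt.IsAlgStack Scheme.fppfPrecoverage 𝒴) (f : 𝒳 ⥤ᵇ 𝒴) (hf : AlgSt.RepByAlgSp1 f)
    (h : AlgSt.IsQuasiCompactMor Scheme.fppfPrecoverage f) :
    AlgSt.RepByAlgSpWith AlgSp.IsQuasiCompactMor f := by
  intro U y
  obtain ⟨F, e, he⟩ := hf U y
  refine ⟨F, e, he, ?_⟩
  intro Z Z' hZ hZqc g fst snd sq
  have hZ' : AlgSp.IsAlgSpace Z' :=
    Groth.Agent.H5.AlgSp.isAlgSpace_pullback (AlgSp.IsAlgSpace.yon_obj U).diag F.property hZ sq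
  obtain ⟨g', E, hE, -⟩ : ∃ (g' : AlgSt.ofSp Z ⥤ᵇ 𝒴) (E : AlgSt.ofSp Z' ⥤ᵇ FibCat.fp g' f),
      FibCat.IsEquivOver E ∧ BasedFunctor.comp E (FibCat.fpFst g' f) = AlgSt.ofSpMap snd := by
    obtain ⟨E, hE, hEs⟩ := exists_equiv_fp_space f y F.obj e he g fst snd sq
    exact ⟨_, E, hE, hEs⟩
  have hZst := isAlgStack_ofSp ⟨Z, hZ⟩
  have h1 := h _ hZst ((isQuasiCompact_ofSp_iff ⟨Z, hZ⟩).2 hZqc) g'
  exact (isQuasiCompact_ofSp_iff ⟨Z', hZ'⟩).1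
    (isQuasiCompact_of_isEquivOver' (isAlgStack_ofSp ⟨Z', hZ'⟩)
      (isAlgStack_fp h𝒴.isStack h𝒴.diag hZst h𝒳 g' f) E hE h1)

/-- **S12981** -/
theorem rep_isQuasiCompactMor_iff (h𝒳 : AlgSt.IsAlgStack Scheme.fppfPrecoverage 𝒳)
    (h𝒴 : AlgSt.IsAlgStack Scheme.fppfPrecoverage 𝒴) (f : 𝒳 ⥤ᵇ 𝒴) (hf : AlgSt.RepByAlgSp1 f) :
    AlgSt.RepByAlgSpWith AlgSp.IsQuasiCompactMor f ↔
      AlgSt.IsQuasiCompactMor Scheme.fppfPrecoverage f :=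
  ⟨isQuasiCompactMor_of_rep h𝒳 h𝒴 f, rep_of_isQuasiCompactMor h𝒳 h𝒴 f hf⟩

/-- **S12984** -/
theorem isQuasiCompactMor_of_isClosedImm (h𝒳 : AlgSt.IsAlgStack Scheme.fppfPrecoverage 𝒳)
    (h𝒴 : AlgSt.IsAlgStack Scheme.fppfPrecoverage 𝒴) (f : 𝒳 ⥤ᵇ 𝒴) (hf : AlgSt.IsClosedImm f) :
    AlgSt.IsQuasiCompactMor Scheme.fppfPrecoverage f :=
  isQuasiCompactMor_of_rep h𝒳 h𝒴 f
    (AlgStDiagLft.repByAlgSpWith_mono
      (fun _ _ _ h => Groth.Agent.H5.AlgSp.isQuasiCompactMor_of_isClosedImmersion h) hf)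

/-- **S12985** -/
theorem isQuasiCompactMor_of_triangle (h𝒳 : AlgSt.IsAlgStack Scheme.fppfPrecoverage 𝒳)
    (h𝒴 : AlgSt.IsAlgStack Scheme.fppfPrecoverage 𝒴)
    (h𝒵 : AlgSt.IsAlgStack Scheme.fppfPrecoverage 𝒵) (f : 𝒳 ⥤ᵇ 𝒴) (p : 𝒳 ⥤ᵇ 𝒵) (q : 𝒴 ⥤ᵇ 𝒵)
    (e : BasedFunctor.comp f q ≅ p) (hf : AlgSt.IsSurjective f)
    (hp : AlgSt.IsQuasiCompactMor Scheme.fppfPrecoverage p) :
    AlgSt.IsQuasiCompactMor Scheme.fppfPrecoverage q := by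
  intro 𝒲 h𝒲 h𝒲qc w
  have h1 := hp 𝒲 h𝒲 h𝒲qc w
  have hwq : AlgSt.IsAlgStack Scheme.fppfPrecoverage (FibCat.fp w q) :=
    isAlgStack_fp h𝒵.isStack h𝒵.diag h𝒲 h𝒴 w q
  have hwp : AlgSt.IsAlgStack Scheme.fppfPrecoverage (FibCat.fp w p) :=
    isAlgStack_fp h𝒵.isStack h𝒵.diag h𝒲 h𝒳 w p
  have hwfq : AlgSt.IsAlgStack Scheme.fppfPrecoverage (FibCat.fp w (BasedFunctor.comp f q)) :=
    isAlgStack_fp h𝒵.isStack h𝒵.diag h𝒲 h𝒳 w _
  have hR : AlgSt.IsAlgStack Scheme.fppfPrecoverage (FibCat.fp (FibCat.fpSnd w q) f) :=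
    isAlgStack_fp h𝒴.isStack h𝒴.diag hwq h𝒳 _ f
  -- `fp w (f ≫ q) ≃ fp w p`
  let α : BasedFunctor.comp w (BasedFunctor.id 𝒵) ≅ BasedFunctor.comp (BasedFunctor.id 𝒲) w :=
    Iso.refl _
  let β : BasedFunctor.comp (BasedFunctor.comp f q) (BasedFunctor.id 𝒵) ≅
      BasedFunctor.comp (BasedFunctor.id 𝒳) p := e
  have hfull : (BasedFunctor.id 𝒵).toFunctor.Full := Functor.Full.id
  have hfaith : (BasedFunctor.id 𝒵).toFunctor.Faithful := Functor.Faithful.id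
  have hM : FibCat.IsEquivOver (fpMap (F' := w) (G' := BasedFunctor.comp f q) (F := w) (G := p)
      (BasedFunctor.id 𝒲) (BasedFunctor.id 𝒳) (BasedFunctor.id 𝒵) α β) :=
    isEquivOver_fpMap _ _ _ α β isEquivOver_id isEquivOver_id
  have h2 := isQuasiCompact_of_isEquivOver' hwfq hwp _ hM h1
  have h3 := isQuasiCompact_of_isEquivOver' hR hwfq (pasteR w q f) (isEquivOver_pasteR w q f) h2
  exact isQuasiCompact_of_isSurjective hR hwq (FibCat.fpFst (FibCat.fpSnd w q) f)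
    (isSurjective_fpFst h𝒳.isStack.1 h𝒴.isStack.1 hwq.isStack.1 f _ hf) h3

/-- **S12986** -/
theorem isQuasiCompactMor_of_comp (h𝒳 : AlgSt.IsAlgStack Scheme.fppfPrecoverage 𝒳)
    (h𝒴 : AlgSt.IsAlgStack Scheme.fppfPrecoverage 𝒴)
    (h𝒵 : AlgSt.IsAlgStack Scheme.fppfPrecoverage 𝒵) (f : 𝒳 ⥤ᵇ 𝒴) (g : 𝒴 ⥤ᵇ 𝒵)
    (hfg : AlgSt.IsQuasiCompactMor Scheme.fppfPrecoverage (BasedFunctor.comp f g))
    (hg : AlgSt.IsQuasiSeparatedMor g) : AlgSt.IsQuasiCompactMor Scheme.fppfPrecoverage f := by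
  intro 𝒲 h𝒲 h𝒲qc w
  have h1 := hfg 𝒲 h𝒲 h𝒲qc (BasedFunctor.comp w g)
  have hwf : AlgSt.IsAlgStack Scheme.fppfPrecoverage (FibCat.fp w f) :=
    isAlgStack_fp h𝒴.isStack h𝒴.diag h𝒲 h𝒳 w f
  have hT : AlgSt.IsAlgStack Scheme.fppfPrecoverage
      (FibCat.fp (BasedFunctor.comp w g) (BasedFunctor.comp f g)) :=
    isAlgStack_fp h𝒵.isStack h𝒵.diag h𝒲 h𝒳 _ _
  have hm : AlgSt.RepByAlgSpWith AlgSp.IsQuasiCompactMor (magicI w f g (magicIso w f g)) :=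
    AlgStDiagLft.repByAlgSpWith_mono (fun _ _ _ h => h.1)
      (repByAlgSpWith_magicI' _ w f g hg)
  exact isQuasiCompact_of_isQuasiCompactMor hwf hT _ (isQuasiCompactMor_of_rep hwf hT _ hm) h1

/-- quasi-compactness of a 2-fibre product only depends on the first functor up to isomorphism -/
theorem isQuasiCompact_fp_congr (h𝒳 : AlgSt.IsAlgStack Scheme.fppfPrecoverage 𝒳)
    (h𝒴 : AlgSt.IsAlgStack Scheme.fppfPrecoverage 𝒴)
    (h𝒵 : AlgSt.IsAlgStack Scheme.fppfPrecoverage 𝒵) (f : 𝒳 ⥤ᵇ 𝒴) {g g' : 𝒵 ⥤ᵇ 𝒴} (ι : g ≅ g')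
    (h : AlgSt.IsQuasiCompact (FibCat.fp g f)) : AlgSt.IsQuasiCompact (FibCat.fp g' f) := by
  let α : BasedFunctor.comp g (BasedFunctor.id 𝒴) ≅ BasedFunctor.comp (BasedFunctor.id 𝒵) g' := ι
  let β : BasedFunctor.comp f (BasedFunctor.id 𝒴) ≅ BasedFunctor.comp (BasedFunctor.id 𝒳) f :=
    Iso.refl _
  have hfull : (BasedFunctor.id 𝒴).toFunctor.Full := Functor.Full.id
  have hfaith : (BasedFunctor.id 𝒴).toFunctor.Faithful := Functor.Faithful.id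
  have hM : FibCat.IsEquivOver (fpMap (F' := g) (G' := f) (F := g') (G := f)
      (BasedFunctor.id 𝒵) (BasedFunctor.id 𝒳) (BasedFunctor.id 𝒴) α β) :=
    isEquivOver_fpMap _ _ _ α β isEquivOver_id isEquivOver_id
  exact isQuasiCompact_of_isEquivOver (isAlgStack_fp h𝒴.isStack h𝒴.diag h𝒵 h𝒳 g f)
    (isAlgStack_fp h𝒴.isStack h𝒴.diag h𝒵 h𝒳 g' f) _ hM h

theorem isAlgStack_overCat (U : Over S) :
    AlgSt.IsAlgStack Scheme.fppfPrecoverage (FibCat.overCat U) :=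
  isAlgStack_of_isEquivOver (toOver U) (isEquivOver_toOver U)
    (isAlgStack_ofSp ⟨(AlgSp.yon S).obj U, AlgSp.IsAlgSpace.yon_obj U⟩)

theorem isQuasiCompact_overCat (U : Over S) [CompactSpace ↥U.left] :
    AlgSt.IsQuasiCompact (FibCat.overCat U) :=
  isQuasiCompact_of_isEquivOver
    (isAlgStack_ofSp ⟨(AlgSp.yon S).obj U, AlgSp.IsAlgSpace.yon_obj U⟩) (isAlgStack_overCat U)
    (toOver U) (isEquivOver_toOver U)
    ((isQuasiCompact_ofSp_iff ⟨(AlgSp.yon S).obj U, AlgSp.IsAlgSpace.yon_obj U⟩).2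
      ((Groth.Agent.H5.AlgSp.isQuasiCompactSp_yon_iff U).2 inferInstance))

/-- **Finite affine refinement**: over a quasi-compact stack, an open surjective scheme chart can
be refined to one from an affine scheme that is still surjective on points. -/
theorem exists_affine_refinement [CompactSpace (AlgSt.Points 𝒵)] {V : Over S}
    (y : FibCat.overCat V ⥤ᵇ 𝒵) (hopen : IsOpenMap (AlgSt.Points.ofChart y))
    (hsurj : Function.Surjective (AlgSt.Points.ofChart y)) :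
    ∃ (U : Over S) (j : U ⟶ V), IsAffine U.left ∧ Smooth j.left ∧
      Function.Surjective (AlgSt.Points.ofChart (BasedFunctor.comp (AlgSt.overMap j) y)) := by
  classical
  let B : Set V.left.Opens := {W | IsAffineOpen W}
  have hcov : (Set.univ : Set (AlgSt.Points 𝒵)) ⊆
      ⋃ W : B, AlgSt.Points.ofChart y '' (W.1 : Set V.left) := by
    intro p _
    obtain ⟨v, rfl⟩ := hsurj p
    obtain ⟨_, ⟨W, hW, rfl⟩, hv, -⟩ := V.left.isBasis_affineOpens.exists_subset_of_mem_open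
      (Set.mem_univ v) isOpen_univ
    exact Set.mem_iUnion.2 ⟨⟨W, hW⟩, v, hv, rfl⟩
  obtain ⟨t, ht⟩ := isCompact_univ.elim_finite_subcover _
    (fun W : B => hopen _ W.1.2) hcov
  obtain ⟨U, j, hUa, hjs, hjr⟩ := exists_affine_chart_of_finite (t.image Subtype.val) (by
    intro W hW
    obtain ⟨W', -, rfl⟩ := Finset.mem_image.1 hW
    exact W'.2)
  refine ⟨U, j, hUa, hjs, ?_⟩
  intro p
  obtain ⟨i, hi⟩ := Set.mem_iUnion.1 (ht (Set.mem_univ p))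
  obtain ⟨hi', v, hv, rfl⟩ : ∃ _ : i ∈ t, p ∈ AlgSt.Points.ofChart y '' (i.1 : Set V.left) := by
    simpa using hi
  have hvr : v ∈ Set.range j.left := by
    rw [hjr]
    simp only [Set.mem_iUnion]
    exact ⟨i.1, Finset.mem_image.2 ⟨i, hi', rfl⟩, hv⟩
  obtain ⟨τ, rfl⟩ := hvr
  exact ⟨τ, ofChart_overMap j y τ⟩

/-- surjectivity on points of a scheme chart, as a functor -/
lemma isSurjective_of_ofChart_surjective {V : Over S} (y : FibCat.overCat V ⥤ᵇ 𝒵)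
    (h : Function.Surjective (AlgSt.Points.ofChart y)) : AlgSt.IsSurjective y := by
  intro p
  obtain ⟨v, rfl⟩ := h p
  exact ⟨chartPt V v, rfl⟩

/-- **Descent of quasi-compactness along flat, locally finitely presented surjective charts**
(general form of S12989): if `w : 𝒲 ⟶ 𝒴` is flat, locally of finite presentation and
surjective and the base change of `f` to `𝒲` is quasi-compact, then `f` is quasi-compact. -/
theorem isQuasiCompactMor_of_fpFst {𝒲 : AlgSt.Cat S}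
    (h𝒳 : AlgSt.IsAlgStack Scheme.fppfPrecoverage 𝒳)
    (h𝒴 : AlgSt.IsAlgStack Scheme.fppfPrecoverage 𝒴)
    (h𝒲 : AlgSt.IsAlgStack Scheme.fppfPrecoverage 𝒲) (f : 𝒳 ⥤ᵇ 𝒴) (w : 𝒲 ⥤ᵇ 𝒴)
    (hw₁ : AlgSt.RepByAlgSpWith (AlgSp.LocP @Flat) w)
    (hw₂ : AlgSt.RepByAlgSpWith (AlgSp.LocP @LocallyOfFinitePresentation) w)
    (hw₃ : AlgSt.RepByAlgSpWith AlgSp.IsSurjectiveMor w)
    (h : AlgSt.IsQuasiCompactMor Scheme.fppfPrecoverage (FibCat.fpFst w f)) :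
    AlgSt.IsQuasiCompactMor Scheme.fppfPrecoverage f := by
  intro 𝒵 h𝒵 h𝒵qc g
  have := (isQuasiCompact_iff_compactSpace h𝒵).1 h𝒵qc
  have hZ' : AlgSt.IsAlgStack Scheme.fppfPrecoverage (FibCat.fp g w) :=
    isAlgStack_fp h𝒴.isStack h𝒴.diag h𝒵 h𝒲 g w
  obtain ⟨V, v, hv₁, hv₂⟩ := hZ'.atlas
  have hV := isFibGrpd_overCat V
  have hpr₁ := repByAlgSpWith_fpFst _ w g hw₁
  have hpr₂ := repByAlgSpWith_fpFst _ w g hw₂
  have hpr₃ := repByAlgSpWith_fpFst _ w g hw₃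
  have hvflat : AlgSt.RepByAlgSpWith (AlgSp.LocP @Flat) v :=
    AlgStDiagLft.repByAlgSpWith_mono (AlgStDiagLft.locP_mono AlgStDiagLft.smooth_le_flat) hv₁
  have hvlfp : AlgSt.RepByAlgSpWith (AlgSp.LocP @LocallyOfFinitePresentation) v :=
    AlgStDiagLft.repByAlgSpWith_mono (AlgStDiagLft.locP_mono AlgStDiagLft.smooth_le_lfp) hv₁
  obtain ⟨y, hy⟩ : ∃ y : FibCat.overCat V ⥤ᵇ 𝒵, y = BasedFunctor.comp v (FibCat.fpFst g w) :=
    ⟨_, rfl⟩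
  have hy₁ : AlgSt.RepByAlgSpWith (AlgSp.LocP @Flat) y := by
    rw [hy]
    exact good_flat.toC.repComp hV hZ'.isStack.1 _ _ hvflat hpr₁
  have hy₂ : AlgSt.RepByAlgSpWith (AlgSp.LocP @LocallyOfFinitePresentation) y := by
    rw [hy]
    exact good_lfp.toC.repComp hV hZ'.isStack.1 _ _ hvlfp hpr₂
  have hy₃ : AlgSt.RepByAlgSpWith AlgSp.IsSurjectiveMor y := by
    rw [hy]
    exact good_isSurjectiveMor.toC.repComp hV hZ'.isStack.1 _ _ hv₂ hpr₃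
  obtain ⟨U, j, hUa, -, hjs⟩ := exists_affine_refinement y
    (isOpenMap_ofChart h𝒵.isStack.1 V y hy₁ hy₂) (ofChart_surjective h𝒵.isStack.1 y hy₃)
  have hU := isAlgStack_overCat U
  refine isQuasiCompact_fp_of_surjective h𝒳 h𝒴 h𝒵 hU f g _
    (isSurjective_of_ofChart_surjective _ hjs) ?_
  -- the chart factors through `𝒲`
  let k : FibCat.overCat U ⥤ᵇ 𝒲 :=
    BasedFunctor.comp (AlgSt.overMap j) (BasedFunctor.comp v (FibCat.fpSnd g w))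
  have ι : BasedFunctor.comp k w ≅
      BasedFunctor.comp (BasedFunctor.comp (AlgSt.overMap j) y) g := by
    rw [hy]
    exact whiskerL (AlgSt.overMap j) (whiskerL v (FibCat.fpIso g w).symm)
  refine isQuasiCompact_fp_congr h𝒳 h𝒴 hU f ι ?_
  have h1 := h (FibCat.overCat U) hU (isQuasiCompact_overCat U) k
  have hwf : AlgSt.IsAlgStack Scheme.fppfPrecoverage (FibCat.fp w f) :=
    isAlgStack_fp h𝒴.isStack h𝒴.diag h𝒲 h𝒳 w f
  exact isQuasiCompact_of_isEquivOver (isAlgStack_fp h𝒲.isStack h𝒲.diag hU hwf k _)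
    (isAlgStack_fp h𝒴.isStack h𝒴.diag hU h𝒳 _ f) (pasteL k w f) (isEquivOver_pasteL k w f) h1

end Groth.Agent.H3.AlgStQCMor
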