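import Mathlib
import Groth.Agent.Lib.Helper3.AlgSt.QCMor

/-!
# Properties of algebraic stacks smooth locally; chart squares (helper3)

S12773, S12846, S12852-S12855.
-/

set_option autoImplicit false
universe u
open CategoryTheory CategoryTheory.Functor CategoryTheory.Limits Opposite AlgebraicGeometry

noncomputable section

namespace Groth.Agent.H3.AlgStSmoothLoc

open Groth.Agent.H3.FibCatAux Groth.Agent.H3.GerbAux Groth.Agent.H3.FpCalc Groth.Agent.H3.TwoCart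
  Groth.Agent.H3.StackPsh Groth.Agent.H3.PshBridge Groth.Agent.H3.AlgStAux Groth.Agent.H3.RepBridge
  Groth.Agent.H3.SetoidPsh Groth.Agent.H3.BaseChangeSp Groth.Agent.H3.AlgStComp
  Groth.Agent.H3.AlgStProps Groth.Agent.H3.AlgStBridge2 Groth.Agent.H3.AlgStCharts
  Groth.Agent.H3.AlgStDescent Groth.Agent.H3.Whisker Groth.Agent.H3.AlgStLES
  Groth.Agent.H3.FPtRel Groth.Agent.H3.AlgStStackRep Groth.Agent.H3.TwoYoneda
  Groth.Agent.H3.AlgStPoints Groth.Agent.H3.AlgStAlgebraic Groth.Agent.H3.AlgStQCMor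

variable {S : Scheme.{u}} {𝒳 𝒴 : AlgSt.Cat S}

/-- **S12773**: a chart square over a smooth surjective chart of the target. -/
theorem exists_chart_square (h𝒳 : AlgSt.IsAlgStack Scheme.fppfPrecoverage 𝒳)
    (h𝒴 : AlgSt.IsAlgStack Scheme.fppfPrecoverage 𝒴) (f : 𝒳 ⥤ᵇ 𝒴) (V : Over S)
    (y : FibCat.overCat V ⥤ᵇ 𝒴) (hy : AlgSt.RepByAlgSpWith (AlgSp.LocP @Smooth) y)
    (hy' : AlgSt.RepByAlgSpWith AlgSp.IsSurjectiveMor y) :
    ∃ (U : Over S) (a : U ⟶ V) (x : FibCat.overCat U ⥤ᵇ 𝒳),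
      AlgSt.RepByAlgSpWith (AlgSp.LocP @Smooth) x ∧ AlgSt.RepByAlgSpWith AlgSp.IsSurjectiveMor x ∧
        Nonempty (BasedFunctor.comp x f ≅ BasedFunctor.comp (AlgSt.overMap a) y) := by
  have hV := isAlgStack_overCat V
  have hfp : AlgSt.IsAlgStack Scheme.fppfPrecoverage (FibCat.fp f y) :=
    isAlgStack_fp h𝒴.isStack h𝒴.diag h𝒳 hV f y
  obtain ⟨U, c, hc₁, hc₂⟩ := hfp.atlas
  have hU := isFibGrpd_overCat U
  obtain ⟨a, ⟨ι⟩⟩ := exists_overMap_iso (BasedFunctor.comp c (FibCat.fpSnd f y))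
  refine ⟨U, a, BasedFunctor.comp c (FibCat.fpFst f y), ?_, ?_, ⟨?_⟩⟩
  · exact good_smooth.toC.repComp hU hfp.isStack.1 _ _ hc₁ (repByAlgSpWith_fpFst _ y f hy)
  · exact good_isSurjectiveMor.toC.repComp hU hfp.isStack.1 _ _ hc₂
      (repByAlgSpWith_fpFst _ y f hy')
  · exact whiskerL c (FibCat.fpIso f y) ≪≫ whiskerR ι y

section Local

variable (P : Scheme.{u} → Prop)
  (hP : ∀ (U : Scheme.{u}) (R : Presieve U), R ∈ Scheme.precoverage @Smooth U →
    (P U ↔ ∀ ⦃V : Scheme.{u}⦄ (g : V ⟶ U), R g → P V))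

include hP

/-- a smooth-local property passes to the source of a smooth morphism -/
lemma of_smooth {V U : Scheme.{u}} (g : V ⟶ U) [Smooth g] (h : P U) : P V := by
  let X : Bool → Scheme.{u} := fun b => if b then V else U
  let fam : ∀ b, X b ⟶ U := fun b => match b with
    | true => g
    | false => 𝟙 U
  have hmem : Presieve.ofArrows X fam ∈ Scheme.precoverage @Smooth U := by
    rw [Scheme.ofArrows_mem_precoverage_iff]
    refine ⟨fun x => ⟨false, x, rfl⟩, ?_⟩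
    rintro (_ | _)
    · exact (inferInstance : Smooth (𝟙 U))
    · exact (inferInstance : Smooth g)
  exact ((hP U _ hmem).1 h) (fam true) ⟨true⟩

/-- a smooth-local property descends along a smooth surjective morphism -/
lemma of_smooth_surjective {V U : Scheme.{u}} (g : V ⟶ U) [Smooth g]
    (hg : Function.Surjective g.base) (h : P V) : P U := by
  have hmem : Presieve.singleton g ∈ Scheme.precoverage @Smooth U := by
    rw [Scheme.singleton_mem_precoverage_iff]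
    exact ⟨hg, inferInstance⟩
  refine (hP U _ hmem).2 ?_
  rintro W k ⟨⟩
  exact h

/-- **S12846** -/
theorem smoothLocally_iff_exists (h𝒳 : AlgSt.IsAlgStack Scheme.fppfPrecoverage 𝒳) :
    AlgSt.SmoothLocally P 𝒳 ↔
      ∃ (U : Over S) (x : FibCat.overCat U ⥤ᵇ 𝒳),
        AlgSt.RepByAlgSpWith (AlgSp.LocP @Smooth) x ∧
          AlgSt.RepByAlgSpWith AlgSp.IsSurjectiveMor x ∧ P U.left := by
  constructor
  · intro h
    obtain ⟨U, x, hx₁, hx₂⟩ := h𝒳.atlas
    exact ⟨U, x, hx₁, hx₂, h U x hx₁⟩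
  · rintro ⟨U₀, x₀, hx₀₁, hx₀₂, hPU₀⟩ U x hx
    obtain ⟨G, e, he⟩ := Groth.Agent.H3.AlgStDiag.repByAlgSp_fp_of_diag h𝒳.isStack.1 h𝒳.diag x x₀
      (AlgStDiagLft.repByAlgSp_overCat U) (AlgStDiagLft.repByAlgSp_overCat U₀)
    obtain ⟨T, q, c, t, hqe, hqs, hc, ht, -, -⟩ :=
      exists_scheme_chart_fp_scheme h𝒳.isStack.1 U₀ x₀ U x G e he
    have hb1 := fst_prop _ good_smooth.bc good_smooth.toC.charts x₀ hx₀₁ U x G e he
    have hb2 := fst_prop _ good_isSurjectiveMor.bc good_isSurjectiveMor.toC.charts x₀ hx₀₂ U x G e he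
    have hb3 := snd_prop _ good_smooth.bc good_smooth.toC.charts x₀ U x hx G e he
    have hc1 : Smooth c.left := prop_of_chart q _ c hc hqe hb1
    have hc2 : Function.Surjective c.left := surjective_of_chart q _ c hc hqs hb2
    have ht1 : Smooth t.left := prop_of_chart q _ t ht hqe hb3
    exact of_smooth_surjective P hP c.left hc2 (of_smooth P hP t.left hPU₀)

omit hP in
/-- an etale chart of an algebraic space is a smooth chart of its category -/
lemma rep_smooth_chartOf {X : AlgSp.Sp S} {U : Over S} (p : (AlgSp.yon S).obj U ⟶ X)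
    (hp : AlgSp.RepWith @Etale p) :
    AlgSt.RepByAlgSpWith (AlgSp.LocP @Smooth) (AlgStSpaceDM.chartOf p) :=
  AlgStSpaceDM.repByAlgSpWith_chartOf @Etale _ etaleImplies_smooth p hp

omit hP in
lemma rep_surj_chartOf {X : AlgSp.Sp S} {U : Over S} (p : (AlgSp.yon S).obj U ⟶ X)
    (hp : AlgSp.RepWith @Surjective p) :
    AlgSt.RepByAlgSpWith AlgSp.IsSurjectiveMor (AlgStSpaceDM.chartOf p) :=
  AlgStSpaceDM.repByAlgSpWith_chartOf @Surjective _
    (fun _ _ _ hf => Groth.Agent.H5.AlgSp.points_map_surjective_of_repWith hf) p hp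

/-- **S12855** -/
theorem smoothLocally_ofSp_iff (X : AlgSp.Space S) :
    AlgSt.SmoothLocally P (AlgSt.ofSp X.obj) ↔ AlgSp.EtaleLocally P X.obj := by
  constructor
  · intro h
    obtain ⟨U, p, hpe, hps⟩ := X.property.atlas
    exact ⟨U, p, hpe, hps, h U _ (rep_smooth_chartOf p hpe)⟩
  · rintro ⟨U, p, hpe, hps, hPU⟩
    exact (smoothLocally_iff_exists P hP (isAlgStack_ofSp X)).2
      ⟨U, _, rep_smooth_chartOf p hpe, rep_surj_chartOf p hps, hPU⟩

/-- **S12854** -/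
theorem smoothLocally_ofSch_iff (U : Over S) :
    AlgSt.SmoothLocally P (AlgSt.ofSch U) ↔ P U.left := by
  have h1 := smoothLocally_ofSp_iff P hP ⟨(AlgSp.yon S).obj U, AlgSp.IsAlgSpace.yon_obj U⟩
  refine h1.trans ⟨?_, fun h => ⟨U, 𝟙 _, AlgSp.repWith_id _ U, AlgSp.repWith_id _ U, h⟩⟩
  rintro ⟨T, p, hpe, hps, hPT⟩
  obtain ⟨c, rfl⟩ := (AlgSp.yon S).map_surjective p
  have hc1 : Etale c.left := (AlgSp.repWith_yon_map_iff @Etale c).1 hpe
  have hc2 : Surjective c.left := (AlgSp.repWith_yon_map_iff @Surjective c).1 hps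
  exact of_smooth_surjective P hP c.left hc2.surj hPT

/-- **S12852** -/
theorem smoothLocally_iff_forall_space (h𝒳 : AlgSt.IsAlgStack Scheme.fppfPrecoverage 𝒳) :
    AlgSt.SmoothLocally P 𝒳 ↔
      ∀ (U : AlgSp.Space S) (x : AlgSt.ofSp U.obj ⥤ᵇ 𝒳),
        AlgSt.RepByAlgSpWith (AlgSp.LocP @Smooth) x → AlgSp.EtaleLocally P U.obj := by
  constructor
  · intro h U x hx
    obtain ⟨T, p, hpe, hps⟩ := U.property.atlas
    refine ⟨T, p, hpe, hps, h T (BasedFunctor.comp (AlgStSpaceDM.chartOf p) x) ?_⟩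
    exact good_smooth.toC.repComp (isFibGrpd_overCat T) (Stk.isFibGrpd_ofPsh _) _ _
      (rep_smooth_chartOf p hpe) hx
  · intro H U x hx
    have h1 := H ⟨(AlgSp.yon S).obj U, AlgSp.IsAlgSpace.yon_obj U⟩ (BasedFunctor.comp (toOver U) x)
      ((repByAlgSpWith_comp_equiv_iff _ (toOver U) (isEquivOver_toOver U) x).2 hx)
    exact (smoothLocally_ofSch_iff P hP U).1
      ((smoothLocally_ofSp_iff P hP ⟨(AlgSp.yon S).obj U, AlgSp.IsAlgSpace.yon_obj U⟩).2 h1)

/-- **S12853** -/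
theorem smoothLocally_iff_exists_space (h𝒳 : AlgSt.IsAlgStack Scheme.fppfPrecoverage 𝒳) :
    AlgSt.SmoothLocally P 𝒳 ↔
      ∃ (U : AlgSp.Space S) (x : AlgSt.ofSp U.obj ⥤ᵇ 𝒳),
        AlgSt.RepByAlgSpWith (AlgSp.LocP @Smooth) x ∧
          AlgSt.RepByAlgSpWith AlgSp.IsSurjectiveMor x ∧ AlgSp.EtaleLocally P U.obj := by
  constructor
  · intro h
    obtain ⟨U, x, hx₁, hx₂, hPU⟩ := (smoothLocally_iff_exists P hP h𝒳).1 h
    refine ⟨⟨(AlgSp.yon S).obj U, AlgSp.IsAlgSpace.yon_obj U⟩, BasedFunctor.comp (toOver U) x,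
      (repByAlgSpWith_comp_equiv_iff _ (toOver U) (isEquivOver_toOver U) x).2 hx₁,
      (repByAlgSpWith_comp_equiv_iff _ (toOver U) (isEquivOver_toOver U) x).2 hx₂,
      ⟨U, 𝟙 _, AlgSp.repWith_id _ U, AlgSp.repWith_id _ U, hPU⟩⟩
  · rintro ⟨U, x, hx₁, hx₂, T, p, hpe, hps, hPT⟩
    refine (smoothLocally_iff_exists P hP h𝒳).2
      ⟨T, BasedFunctor.comp (AlgStSpaceDM.chartOf p) x, ?_, ?_, hPT⟩
    · exact good_smooth.toC.repComp (isFibGrpd_overCat T) (Stk.isFibGrpd_ofPsh _) _ _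
        (rep_smooth_chartOf p hpe) hx₁
    · exact good_isSurjectiveMor.toC.repComp (isFibGrpd_overCat T) (Stk.isFibGrpd_ofPsh _) _ _
        (rep_surj_chartOf p hps) hx₂

end Local

end Groth.Agent.H3.AlgStSmoothLoc
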