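import Mathlib
import Groth.Agent.Lib.Helper3.AlgSt.SmoothLocally

/-!
# Properties of 1-morphisms read on smooth chart squares (helper3)

Independence of the chart square for properties that are smooth local on the source-and-target
(S12990) and consequences.
-/

set_option autoImplicit false
universe u
open CategoryTheory CategoryTheory.Functor CategoryTheory.Limits Opposite AlgebraicGeometry

noncomputable section

namespace Groth.Agent.H3.AlgStLocQ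

open Groth.Agent.H3.FibCatAux Groth.Agent.H3.GerbAux Groth.Agent.H3.FpCalc Groth.Agent.H3.TwoCart
  Groth.Agent.H3.StackPsh Groth.Agent.H3.PshBridge Groth.Agent.H3.AlgStAux Groth.Agent.H3.RepBridge
  Groth.Agent.H3.SetoidPsh Groth.Agent.H3.BaseChangeSp Groth.Agent.H3.AlgStComp
  Groth.Agent.H3.AlgStProps Groth.Agent.H3.AlgStBridge2 Groth.Agent.H3.AlgStCharts
  Groth.Agent.H3.AlgStDescent Groth.Agent.H3.Whisker Groth.Agent.H3.AlgStLES
  Groth.Agent.H3.FPtRel Groth.Agent.H3.AlgStStackRep Groth.Agent.H3.TwoYoneda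
  Groth.Agent.H3.AlgStPoints Groth.Agent.H3.AlgStAlgebraic Groth.Agent.H3.AlgStQCMor
  Groth.Agent.H3.AlgStSmoothLoc

variable {S : Scheme.{u}}

section Aux

/-- `spMapOfOver` only depends on the functor up to isomorphism -/
lemma spMapOfOver_congr {F : AlgSp.Sp S} {U : Over S} {Φ Φ' : AlgSt.ofSp F ⥤ᵇ FibCat.overCat U}
    (ι : Φ ≅ Φ') : AlgSt.spMapOfOver Φ = AlgSt.spMapOfOver Φ' :=
  spMapOfOver_eq_of_pointwise (fun a => ⟨(appIso ι a).hom, appIso_hom_isHomLift ι a rfl⟩)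

/-- `spMapOfOver` of a composite with the functor of a morphism of schemes -/
lemma spMapOfOver_comp_overMap {F : AlgSp.Sp S} {U V : Over S}
    (Φ : AlgSt.ofSp F ⥤ᵇ FibCat.overCat U) (c : U ⟶ V) :
    AlgSt.spMapOfOver (BasedFunctor.comp Φ (AlgSt.overMap c)) =
      AlgSt.spMapOfOver Φ ≫ (AlgSp.yon S).map c := by
  apply ObjectProperty.hom_ext
  ext T x
  induction T using Opposite.rec with | _ T => ?_
  apply ULift.ext
  show AlgSt.secHom (BasedFunctor.comp Φ (AlgSt.overMap c)) ⟨T, x⟩ = AlgSt.secHom Φ ⟨T, x⟩ ≫ c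
  simp only [AlgSt.secHom, Category.assoc]
  rfl

/-- **Base change of a morphism of schemes along a space chart**: a pullback square of sheaves over
`h_h : h_U ⟶ h_V` and the projection `G ⟶ h_V` of `𝒱 ≃ ofSp G` gives the 2-fibre product
`(Sch/U) ×_{(Sch/V)} 𝒱`. -/
theorem exists_equiv_fp_of_isPullback {𝒱 : AlgSt.Cat S} {U V : Over S} (h : U ⟶ V)
    (y₁ : 𝒱 ⥤ᵇ FibCat.overCat V) (G : AlgSp.Sp S) (e_V : AlgSt.ofSp G ⥤ᵇ 𝒱)
    (he_V : FibCat.IsEquivOver e_V) {Z : AlgSp.Sp S} (fst : Z ⟶ (AlgSp.yon S).obj U)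
    (snd : Z ⟶ G)
    (sq : IsPullback fst snd ((AlgSp.yon S).map h)
      (AlgSt.spMapOfOver (BasedFunctor.comp e_V y₁))) :
    ∃ e_W : AlgSt.ofSp Z ⥤ᵇ FibCat.fp (AlgSt.overMap h) y₁, FibCat.IsEquivOver e_W ∧
      BasedFunctor.comp e_W (FibCat.fpSnd _ _) = BasedFunctor.comp (AlgSt.ofSpMap snd) e_V ∧
      BasedFunctor.comp e_W (FibCat.fpFst _ _) =
        BasedFunctor.comp (AlgSt.ofSpMap fst) (RepBridge.toOver U) := by
  obtain ⟨q₁, hq₁⟩ : ∃ q₁, q₁ = AlgSt.spMapOfOver (BasedFunctor.comp e_V y₁) := ⟨_, rfl⟩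
  rw [← hq₁] at sq
  obtain ⟨ι⟩ := projIso (BasedFunctor.comp e_V y₁)
  rw [← hq₁] at ι
  obtain ⟨κ⟩ := overMapIso h
  have sq' : IsPullback snd.hom fst.hom q₁.hom ((AlgSp.yon S).map h).hom :=
    (sq.map (sheafToPresheaf (AlgSp.J S) (Type (u + 1)))).flip
  have h1 : FibCat.IsEquivOver (FibCat.fpLift (Stk.ofPshMap fst.hom) (Stk.ofPshMap snd.hom)
      (sqE sq'.w)) := isTwoCartOver_of_isPullback sq'
  obtain ⟨tV, htV⟩ : ∃ tV : AlgSt.ofSp ((AlgSp.yon S).obj V) ⥤ᵇ FibCat.overCat V,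
    tV = RepBridge.toOver V := ⟨_, rfl⟩
  obtain ⟨tU, htU⟩ : ∃ tU : AlgSt.ofSp ((AlgSp.yon S).obj U) ⥤ᵇ FibCat.overCat U,
    tU = RepBridge.toOver U := ⟨_, rfl⟩
  have htVe : FibCat.IsEquivOver tV := htV ▸ isEquivOver_toOver V
  have htUe : FibCat.IsEquivOver tU := htU ▸ isEquivOver_toOver U
  have hfull : tV.toFunctor.Full := ((X5139 _).1 htVe).1.1
  have hfaith : tV.toFunctor.Faithful := ((X5139 _).1 htVe).1.2
  rw [← htU]
  let α : BasedFunctor.comp (AlgSt.ofSpMap ((AlgSp.yon S).map h)) tV ≅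
      BasedFunctor.comp tU (AlgSt.overMap h) := by
    rw [htV, htU]; exact κ
  let β : BasedFunctor.comp (AlgSt.ofSpMap q₁) tV ≅ BasedFunctor.comp e_V y₁ := by
    rw [htV]; exact ι.symm
  let M := fpMap (F' := AlgSt.ofSpMap ((AlgSp.yon S).map h)) (G' := AlgSt.ofSpMap q₁)
    (F := AlgSt.overMap h) (G := y₁) tU e_V tV α β
  have hM : FibCat.IsEquivOver M := isEquivOver_fpMap _ _ _ α β htUe he_V
  refine ⟨BasedFunctor.comp (FibCat.fpLift (Stk.ofPshMap fst.hom) (Stk.ofPshMap snd.hom)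
    (sqE sq'.w)) M, isEquivOver_comp _ _ h1 hM, ?_, ?_⟩
  · apply basedFunctor_ext
    rfl
  · apply basedFunctor_ext
    rfl

lemma pasteL_comp_fpSnd {𝒲 𝒵 𝒴 𝒳 : AlgSt.Cat S} (y : 𝒲 ⥤ᵇ 𝒵) (g : 𝒵 ⥤ᵇ 𝒴) (f : 𝒳 ⥤ᵇ 𝒴) :
    BasedFunctor.comp (pasteL y g f) (FibCat.fpSnd (BasedFunctor.comp y g) f) =
      BasedFunctor.comp (FibCat.fpSnd y (FibCat.fpFst g f)) (FibCat.fpSnd g f) := by
  apply basedFunctor_ext; rfl

/-- **The cube**: for a 2-commutative square `x ≫ f ≅ ĥ ≫ y` and `y' : 𝒱' ⟶ 𝒴`, the base change of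
`ĥ` to `𝒱 ×_𝒴 𝒱'` is the base change of `x` to `𝒳 ×_𝒴 𝒱'`. -/
theorem exists_cube {𝒳 𝒴 𝒰 𝒱 𝒱' : AlgSt.Cat S} (f : 𝒳 ⥤ᵇ 𝒴) (x : 𝒰 ⥤ᵇ 𝒳) (y : 𝒱 ⥤ᵇ 𝒴)
    (ĥ : 𝒰 ⥤ᵇ 𝒱) (α : BasedFunctor.comp x f ≅ BasedFunctor.comp ĥ y) (y' : 𝒱' ⥤ᵇ 𝒴) :
    ∃ E : FibCat.fp ĥ (FibCat.fpFst y y') ⥤ᵇ FibCat.fp x (FibCat.fpFst f y'),
      FibCat.IsEquivOver E ∧
      Nonempty (BasedFunctor.comp (BasedFunctor.comp E (FibCat.fpSnd x (FibCat.fpFst f y')))
          (FibCat.fpSnd f y') ≅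
        BasedFunctor.comp (FibCat.fpSnd ĥ (FibCat.fpFst y y')) (FibCat.fpSnd y y')) := by
  let L := pasteL ĥ y y'
  let L' := pasteL x f y'
  obtain ⟨R', hR', -, ⟨e1⟩⟩ := isEquivOver_symm (isEquivOver_pasteL x f y')
  let α' : BasedFunctor.comp (BasedFunctor.comp ĥ y) (BasedFunctor.id 𝒴) ≅
      BasedFunctor.comp (BasedFunctor.id 𝒰) (BasedFunctor.comp x f) := α.symm
  let β' : BasedFunctor.comp y' (BasedFunctor.id 𝒴) ≅ BasedFunctor.comp (BasedFunctor.id 𝒱') y' :=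
    Iso.refl _
  have hfull : (BasedFunctor.id 𝒴).toFunctor.Full := Functor.Full.id
  have hfaith : (BasedFunctor.id 𝒴).toFunctor.Faithful := Functor.Faithful.id
  let Ψ := fpMap (F' := BasedFunctor.comp ĥ y) (G' := y') (F := BasedFunctor.comp x f) (G := y')
    (BasedFunctor.id 𝒰) (BasedFunctor.id 𝒱') (BasedFunctor.id 𝒴) α' β'
  have hΨ : FibCat.IsEquivOver Ψ := isEquivOver_fpMap _ _ _ α' β' isEquivOver_id isEquivOver_id
  refine ⟨BasedFunctor.comp (BasedFunctor.comp L Ψ) R',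
    isEquivOver_comp _ _ (isEquivOver_comp _ _ (isEquivOver_pasteL ĥ y y') hΨ) hR', ⟨?_⟩⟩
  have h1 : BasedFunctor.comp (FibCat.fpSnd x (FibCat.fpFst f y')) (FibCat.fpSnd f y') =
      BasedFunctor.comp L' (FibCat.fpSnd (BasedFunctor.comp x f) y') :=
    (pasteL_comp_fpSnd x f y').symm
  have h2 : BasedFunctor.comp Ψ (FibCat.fpSnd (BasedFunctor.comp x f) y') =
      FibCat.fpSnd (BasedFunctor.comp ĥ y) y' := by
    apply basedFunctor_ext; rfl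
  have h3 : BasedFunctor.comp L (FibCat.fpSnd (BasedFunctor.comp ĥ y) y') =
      BasedFunctor.comp (FibCat.fpSnd ĥ (FibCat.fpFst y y')) (FibCat.fpSnd y y') :=
    pasteL_comp_fpSnd ĥ y y'
  have i1 : BasedFunctor.comp (BasedFunctor.comp L Ψ)
      (BasedFunctor.comp (BasedFunctor.comp R' L') (FibCat.fpSnd (BasedFunctor.comp x f) y')) ≅
      BasedFunctor.comp (BasedFunctor.comp L Ψ)
        (BasedFunctor.comp (BasedFunctor.id _) (FibCat.fpSnd (BasedFunctor.comp x f) y')) :=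
    whiskerL (BasedFunctor.comp L Ψ) (whiskerR e1 (FibCat.fpSnd (BasedFunctor.comp x f) y'))
  have h4 : BasedFunctor.comp (BasedFunctor.comp (BasedFunctor.comp (BasedFunctor.comp L Ψ) R')
      (FibCat.fpSnd x (FibCat.fpFst f y'))) (FibCat.fpSnd f y') =
      BasedFunctor.comp (BasedFunctor.comp L Ψ)
        (BasedFunctor.comp (BasedFunctor.comp R' L')
          (FibCat.fpSnd (BasedFunctor.comp x f) y')) := by
    show BasedFunctor.comp (BasedFunctor.comp (BasedFunctor.comp L Ψ) R')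
      (BasedFunctor.comp (FibCat.fpSnd x (FibCat.fpFst f y')) (FibCat.fpSnd f y')) = _
    rw [h1]
    rfl
  have h5 : BasedFunctor.comp (BasedFunctor.comp L Ψ)
      (BasedFunctor.comp (BasedFunctor.id _) (FibCat.fpSnd (BasedFunctor.comp x f) y')) =
      BasedFunctor.comp (FibCat.fpSnd ĥ (FibCat.fpFst y y')) (FibCat.fpSnd y y') := by
    show BasedFunctor.comp L (BasedFunctor.comp Ψ (FibCat.fpSnd (BasedFunctor.comp x f) y')) = _
    rw [h2, h3]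
  exact eqToIso h4 ≪≫ i1 ≪≫ eqToIso h5

end Aux

section Core

variable {𝒳 𝒴 : AlgSt.Cat S}

/-- postcomposition with an equivalence preserves "representable by algebraic spaces with `P`" -/
lemma rep_comp_equiv {𝒜 ℬ 𝒞 : AlgSt.Cat S} (P : MorphismProperty (AlgSp.Sp S)) (w : 𝒜 ⥤ᵇ ℬ)
    (e : ℬ ⥤ᵇ 𝒞) (he : FibCat.IsEquivOver e) (h : AlgSt.RepByAlgSpWith P w) :
    AlgSt.RepByAlgSpWith P (BasedFunctor.comp w e) :=
  repByAlgSpWith_of_square' P (BasedFunctor.comp w e) w (BasedFunctor.id _) e isEquivOver_id he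
    (Iso.refl _) h

/-- **Independence of the chart square** (the hard direction of S12990). -/
theorem transfer_square {P : MorphismProperty (AlgSp.Sp S)} (hP : AlgSp.IsSmoothLocalST P)
    (h𝒳 : AlgSt.IsAlgStack Scheme.fppfPrecoverage 𝒳)
    (h𝒴 : AlgSt.IsAlgStack Scheme.fppfPrecoverage 𝒴) (f : 𝒳 ⥤ᵇ 𝒴)
    {U V : Over S} (x : FibCat.overCat U ⥤ᵇ 𝒳) (y : FibCat.overCat V ⥤ᵇ 𝒴) (h : U ⟶ V)
    (α : BasedFunctor.comp x f ≅ BasedFunctor.comp (AlgSt.overMap h) y)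
    (hx₁ : AlgSt.RepByAlgSpWith (AlgSp.LocP @Smooth) x)
    (hx₂ : AlgSt.RepByAlgSpWith AlgSp.IsSurjectiveMor x)
    (hy : AlgSt.RepByAlgSpWith (AlgSp.LocP @Smooth) y) (hPh : P ((AlgSp.yon S).map h))
    {U' V' : Over S} (x' : FibCat.overCat U' ⥤ᵇ 𝒳) (y' : FibCat.overCat V' ⥤ᵇ 𝒴) (h' : U' ⟶ V')
    (α' : BasedFunctor.comp x' f ≅ BasedFunctor.comp (AlgSt.overMap h') y')
    (hy' : AlgSt.RepByAlgSpWith (AlgSp.LocP @Smooth) y')
    (hc' : AlgSt.RepByAlgSpWith (AlgSp.LocP @Smooth) (FibCat.fpLift x' (AlgSt.overMap h') α')) :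
    P ((AlgSp.yon S).map h') := by
  have hV' := isAlgStack_overCat V'
  have h𝒳' : AlgSt.IsAlgStack Scheme.fppfPrecoverage (FibCat.fp f y') :=
    isAlgStack_fp h𝒴.isStack h𝒴.diag h𝒳 hV' f y'
  -- Step 1: `V ×_𝒴 V'`
  obtain ⟨G_V, e_V, he_V⟩ := Groth.Agent.H3.AlgStDiag.repByAlgSp_fp_of_diag h𝒴.isStack.1 h𝒴.diag
    y y' (AlgStDiagLft.repByAlgSp_overCat V) (AlgStDiagLft.repByAlgSp_overCat V')
  have hq₁s : AlgSp.LocP @Smooth
      (AlgSt.spMapOfOver (BasedFunctor.comp e_V (FibCat.fpFst y y'))) :=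
    fst_prop _ good_smooth.bc good_smooth.toC.charts y' hy' V y G_V e_V he_V
  have hq₂s : AlgSp.LocP @Smooth
      (AlgSt.spMapOfOver (BasedFunctor.comp e_V (FibCat.fpSnd y y'))) :=
    snd_prop _ good_smooth.bc good_smooth.toC.charts y' V y hy G_V e_V he_V
  -- Step 2: `U ×_V (V ×_𝒴 V')`
  obtain ⟨G_W, hG_W⟩ : ∃ G_W : AlgSp.Sp S, G_W = pullback ((AlgSp.yon S).map h)
    (AlgSt.spMapOfOver (BasedFunctor.comp e_V (FibCat.fpFst y y'))) := ⟨_, rfl⟩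
  obtain ⟨pfst, psnd, sq⟩ : ∃ (pfst : G_W ⟶ (AlgSp.yon S).obj U) (psnd : G_W ⟶ G_V.obj),
      IsPullback pfst psnd ((AlgSp.yon S).map h)
        (AlgSt.spMapOfOver (BasedFunctor.comp e_V (FibCat.fpFst y y'))) := by
    subst hG_W
    exact ⟨_, _, IsPullback.of_hasPullback _ _⟩
  have hGW : AlgSp.IsAlgSpace G_W :=
    Groth.Agent.H5.AlgSp.isAlgSpace_pullback (AlgSp.IsAlgSpace.yon_obj V).diag
      (AlgSp.IsAlgSpace.yon_obj U) G_V.property sq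
  have hPpr : P psnd :=
    hP.baseChange (AlgSp.IsAlgSpace.yon_obj U) (AlgSp.IsAlgSpace.yon_obj V) hGW G_V.property
      _ _ psnd pfst sq hq₁s hPh
  obtain ⟨e_W, he_W, he_W2, -⟩ :=
    exists_equiv_fp_of_isPullback h (FibCat.fpFst y y') G_V.obj e_V he_V pfst psnd sq
  -- Step 3: the cube
  obtain ⟨E, hE, ⟨J1⟩⟩ := exists_cube f x y (AlgSt.overMap h) α y'
  obtain ⟨x₁, hx₁def⟩ : ∃ x₁ : FibCat.fp (AlgSt.overMap h) (FibCat.fpFst y y') ⥤ᵇ FibCat.fp f y',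
    x₁ = BasedFunctor.comp E (FibCat.fpSnd x (FibCat.fpFst f y')) := ⟨_, rfl⟩
  rw [← hx₁def] at J1
  have hx₁s : AlgSt.RepByAlgSpWith (AlgSp.LocP @Smooth) x₁ := by
    rw [hx₁def]
    exact (repByAlgSpWith_comp_equiv_iff _ E hE _).2 (repByAlgSpWith_fpSnd _ x _ hx₁)
  have hx₁surj : AlgSt.RepByAlgSpWith AlgSp.IsSurjectiveMor x₁ := by
    rw [hx₁def]
    exact (repByAlgSpWith_comp_equiv_iff _ E hE _).2 (repByAlgSpWith_fpSnd _ x _ hx₂)
  -- Step 4: `A = W ×_{𝒳'} U'`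
  obtain ⟨c', hc'def⟩ : ∃ c' : FibCat.overCat U' ⥤ᵇ FibCat.fp f y',
    c' = FibCat.fpLift x' (AlgSt.overMap h') α' := ⟨_, rfl⟩
  rw [← hc'def] at hc'
  have hc'snd : BasedFunctor.comp c' (FibCat.fpSnd f y') = AlgSt.overMap h' := by
    rw [hc'def]; apply basedFunctor_ext; rfl
  obtain ⟨G_A, e_A, he_A⟩ := Groth.Agent.H3.AlgStDiag.repByAlgSp_fp_of_diag h𝒳'.isStack.1
    h𝒳'.diag x₁ c' ⟨⟨G_W, hGW⟩, e_W, he_W⟩ (AlgStDiagLft.repByAlgSp_overCat U')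
  have hm : AlgSt.RepByAlgSpWith (AlgSp.LocP @Smooth) (FibCat.fpFst x₁ c') :=
    repByAlgSpWith_fpFst _ c' x₁ hc'
  have ha₁ : AlgSt.RepByAlgSpWith (AlgSp.LocP @Smooth) (FibCat.fpSnd x₁ c') :=
    repByAlgSpWith_fpSnd _ x₁ c' hx₁s
  have ha₂ : AlgSt.RepByAlgSpWith AlgSp.IsSurjectiveMor (FibCat.fpSnd x₁ c') :=
    repByAlgSpWith_fpSnd _ x₁ c' hx₁surj
  have J2 : BasedFunctor.comp (FibCat.fpSnd x₁ c') (AlgSt.overMap h') ≅
      BasedFunctor.comp (FibCat.fpFst x₁ c')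
        (BasedFunctor.comp (FibCat.fpSnd (AlgSt.overMap h) (FibCat.fpFst y y'))
          (FibCat.fpSnd y y')) := by
    rw [← hc'snd]
    exact whiskerR (FibCat.fpIso x₁ c').symm (FibCat.fpSnd f y') ≪≫ whiskerL (FibCat.fpFst x₁ c') J1
  -- Step 5: sheaf-level maps
  obtain ⟨R_W, hR_W, -, ⟨e2⟩⟩ := isEquivOver_symm he_W
  obtain ⟨μ, hμdef⟩ : ∃ μ : AlgSt.ofSp G_A.obj ⥤ᵇ AlgSt.ofSp G_W,
    μ = BasedFunctor.comp (BasedFunctor.comp e_A (FibCat.fpFst x₁ c')) R_W := ⟨_, rfl⟩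
  obtain ⟨m', hm'def⟩ : ∃ m' : G_A.obj ⟶ G_W, m' = ObjectProperty.homMk (pshMapOf μ) := ⟨_, rfl⟩
  obtain ⟨ιμ⟩ := iso_ofPshMap_pshMapOf μ
  have ιμ' : μ ≅ AlgSt.ofSpMap m' := by rw [hm'def]; exact ιμ
  have hμ : AlgSt.RepByAlgSpWith (AlgSp.LocP @Smooth) μ := by
    rw [hμdef]
    exact rep_comp_equiv _ _ R_W hR_W ((repByAlgSpWith_comp_equiv_iff _ e_A he_A _).2 hm)
  have hm's : AlgSp.LocP @Smooth m' :=
    (repByAlgSpWith_ofPshMap_iff _ good_smooth.bc good_smooth.toC.charts G_A.property hGW m').1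
      (repByAlgSpWith_of_iso _ ιμ' hμ)
  have hPk : P (m' ≫ psnd) := hP.precomp G_A.property hGW G_V.property m' psnd hm's hPpr
  have ha's : AlgSp.LocP @Smooth
      (AlgSt.spMapOfOver (BasedFunctor.comp e_A (FibCat.fpSnd x₁ c'))) :=
    (repByAlgSpWith_iff_spMapOfOver _ good_smooth.bc good_smooth.toC.charts G_A _).1
      ((repByAlgSpWith_comp_equiv_iff _ e_A he_A _).2 ha₁)
  have ha'surj : AlgSp.IsSurjectiveMor
      (AlgSt.spMapOfOver (BasedFunctor.comp e_A (FibCat.fpSnd x₁ c'))) :=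
    (repByAlgSpWith_iff_spMapOfOver _ good_isSurjectiveMor.bc good_isSurjectiveMor.toC.charts
      G_A _).1 ((repByAlgSpWith_comp_equiv_iff _ e_A he_A _).2 ha₂)
  have hcomm : AlgSt.spMapOfOver (BasedFunctor.comp e_A (FibCat.fpSnd x₁ c')) ≫
      (AlgSp.yon S).map h' =
      (m' ≫ psnd) ≫ AlgSt.spMapOfOver (BasedFunctor.comp e_V (FibCat.fpSnd y y')) := by
    rw [← spMapOfOver_comp_overMap, ← spMapOfOver_ofSpMap_comp]
    apply spMapOfOver_congr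
    have k1 : BasedFunctor.comp (AlgSt.ofSpMap (m' ≫ psnd))
        (BasedFunctor.comp e_V (FibCat.fpSnd y y')) =
        BasedFunctor.comp (AlgSt.ofSpMap m') (BasedFunctor.comp
          (BasedFunctor.comp e_W (FibCat.fpSnd (AlgSt.overMap h) (FibCat.fpFst y y')))
          (FibCat.fpSnd y y')) := by
      rw [he_W2]; rfl
    rw [k1]
    have k2 : BasedFunctor.comp (AlgSt.ofSpMap m') (BasedFunctor.comp
          (BasedFunctor.comp e_W (FibCat.fpSnd (AlgSt.overMap h) (FibCat.fpFst y y')))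
          (FibCat.fpSnd y y')) ≅
        BasedFunctor.comp μ (BasedFunctor.comp
          (BasedFunctor.comp e_W (FibCat.fpSnd (AlgSt.overMap h) (FibCat.fpFst y y')))
          (FibCat.fpSnd y y')) := whiskerR ιμ'.symm _
    have k3 : BasedFunctor.comp μ (BasedFunctor.comp
          (BasedFunctor.comp e_W (FibCat.fpSnd (AlgSt.overMap h) (FibCat.fpFst y y')))
          (FibCat.fpSnd y y')) =
        BasedFunctor.comp (BasedFunctor.comp e_A (FibCat.fpFst x₁ c'))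
          (BasedFunctor.comp (BasedFunctor.comp R_W e_W)
            (BasedFunctor.comp (FibCat.fpSnd (AlgSt.overMap h) (FibCat.fpFst y y'))
              (FibCat.fpSnd y y'))) := by
      rw [hμdef]; rfl
    have k4 : BasedFunctor.comp (BasedFunctor.comp e_A (FibCat.fpFst x₁ c'))
          (BasedFunctor.comp (BasedFunctor.comp R_W e_W)
            (BasedFunctor.comp (FibCat.fpSnd (AlgSt.overMap h) (FibCat.fpFst y y'))
              (FibCat.fpSnd y y'))) ≅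
        BasedFunctor.comp (BasedFunctor.comp e_A (FibCat.fpFst x₁ c'))
          (BasedFunctor.comp (BasedFunctor.id _)
            (BasedFunctor.comp (FibCat.fpSnd (AlgSt.overMap h) (FibCat.fpFst y y'))
              (FibCat.fpSnd y y'))) := whiskerL _ (whiskerR e2 _)
    have k5 : BasedFunctor.comp e_A (BasedFunctor.comp (FibCat.fpSnd x₁ c') (AlgSt.overMap h')) ≅
        BasedFunctor.comp e_A (BasedFunctor.comp (FibCat.fpFst x₁ c')
          (BasedFunctor.comp (FibCat.fpSnd (AlgSt.overMap h) (FibCat.fpFst y y'))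
            (FibCat.fpSnd y y'))) := whiskerL e_A J2
    exact k5 ≪≫ k4.symm ≪≫ eqToIso k3.symm ≪≫ k2.symm
  refine (hP.locality (AlgSp.IsAlgSpace.yon_obj U') (AlgSp.IsAlgSpace.yon_obj V') _).2
    (fun pt => ?_)
  obtain ⟨v, hv⟩ := ha'surj pt
  exact ⟨G_A.obj, G_V.obj, _, _, m' ≫ psnd, v, G_A.property, G_V.property, ha's, hq₂s, hcomm, hv,
    hPk⟩

end Core

section Squares

variable {𝒳 𝒴 : AlgSt.Cat S}

/-- components of an isomorphism `c ≫ pr₂ ≅ b` with unfolded types -/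
def sndIso {𝒲 𝒳 𝒴 𝒵 : AlgSt.Cat S} {F : 𝒳 ⥤ᵇ 𝒵} {G : 𝒴 ⥤ᵇ 𝒵} {c : 𝒲 ⥤ᵇ FibCat.fp F G}
    {b : 𝒲 ⥤ᵇ 𝒴} (ι : BasedFunctor.comp c (FibCat.fpSnd F G) ≅ b) (w : 𝒲.obj) :
    (c.obj w).obj.snd ≅ b.obj w := appIso ι w

/-- a functor into a 2-fibre product is isomorphic to the lift of its projections, the second
one replaced by an isomorphic functor -/
def fpLiftIso {𝒲 𝒳 𝒴 𝒵 : AlgSt.Cat S} (F : 𝒳 ⥤ᵇ 𝒵) (G : 𝒴 ⥤ᵇ 𝒵) (c : 𝒲 ⥤ᵇ FibCat.fp F G)
    (b : 𝒲 ⥤ᵇ 𝒴) (ι : BasedFunctor.comp c (FibCat.fpSnd F G) ≅ b) :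
    FibCat.fpLift (BasedFunctor.comp c (FibCat.fpFst F G)) b
      (whiskerL c (FibCat.fpIso F G) ≪≫ whiskerR ι G) ≅ c :=
  BasedNatIso.mkNatIso
    (NatIso.ofComponents
      (fun w => fpIsoMk (Iso.refl _) (sndIso ι w).symm (by
        show F.map (𝟙 _) ≫ (c.obj w).obj.iso.hom =
          ((c.obj w).obj.iso.hom ≫ G.map (sndIso ι w).hom) ≫ G.map (sndIso ι w).inv
        rw [Category.assoc, ← G.toFunctor.map_comp, Iso.hom_inv_id]
        simp))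
      (fun {w w'} g => by
        apply fp_hom_ext
        · show (c.map g).hom.fst ≫ 𝟙 _ = 𝟙 _ ≫ (c.map g).hom.fst
          simp
        · show b.map g ≫ (sndIso ι w').inv = (sndIso ι w).inv ≫ (c.map g).hom.snd
          exact appIso_inv_naturality ι g))
    (fun w => by
      rw [fp_isHomLift_iff]
      show 𝒳.p.IsHomLift (𝟙 (𝒲.p.obj w)) (𝟙 ((c.obj w).obj.fst))
      have h1 : 𝒳.p.obj ((c.obj w).obj.fst) = 𝒲.p.obj w := c.w_obj w
      rw [← h1]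
      infer_instance)

/-- **S12990** -/
theorem locQ_iff_forall_squares {P : MorphismProperty (AlgSp.Sp S)} (hP : AlgSp.IsSmoothLocalST P)
    (h𝒳 : AlgSt.IsAlgStack Scheme.fppfPrecoverage 𝒳)
    (h𝒴 : AlgSt.IsAlgStack Scheme.fppfPrecoverage 𝒴) (f : 𝒳 ⥤ᵇ 𝒴) :
    AlgSt.LocQ P f ↔
      ∀ (U V : Over S) (x : FibCat.overCat U ⥤ᵇ 𝒳) (y : FibCat.overCat V ⥤ᵇ 𝒴) (h : U ⟶ V)
        (α : BasedFunctor.comp x f ≅ BasedFunctor.comp (AlgSt.overMap h) y),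
        AlgSt.RepByAlgSpWith (AlgSp.LocP @Smooth) x → AlgSt.RepByAlgSpWith (AlgSp.LocP @Smooth) y →
        AlgSt.RepByAlgSpWith (AlgSp.LocP @Smooth) (FibCat.fpLift x (AlgSt.overMap h) α) →
          P ((AlgSp.yon S).map h) := by
  constructor
  · rintro ⟨U, V, x, y, h, α, hx₁, hx₂, hy, hPh⟩ U' V' x' y' h' α' _ hy' hc'
    exact transfer_square hP h𝒳 h𝒴 f x y h α hx₁ hx₂ hy hPh x' y' h' α' hy' hc'
  · intro H
    obtain ⟨V, y, hy₁, hy₂⟩ := h𝒴.atlas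
    have hV := isAlgStack_overCat V
    have hfp : AlgSt.IsAlgStack Scheme.fppfPrecoverage (FibCat.fp f y) :=
      isAlgStack_fp h𝒴.isStack h𝒴.diag h𝒳 hV f y
    obtain ⟨U, c, hc₁, hc₂⟩ := hfp.atlas
    have hU := isFibGrpd_overCat U
    obtain ⟨a, ⟨ι⟩⟩ := exists_overMap_iso (BasedFunctor.comp c (FibCat.fpSnd f y))
    have hx₁ : AlgSt.RepByAlgSpWith (AlgSp.LocP @Smooth) (BasedFunctor.comp c (FibCat.fpFst f y)) :=
      good_smooth.toC.repComp hU hfp.isStack.1 _ _ hc₁ (repByAlgSpWith_fpFst _ y f hy₁)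
    have hx₂ : AlgSt.RepByAlgSpWith AlgSp.IsSurjectiveMor
        (BasedFunctor.comp c (FibCat.fpFst f y)) :=
      good_isSurjectiveMor.toC.repComp hU hfp.isStack.1 _ _ hc₂ (repByAlgSpWith_fpFst _ y f hy₂)
    refine ⟨U, V, BasedFunctor.comp c (FibCat.fpFst f y), y, a,
      whiskerL c (FibCat.fpIso f y) ≪≫ whiskerR ι y, hx₁, hx₂, hy₁, ?_⟩
    refine H U V _ y a (whiskerL c (FibCat.fpIso f y) ≪≫ whiskerR ι y) hx₁ hy₁ ?_
    exact repByAlgSpWith_of_iso _ (fpLiftIso f y c _ ι).symm hc₁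

end Squares

end Groth.Agent.H3.AlgStLocQ
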