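import Mathlib
import Groth.Agent.Lib.Helper3.AlgSt.LocQ
import Groth.Agent.Lib.Helper3.SmSrc.LocP

/-!
# `LocQ`: toolkit (helper3)

General isomorphisms of functors into 2-fibre products, equivalences are smooth and surjective,
stack squares, reading `LocQ` on charts of fibre products, space charts (S12991).
-/

set_option autoImplicit false
universe u
open CategoryTheory CategoryTheory.Functor CategoryTheory.Limits Opposite AlgebraicGeometry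

noncomputable section

namespace Groth.Agent.H3.AlgStLocQ

open Groth.Agent.H3.FibCatAux Groth.Agent.H3.GerbAux Groth.Agent.H3.FpCalc Groth.Agent.H3.TwoCart
  Groth.Agent.H3.StackPsh Groth.Agent.H3.PshBridge Groth.Agent.H3.AlgStAux Groth.Agent.H3.RepBridge
  Groth.Agent.H3.SetoidPsh Groth.Agent.H3.BaseChangeSp Groth.Agent.H3.AlgStComp
  Groth.Agent.H3.AlgStProps Groth.Agent.H3.AlgStBridge2 Groth.Agent.H3.AlgStCharts
  Groth.Agent.H3.AlgStDescent Groth.Agent.H3.Whisker Groth.Agent.H3.AlgStLES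
  Groth.Agent.H3.FPtRel Groth.Agent.H3.AlgStStackRep Groth.Agent.H3.TwoYoneda
  Groth.Agent.H3.AlgStPoints Groth.Agent.H3.AlgStAlgebraic Groth.Agent.H3.AlgStQCMor
  Groth.Agent.H3.AlgStSmoothLoc

variable {S : Scheme.{u}}

section FpIso

variable {𝒲 𝒳 𝒴 𝒵 : AlgSt.Cat S} {F : 𝒳 ⥤ᵇ 𝒵} {G : 𝒴 ⥤ᵇ 𝒵}

/-- components of an isomorphism `c ≫ pr₁ ≅ c' ≫ pr₁` with unfolded types -/
def fstIso' {c c' : 𝒲 ⥤ᵇ FibCat.fp F G}
    (ι : BasedFunctor.comp c (FibCat.fpFst F G) ≅ BasedFunctor.comp c' (FibCat.fpFst F G))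
    (w : 𝒲.obj) : (c.obj w).obj.fst ≅ (c'.obj w).obj.fst := appIso ι w

/-- components of an isomorphism `c ≫ pr₂ ≅ c' ≫ pr₂` with unfolded types -/
def sndIso' {c c' : 𝒲 ⥤ᵇ FibCat.fp F G}
    (ι : BasedFunctor.comp c (FibCat.fpSnd F G) ≅ BasedFunctor.comp c' (FibCat.fpSnd F G))
    (w : 𝒲.obj) : (c.obj w).obj.snd ≅ (c'.obj w).obj.snd := appIso ι w

/-- two functors into a 2-fibre product are isomorphic as soon as their projections are,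
compatibly with the structural isomorphisms -/
def fpFunctorIso (c c' : 𝒲 ⥤ᵇ FibCat.fp F G)
    (ι₁ : BasedFunctor.comp c (FibCat.fpFst F G) ≅ BasedFunctor.comp c' (FibCat.fpFst F G))
    (ι₂ : BasedFunctor.comp c (FibCat.fpSnd F G) ≅ BasedFunctor.comp c' (FibCat.fpSnd F G))
    (hc : ∀ w : 𝒲.obj, F.map (fstIso' ι₁ w).hom ≫ (c'.obj w).obj.iso.hom =
      (c.obj w).obj.iso.hom ≫ G.map (sndIso' ι₂ w).hom) : c ≅ c' :=
  BasedNatIso.mkNatIso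
    (NatIso.ofComponents
      (fun w => fpIsoMk (fstIso' ι₁ w) (sndIso' ι₂ w) (hc w))
      (fun {w w'} g => by
        apply fp_hom_ext
        · show (c.map g).hom.fst ≫ (fstIso' ι₁ w').hom = (fstIso' ι₁ w).hom ≫ (c'.map g).hom.fst
          exact appIso_hom_naturality ι₁ g
        · show (c.map g).hom.snd ≫ (sndIso' ι₂ w').hom = (sndIso' ι₂ w).hom ≫ (c'.map g).hom.snd
          exact appIso_hom_naturality ι₂ g))
    (fun w => by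
      rw [fp_isHomLift_iff]
      show 𝒳.p.IsHomLift (𝟙 (𝒲.p.obj w)) (fstIso' ι₁ w).hom
      exact appIso_hom_isHomLift ι₁ w rfl)

end FpIso


section FpId

variable {𝒳 𝒵 : AlgSt.Cat S}

/-- the section of `pr₁ : 𝒳 ×_𝒵 𝒵 ⟶ 𝒳` -/
def fpIdSection (F : 𝒳 ⥤ᵇ 𝒵) : 𝒳 ⥤ᵇ FibCat.fp F (BasedFunctor.id 𝒵) :=
  FibCat.fpLift (BasedFunctor.id 𝒳) F (idSq F).symm

/-- base change of the identity: `pr₁ : 𝒳 ×_𝒵 𝒵 ⟶ 𝒳` is an equivalence -/
theorem isEquivOver_fpFst_id (F : 𝒳 ⥤ᵇ 𝒵) :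
    FibCat.IsEquivOver (FibCat.fpFst F (BasedFunctor.id 𝒵)) := by
  refine ⟨fpIdSection F, ⟨?_⟩, ⟨Iso.refl _⟩⟩
  refine fpFunctorIso _ _ (Iso.refl _) ?_ ?_
  · exact FibCat.fpIso F (BasedFunctor.id 𝒵)
  · intro w
    show F.map (𝟙 _) ≫ w.obj.iso.hom = 𝟙 _ ≫ w.obj.iso.hom
    simp

end FpId


section Equiv

variable {𝒳 𝒴 𝒵 : AlgSt.Cat S}

theorem isEquivOver_fpIdSection (F : 𝒳 ⥤ᵇ 𝒵) : FibCat.IsEquivOver (fpIdSection F) := by
  refine ⟨FibCat.fpFst F (BasedFunctor.id 𝒵), ⟨Iso.refl _⟩, ⟨?_⟩⟩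
  refine fpFunctorIso _ _ (Iso.refl _) ?_ ?_
  · exact FibCat.fpIso F (BasedFunctor.id 𝒵)
  · intro w
    show F.map (𝟙 _) ≫ w.obj.iso.hom = 𝟙 _ ≫ w.obj.iso.hom
    simp

/-- the identity is representable by algebraic spaces with any property holding for identities -/
theorem repByAlgSpWith_id (P : MorphismProperty (AlgSp.Sp S)) (hP : ∀ X : AlgSp.Sp S, P (𝟙 X))
    (𝒳 : AlgSt.Cat S) : AlgSt.RepByAlgSpWith P (BasedFunctor.id 𝒳) := by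
  intro U y
  obtain ⟨tU, htU⟩ : ∃ tU : AlgSt.ofSp ((AlgSp.yon S).obj U) ⥤ᵇ FibCat.overCat U,
    tU = RepBridge.toOver U := ⟨_, rfl⟩
  have htUe : FibCat.IsEquivOver tU := htU ▸ isEquivOver_toOver U
  refine ⟨⟨(AlgSp.yon S).obj U, AlgSp.IsAlgSpace.yon_obj U⟩,
    BasedFunctor.comp tU (fpIdSection y),
    isEquivOver_comp _ _ htUe (isEquivOver_fpIdSection y), ?_⟩
  have h1 : BasedFunctor.comp (BasedFunctor.comp tU (fpIdSection y))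
      (FibCat.fpFst y (BasedFunctor.id 𝒳)) = tU := by
    apply basedFunctor_ext; rfl
  rw [h1, htU]
  have h2 : AlgSt.spMapOfOver (RepBridge.toOver U) = 𝟙 _ := spMapOfOver_toOverCat U
  rw [h2]
  exact hP _

/-- equivalences are representable by algebraic spaces with any property holding for
identities -/
theorem repByAlgSpWith_of_isEquivOver (P : MorphismProperty (AlgSp.Sp S))
    (hP : ∀ X : AlgSp.Sp S, P (𝟙 X)) (e : 𝒳 ⥤ᵇ 𝒴) (he : FibCat.IsEquivOver e) :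
    AlgSt.RepByAlgSpWith P e :=
  repByAlgSpWith_of_square' P e (BasedFunctor.id 𝒳) (BasedFunctor.id 𝒳) e isEquivOver_id he
    (Iso.refl _) (repByAlgSpWith_id P hP 𝒳)

theorem rep_smooth_of_isEquivOver (e : 𝒳 ⥤ᵇ 𝒴) (he : FibCat.IsEquivOver e) :
    AlgSt.RepByAlgSpWith (AlgSp.LocP @Smooth) e :=
  repByAlgSpWith_of_isEquivOver _ (fun X => Groth.Agent.H3.AlgSpCov.locP_smooth_id X) e he

theorem rep_surj_of_isEquivOver (e : 𝒳 ⥤ᵇ 𝒴) (he : FibCat.IsEquivOver e) :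
    AlgSt.RepByAlgSpWith AlgSp.IsSurjectiveMor e :=
  repByAlgSpWith_of_isEquivOver _ (fun X x => ⟨x, by rw [AlgSp.Points.map_id]⟩) e he

end Equiv


section Basic

variable {𝒳 𝒴 𝒰 𝒱 : AlgSt.Cat S} {P : MorphismProperty (AlgSp.Sp S)}

/-- `LocQ` is invariant under 2-isomorphism -/
theorem locQ_of_iso {f f' : 𝒳 ⥤ᵇ 𝒴} (ι : f ≅ f') (h : AlgSt.LocQ P f) : AlgSt.LocQ P f' := by
  obtain ⟨U, V, x, y, k, α, hx₁, hx₂, hy, hk⟩ := h
  exact ⟨U, V, x, y, k, whiskerL x ι.symm ≪≫ α, hx₁, hx₂, hy, hk⟩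

/-- **Stack squares**: `LocQ` can be read on a 2-commutative square whose horizontal arrows are
representable by algebraic spaces, smooth (and surjective on the source side). -/
theorem locQ_of_square (h𝒰 : FibCat.IsFibGrpd 𝒰.p) (h𝒱 : FibCat.IsFibGrpd 𝒱.p)
    (f : 𝒳 ⥤ᵇ 𝒴) (x : 𝒰 ⥤ᵇ 𝒳) (y : 𝒱 ⥤ᵇ 𝒴) (h : 𝒰 ⥤ᵇ 𝒱)
    (α : BasedFunctor.comp x f ≅ BasedFunctor.comp h y)
    (hx₁ : AlgSt.RepByAlgSpWith (AlgSp.LocP @Smooth) x)
    (hx₂ : AlgSt.RepByAlgSpWith AlgSp.IsSurjectiveMor x)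
    (hy : AlgSt.RepByAlgSpWith (AlgSp.LocP @Smooth) y) (hh : AlgSt.LocQ P h) :
    AlgSt.LocQ P f := by
  obtain ⟨U, V, u, v, k, β, hu₁, hu₂, hv, hk⟩ := hh
  have hU := isFibGrpd_overCat U
  have hV := isFibGrpd_overCat V
  refine ⟨U, V, BasedFunctor.comp u x, BasedFunctor.comp v y, k, ?_,
    good_smooth.toC.repComp hU h𝒰 _ _ hu₁ hx₁,
    good_isSurjectiveMor.toC.repComp hU h𝒰 _ _ hu₂ hx₂,
    good_smooth.toC.repComp hV h𝒱 _ _ hv hy, hk⟩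
  exact whiskerL u α ≪≫ whiskerR β y

end Basic


section Transfer

variable {𝒳 𝒴 : AlgSt.Cat S} {P : MorphismProperty (AlgSp.Sp S)}

/-- **Reading `LocQ` on any smooth chart of the fibre product** (the form of S12990 used in
practice). -/
theorem prop_of_locQ (hP : AlgSp.IsSmoothLocalST P)
    (h𝒳 : AlgSt.IsAlgStack Scheme.fppfPrecoverage 𝒳)
    (h𝒴 : AlgSt.IsAlgStack Scheme.fppfPrecoverage 𝒴) (f : 𝒳 ⥤ᵇ 𝒴) (hf : AlgSt.LocQ P f)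
    {U' V' : Over S} (y' : FibCat.overCat V' ⥤ᵇ 𝒴)
    (hy' : AlgSt.RepByAlgSpWith (AlgSp.LocP @Smooth) y')
    (c' : FibCat.overCat U' ⥤ᵇ FibCat.fp f y')
    (hc' : AlgSt.RepByAlgSpWith (AlgSp.LocP @Smooth) c') (h' : U' ⟶ V')
    (ι : BasedFunctor.comp c' (FibCat.fpSnd f y') ≅ AlgSt.overMap h') :
    P ((AlgSp.yon S).map h') := by
  obtain ⟨U, V, x, y, h, α, hx₁, hx₂, hy, hPh⟩ := hf
  refine transfer_square hP h𝒳 h𝒴 f x y h α hx₁ hx₂ hy hPh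
    (BasedFunctor.comp c' (FibCat.fpFst f y')) y' h'
    (whiskerL c' (FibCat.fpIso f y') ≪≫ whiskerR ι y') hy' ?_
  exact repByAlgSpWith_of_iso _ (fpLiftIso f y' c' _ ι).symm hc'

/-- the swap equivalence of 2-fibre products -/
def fpSwap {𝒵 : AlgSt.Cat S} (z : 𝒵 ⥤ᵇ 𝒴) (f : 𝒳 ⥤ᵇ 𝒴) : FibCat.fp z f ⥤ᵇ FibCat.fp f z :=
  FibCat.fpLift (FibCat.fpSnd z f) (FibCat.fpFst z f) (FibCat.fpIso z f).symm

theorem isEquivOver_fpSwap {𝒵 : AlgSt.Cat S} (z : 𝒵 ⥤ᵇ 𝒴) (f : 𝒳 ⥤ᵇ 𝒴) :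
    FibCat.IsEquivOver (fpSwap z f) :=
  Groth.Agent.H3.TwoCart.swap_isTwoCartOver z f

lemma fpSwap_comp_fpFst {𝒵 : AlgSt.Cat S} (z : 𝒵 ⥤ᵇ 𝒴) (f : 𝒳 ⥤ᵇ 𝒴) :
    BasedFunctor.comp (fpSwap z f) (FibCat.fpFst f z) = FibCat.fpSnd z f := by
  apply basedFunctor_ext; rfl

lemma fpSwap_comp_fpSnd {𝒵 : AlgSt.Cat S} (z : 𝒵 ⥤ᵇ 𝒴) (f : 𝒳 ⥤ᵇ 𝒴) :
    BasedFunctor.comp (fpSwap z f) (FibCat.fpSnd f z) = FibCat.fpFst z f := by
  apply basedFunctor_ext; rfl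

/-- `prop_of_locQ` with the factors of the fibre product in the other order -/
theorem prop_of_locQ' (hP : AlgSp.IsSmoothLocalST P)
    (h𝒳 : AlgSt.IsAlgStack Scheme.fppfPrecoverage 𝒳)
    (h𝒴 : AlgSt.IsAlgStack Scheme.fppfPrecoverage 𝒴) (f : 𝒳 ⥤ᵇ 𝒴) (hf : AlgSt.LocQ P f)
    {U' V' : Over S} (y' : FibCat.overCat V' ⥤ᵇ 𝒴)
    (hy' : AlgSt.RepByAlgSpWith (AlgSp.LocP @Smooth) y')
    (c' : FibCat.overCat U' ⥤ᵇ FibCat.fp y' f)
    (hc' : AlgSt.RepByAlgSpWith (AlgSp.LocP @Smooth) c') (h' : U' ⟶ V')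
    (ι : BasedFunctor.comp c' (FibCat.fpFst y' f) ≅ AlgSt.overMap h') :
    P ((AlgSp.yon S).map h') := by
  refine prop_of_locQ hP h𝒳 h𝒴 f hf y' hy' (BasedFunctor.comp c' (fpSwap y' f))
    (rep_comp_equiv _ c' _ (isEquivOver_fpSwap y' f) hc') h' ?_
  have h1 : BasedFunctor.comp (BasedFunctor.comp c' (fpSwap y' f)) (FibCat.fpSnd f y') =
      BasedFunctor.comp c' (FibCat.fpFst y' f) := by
    apply basedFunctor_ext; rfl
  rw [h1]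
  exact ι

/-- `prop_of_locQ` when the target is already a scheme -/
theorem prop_of_locQ_base (hP : AlgSp.IsSmoothLocalST P) {𝒲 : AlgSt.Cat S}
    (h𝒲 : AlgSt.IsAlgStack Scheme.fppfPrecoverage 𝒲) {U V : Over S}
    (φ : 𝒲 ⥤ᵇ FibCat.overCat V) (hφ : AlgSt.LocQ P φ) (c : FibCat.overCat U ⥤ᵇ 𝒲)
    (hc : AlgSt.RepByAlgSpWith (AlgSp.LocP @Smooth) c) (h : U ⟶ V)
    (ι : BasedFunctor.comp c φ ≅ AlgSt.overMap h) : P ((AlgSp.yon S).map h) := by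
  refine prop_of_locQ hP h𝒲 (isAlgStack_overCat V) φ hφ (BasedFunctor.id _)
    (rep_smooth_of_isEquivOver _ isEquivOver_id) (BasedFunctor.comp c (fpIdSection φ))
    (rep_comp_equiv _ c _ (isEquivOver_fpIdSection φ) hc) h ?_
  have h1 : BasedFunctor.comp (BasedFunctor.comp c (fpIdSection φ))
      (FibCat.fpSnd φ (BasedFunctor.id _)) = BasedFunctor.comp c φ := by
    apply basedFunctor_ext; rfl
  rw [h1]
  exact ι

end Transfer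


section SpaceSquares

variable {𝒳 𝒴 : AlgSt.Cat S} {P : MorphismProperty (AlgSp.Sp S)}

/-- the comparison `ofOver U ≫ h_h ≅ (h ∘ −) ≫ ofOver V` -/
theorem ofOverMapIso {U V : Over S} (h : U ⟶ V) :
    Nonempty (BasedFunctor.comp (RepBridge.ofOver U) (Stk.ofPshMap ((AlgSp.pyon S).map h)) ≅
      BasedFunctor.comp (AlgSt.overMap h) (RepBridge.ofOver V)) := by
  obtain ⟨κ⟩ := overMapIso h
  exact ⟨whiskerR (whiskerL (RepBridge.ofOver U) κ) (RepBridge.ofOver V)⟩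

/-- one direction of **S12991**: from scheme charts to space charts -/
theorem exists_space_square_of_locQ (f : 𝒳 ⥤ᵇ 𝒴) (hf : AlgSt.LocQ P f) :
    ∃ (U V : AlgSp.Space S) (x : AlgSt.ofSp U.obj ⥤ᵇ 𝒳) (y : AlgSt.ofSp V.obj ⥤ᵇ 𝒴) (h : U ⟶ V)
      (_ : BasedFunctor.comp x f ≅ BasedFunctor.comp (AlgSt.ofSpMap h.hom) y),
      AlgSt.RepByAlgSpWith (AlgSp.LocP @Smooth) x ∧ AlgSt.RepByAlgSpWith AlgSp.IsSurjectiveMor x ∧
      AlgSt.RepByAlgSpWith (AlgSp.LocP @Smooth) y ∧ P h.hom := by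
  obtain ⟨U, V, x, y, h, α, hx₁, hx₂, hy, hPh⟩ := hf
  obtain ⟨κ⟩ := overMapIso h
  obtain ⟨tU, htU⟩ : ∃ tU : AlgSt.ofSp ((AlgSp.yon S).obj U) ⥤ᵇ FibCat.overCat U,
    tU = RepBridge.toOver U := ⟨_, rfl⟩
  obtain ⟨tV, htV⟩ : ∃ tV : AlgSt.ofSp ((AlgSp.yon S).obj V) ⥤ᵇ FibCat.overCat V,
    tV = RepBridge.toOver V := ⟨_, rfl⟩
  have htUe : FibCat.IsEquivOver tU := htU ▸ isEquivOver_toOver U
  have htVe : FibCat.IsEquivOver tV := htV ▸ isEquivOver_toOver V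
  have κ' : BasedFunctor.comp (AlgSt.ofSpMap ((AlgSp.yon S).map h)) tV ≅
      BasedFunctor.comp tU (AlgSt.overMap h) := by
    rw [htU, htV]; exact κ
  refine ⟨⟨(AlgSp.yon S).obj U, AlgSp.IsAlgSpace.yon_obj U⟩,
    ⟨(AlgSp.yon S).obj V, AlgSp.IsAlgSpace.yon_obj V⟩, BasedFunctor.comp tU x,
    BasedFunctor.comp tV y, ObjectProperty.homMk ((AlgSp.yon S).map h), ?_, ?_, ?_, ?_, hPh⟩
  · exact whiskerL tU α ≪≫ whiskerR κ'.symm y
  · exact (repByAlgSpWith_comp_equiv_iff _ tU htUe x).2 hx₁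
  · exact (repByAlgSpWith_comp_equiv_iff _ tU htUe x).2 hx₂
  · exact (repByAlgSpWith_comp_equiv_iff _ tV htVe y).2 hy


/-- the other direction of **S12991**: `LocQ` can be read on a square of space charts -/
theorem locQ_of_space_square (hP : AlgSp.IsSmoothLocalST P) (f : 𝒳 ⥤ᵇ 𝒴)
    (U V : AlgSp.Space S) (x : AlgSt.ofSp U.obj ⥤ᵇ 𝒳) (y : AlgSt.ofSp V.obj ⥤ᵇ 𝒴) (h : U ⟶ V)
    (α : BasedFunctor.comp x f ≅ BasedFunctor.comp (AlgSt.ofSpMap h.hom) y)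
    (hx₁ : AlgSt.RepByAlgSpWith (AlgSp.LocP @Smooth) x)
    (hx₂ : AlgSt.RepByAlgSpWith AlgSp.IsSurjectiveMor x)
    (hy : AlgSt.RepByAlgSpWith (AlgSp.LocP @Smooth) y) (hPh : P h.hom) : AlgSt.LocQ P f := by
  obtain ⟨V₀, p, hpe, hps⟩ := V.property.atlas
  obtain ⟨W, hWdef⟩ : ∃ W : AlgSp.Sp S, W = pullback h.hom p := ⟨_, rfl⟩
  obtain ⟨pr₁, pr₂, sq⟩ : ∃ (pr₁ : W ⟶ U.obj) (pr₂ : W ⟶ (AlgSp.yon S).obj V₀),
      IsPullback pr₁ pr₂ h.hom p := by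
    subst hWdef
    exact ⟨_, _, IsPullback.of_hasPullback _ _⟩
  have hW : AlgSp.IsAlgSpace W :=
    Groth.Agent.H5.AlgSp.isAlgSpace_pullback V.property.diag U.property
      (AlgSp.IsAlgSpace.yon_obj V₀) sq
  have hps' : AlgSp.LocP @Smooth p := etaleImplies_smooth p hpe
  have hPpr : P pr₂ :=
    hP.baseChange U.property V.property hW (AlgSp.IsAlgSpace.yon_obj V₀) h.hom p pr₂ pr₁ sq hps'
      hPh
  obtain ⟨U₀, q, hqe, hqs⟩ := hW.atlas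
  obtain ⟨h₀, hh₀⟩ := (AlgSp.yon S).map_surjective (q ≫ pr₂)
  have hPh₀ : P ((AlgSp.yon S).map h₀) := by
    rw [hh₀]
    exact hP.precomp (AlgSp.IsAlgSpace.yon_obj U₀) hW (AlgSp.IsAlgSpace.yon_obj V₀) q pr₂
      (etaleImplies_smooth q hqe) hPpr
  have hpr₁e : AlgSp.RepWith @Etale pr₁ :=
    MorphismProperty.of_isPullback (P := AlgSp.RepWith @Etale) sq.flip hpe
  have hpr₁s : AlgSp.RepWith @Surjective pr₁ :=
    MorphismProperty.of_isPullback (P := AlgSp.RepWith @Surjective) sq.flip hps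
  have hqe' : AlgSp.RepWith @Etale (q ≫ pr₁) := (AlgSp.RepWith @Etale).comp_mem _ _ hqe hpr₁e
  have hqs' : AlgSp.RepWith @Surjective (q ≫ pr₁) :=
    (AlgSp.RepWith @Surjective).comp_mem _ _ hqs hpr₁s
  have hU₀ := isFibGrpd_overCat U₀
  have hV₀ := isFibGrpd_overCat V₀
  have hUg : FibCat.IsFibGrpd (AlgSt.ofSp U.obj).p := Stk.isFibGrpd_ofPsh _
  have hVg : FibCat.IsFibGrpd (AlgSt.ofSp V.obj).p := Stk.isFibGrpd_ofPsh _
  obtain ⟨κ⟩ := ofOverMapIso h₀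
  refine ⟨U₀, V₀, BasedFunctor.comp (AlgStSpaceDM.chartOf (q ≫ pr₁)) x,
    BasedFunctor.comp (AlgStSpaceDM.chartOf p) y, h₀, ?_,
    good_smooth.toC.repComp hU₀ hUg _ _ (rep_smooth_chartOf _ hqe') hx₁,
    good_isSurjectiveMor.toC.repComp hU₀ hUg _ _ (rep_surj_chartOf _ hqs') hx₂,
    good_smooth.toC.repComp hV₀ hVg _ _ (rep_smooth_chartOf _ hpe) hy, hPh₀⟩
  have e1 : (q ≫ pr₁) ≫ h.hom = (AlgSp.yon S).map h₀ ≫ p := by
    rw [Category.assoc, sq.w, ← Category.assoc, hh₀]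
  have k1 : BasedFunctor.comp (BasedFunctor.comp (AlgStSpaceDM.chartOf (q ≫ pr₁)) x) f ≅
      BasedFunctor.comp (RepBridge.ofOver U₀)
        (BasedFunctor.comp (AlgSt.ofSpMap ((q ≫ pr₁) ≫ h.hom)) y) :=
    whiskerL (AlgStSpaceDM.chartOf (q ≫ pr₁)) α
  rw [e1] at k1
  exact k1 ≪≫ whiskerR κ (BasedFunctor.comp (AlgSt.ofSpMap p) y)

end SpaceSquares

end Groth.Agent.H3.AlgStLocQ
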