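import Mathlib
import Groth.Agent.Lib.Helper3.AlgSt.LocQ2

/-!
# `LocQ` for morphisms of algebraic spaces and representable morphisms (helper3)

S12992, S12993.
-/

set_option autoImplicit false
universe u
open CategoryTheory CategoryTheory.Functor CategoryTheory.Limits Opposite AlgebraicGeometry

noncomputable section

namespace Groth.Agent.H3.AlgStLocQ

open Groth.Agent.H3.FibCatAux Groth.Agent.H3.GerbAux Groth.Agent.H3.FpCalc Groth.Agent.H3.TwoCart
  Groth.Agent.H3.StackPsh Groth.Agent.H3.PshBridge Groth.Agent.H3.AlgStAux Groth.Agent.H3.RepBridge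
  Groth.Agent.H3.SetoidPsh Groth.Agent.H3.BaseChangeSp Groth.Agent.H3.AlgStComp
  Groth.Agent.H3.AlgStProps Groth.Agent.H3.AlgStBridge2 Groth.Agent.H3.AlgStCharts
  Groth.Agent.H3.AlgStDescent Groth.Agent.H3.Whisker Groth.Agent.H3.AlgStLES
  Groth.Agent.H3.FPtRel Groth.Agent.H3.AlgStStackRep Groth.Agent.H3.TwoYoneda
  Groth.Agent.H3.AlgStPoints Groth.Agent.H3.AlgStAlgebraic Groth.Agent.H3.AlgStQCMor
  Groth.Agent.H3.AlgStSmoothLoc

variable {S : Scheme.{u}}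

section Spaces

variable {P : MorphismProperty (AlgSp.Sp S)}

/-- a functor between categories of spaces, as a morphism of sheaves -/
def spMapOf {X Y : AlgSp.Sp S} (μ : AlgSt.ofSp X ⥤ᵇ AlgSt.ofSp Y) : X ⟶ Y :=
  ObjectProperty.homMk (pshMapOf μ)

lemma spMapOf_iso {X Y : AlgSp.Sp S} (μ : AlgSt.ofSp X ⥤ᵇ AlgSt.ofSp Y) :
    Nonempty (μ ≅ AlgSt.ofSpMap (spMapOf μ)) := iso_ofPshMap_pshMapOf μ

lemma spMapOf_ofSpMap {X Y : AlgSp.Sp S} (a : X ⟶ Y) : spMapOf (AlgSt.ofSpMap a) = a := by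
  apply ObjectProperty.hom_ext
  exact pshMapOf_ofPshMap a.hom

lemma spMapOf_comp {X Y Z : AlgSp.Sp S} (μ : AlgSt.ofSp X ⥤ᵇ AlgSt.ofSp Y)
    (ν : AlgSt.ofSp Y ⥤ᵇ AlgSt.ofSp Z) :
    spMapOf (BasedFunctor.comp μ ν) = spMapOf μ ≫ spMapOf ν := by
  apply ObjectProperty.hom_ext
  exact pshMapOf_comp μ ν

lemma spMapOf_congr {X Y : AlgSp.Sp S} {μ μ' : AlgSt.ofSp X ⥤ᵇ AlgSt.ofSp Y} (ι : μ ≅ μ') :
    spMapOf μ = spMapOf μ' := by
  apply ObjectProperty.hom_ext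
  exact pshMapOf_eq_of_iso ι

/-- representability with `P` of a functor between categories of spaces, read on the morphism
of sheaves -/
theorem rep_iff_spMapOf (Q : MorphismProperty (AlgSp.Sp S)) (hQb : BaseChangeSp Q)
    (hQ : OfCharts Q) {X Y : AlgSp.Sp S} (hX : AlgSp.IsAlgSpace X) (hY : AlgSp.IsAlgSpace Y)
    (μ : AlgSt.ofSp X ⥤ᵇ AlgSt.ofSp Y) : AlgSt.RepByAlgSpWith Q μ ↔ Q (spMapOf μ) := by
  obtain ⟨ι⟩ := spMapOf_iso μ
  rw [← repByAlgSpWith_ofPshMap_iff Q hQb hQ hX hY (spMapOf μ)]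
  exact ⟨repByAlgSpWith_of_iso Q ι, repByAlgSpWith_of_iso Q ι.symm⟩

/-- **S12992** -/
theorem locQ_ofSpMap_iff (hP : AlgSp.IsSmoothLocalST P) (F G : AlgSp.Space S) (a : F ⟶ G) :
    AlgSt.LocQ P (AlgSt.ofSpMap a.hom) ↔ P a.hom := by
  constructor
  · intro hf
    obtain ⟨U, V, x, y, h, α, hx₁, hx₂, hy, hPh⟩ := exists_space_square_of_locQ _ hf
    have hxs : AlgSp.LocP @Smooth (spMapOf x) :=
      (rep_iff_spMapOf _ good_smooth.bc good_smooth.toC.charts U.property F.property x).1 hx₁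
    have hxsurj : AlgSp.IsSurjectiveMor (spMapOf x) :=
      (rep_iff_spMapOf _ good_isSurjectiveMor.bc good_isSurjectiveMor.toC.charts U.property
        F.property x).1 hx₂
    have hys : AlgSp.LocP @Smooth (spMapOf y) :=
      (rep_iff_spMapOf _ good_smooth.bc good_smooth.toC.charts V.property G.property y).1 hy
    have hcomm : spMapOf x ≫ a.hom = h.hom ≫ spMapOf y := by
      have h1 := spMapOf_congr α
      rw [spMapOf_comp, spMapOf_comp, spMapOf_ofSpMap, spMapOf_ofSpMap] at h1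
      exact h1
    refine (hP.locality F.property G.property a.hom).2 (fun pt => ?_)
    obtain ⟨v, hv⟩ := hxsurj pt
    exact ⟨U.obj, V.obj, spMapOf x, spMapOf y, h.hom, v, U.property, V.property, hxs, hys, hcomm,
      hv, hPh⟩
  · intro ha
    exact locQ_of_space_square hP _ F G (BasedFunctor.id _) (BasedFunctor.id _) a (Iso.refl _)
      (rep_smooth_of_isEquivOver _ isEquivOver_id) (rep_surj_of_isEquivOver _ isEquivOver_id)
      (rep_smooth_of_isEquivOver _ isEquivOver_id) ha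

end Spaces


section Rep

variable {𝒳 𝒴 : AlgSt.Cat S} {P : MorphismProperty (AlgSp.Sp S)}

/-- a property that is smooth local on the source-and-target descends along an etale surjective
chart of the source -/
theorem prop_of_etale_chart (hP : AlgSp.IsSmoothLocalST P) {F G : AlgSp.Sp S}
    (hF : AlgSp.IsAlgSpace F) (hG : AlgSp.IsAlgSpace G) (q : F ⟶ G) {U₀ : Over S}
    (a : (AlgSp.yon S).obj U₀ ⟶ F) (hae : AlgSp.RepWith @Etale a)
    (has : AlgSp.RepWith @Surjective a) (h : P (a ≫ q)) : P q := by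
  refine (hP.locality hF hG q).2 (fun pt => ?_)
  obtain ⟨v, hv⟩ := Groth.Agent.H5.AlgSp.points_map_surjective_of_repWith has pt
  exact ⟨(AlgSp.yon S).obj U₀, G, a, 𝟙 G, a ≫ q, v, AlgSp.IsAlgSpace.yon_obj U₀, hG,
    etaleImplies_smooth a hae, Groth.Agent.H3.AlgSpCov.locP_smooth_id G,
    (Category.comp_id _).symm, hv, h⟩

/-- `LocQ` read on a representing space of the base change to a smooth chart, factors of the
fibre product in the order of `RepByAlgSpWith` -/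
theorem prop_spMapOfOver_of_locQ (hP : AlgSp.IsSmoothLocalST P)
    (h𝒳 : AlgSt.IsAlgStack Scheme.fppfPrecoverage 𝒳)
    (h𝒴 : AlgSt.IsAlgStack Scheme.fppfPrecoverage 𝒴) (f : 𝒳 ⥤ᵇ 𝒴) (hf : AlgSt.LocQ P f)
    {V : Over S} (y : FibCat.overCat V ⥤ᵇ 𝒴)
    (hy : AlgSt.RepByAlgSpWith (AlgSp.LocP @Smooth) y) (F : AlgSp.Space S)
    (e : AlgSt.ofSp F.obj ⥤ᵇ FibCat.fp y f)
    (he : AlgSt.RepByAlgSpWith (AlgSp.LocP @Smooth) e) :
    P (AlgSt.spMapOfOver (BasedFunctor.comp e (FibCat.fpFst y f))) := by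
  obtain ⟨U₀, a, hae, has⟩ := F.property.atlas
  refine prop_of_etale_chart hP F.property (AlgSp.IsAlgSpace.yon_obj V) _ a hae has ?_
  have hU₀ := isFibGrpd_overCat U₀
  have hFg : FibCat.IsFibGrpd (AlgSt.ofSp F.obj).p := Stk.isFibGrpd_ofPsh _
  have hc : AlgSt.RepByAlgSpWith (AlgSp.LocP @Smooth)
      (BasedFunctor.comp (AlgStSpaceDM.chartOf a) e) :=
    good_smooth.toC.repComp hU₀ hFg _ _ (rep_smooth_chartOf a hae) he
  obtain ⟨h₀, ⟨ι⟩⟩ := exists_overMap_iso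
    (BasedFunctor.comp (BasedFunctor.comp (AlgStSpaceDM.chartOf a) e) (FibCat.fpFst y f))
  have hPh₀ := prop_of_locQ' hP h𝒳 h𝒴 f hf y hy _ hc h₀ ι
  have e1 : a ≫ AlgSt.spMapOfOver (BasedFunctor.comp e (FibCat.fpFst y f)) =
      (AlgSp.yon S).map h₀ := by
    rw [← spMapOfOver_ofSpMap_comp]
    have h2 : AlgSt.spMapOfOver (RepBridge.toOver U₀) = 𝟙 _ := spMapOfOver_toOverCat U₀
    have h3 : (AlgSp.yon S).map h₀ =
        AlgSt.spMapOfOver (BasedFunctor.comp (RepBridge.toOver U₀) (AlgSt.overMap h₀)) := by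
      rw [spMapOfOver_comp_overMap, h2, Category.id_comp]
    rw [h3]
    exact spMapOfOver_congr (whiskerL (RepBridge.toOver U₀) ι)
  rw [e1]
  exact hPh₀

/-- **S12993** -/
theorem locQ_iff_rep (hP : AlgSp.IsSmoothLocalST P) (hPb : BaseChangeSp P)
    (hP₂ : AlgSp.IsLocalOnBase AlgSp.IsFppfCover P)
    (h𝒳 : AlgSt.IsAlgStack Scheme.fppfPrecoverage 𝒳)
    (h𝒴 : AlgSt.IsAlgStack Scheme.fppfPrecoverage 𝒴) (f : 𝒳 ⥤ᵇ 𝒴) (hf : AlgSt.RepByAlgSp1 f) :
    AlgSt.LocQ P f ↔ AlgSt.RepByAlgSpWith P f := by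
  obtain ⟨V, y, hy₁, hy₂⟩ := h𝒴.atlas
  have hPc : OfCharts P := ofCharts_of_isLocalOnBase P hP₂
  constructor
  · intro hL
    refine (Groth.Agent.H3.AlgStLES.repByAlgSpWith_iff_fpFst_of_fppf P hPb hP₂ f hf y
      (AlgStDiagLft.repByAlgSpWith_mono (AlgStDiagLft.locP_mono AlgStDiagLft.smooth_le_flat) hy₁)
      (AlgStDiagLft.repByAlgSpWith_mono (AlgStDiagLft.locP_mono AlgStDiagLft.smooth_le_lfp) hy₁)
      hy₂).2 ?_
    obtain ⟨F, e, he⟩ := hf V y
    refine (repByAlgSpWith_comp_equiv_iff P e he _).1 ?_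
    refine (repByAlgSpWith_iff_spMapOfOver P hPb hPc F _).2 ?_
    exact prop_spMapOfOver_of_locQ hP h𝒳 h𝒴 f hL y hy₁ F e (rep_smooth_of_isEquivOver e he)
  · intro hR
    obtain ⟨F, e, he, hq⟩ := hR V y
    obtain ⟨tV, htV⟩ : ∃ tV : AlgSt.ofSp ((AlgSp.yon S).obj V) ⥤ᵇ FibCat.overCat V,
      tV = RepBridge.toOver V := ⟨_, rfl⟩
    have htVe : FibCat.IsEquivOver tV := htV ▸ isEquivOver_toOver V
    obtain ⟨ι⟩ := projIso (BasedFunctor.comp e (FibCat.fpFst y f))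
    have ι' : BasedFunctor.comp e (FibCat.fpFst y f) ≅
        BasedFunctor.comp (AlgSt.ofSpMap
          (AlgSt.spMapOfOver (BasedFunctor.comp e (FibCat.fpFst y f)))) tV := by
      rw [htV]; exact ι
    refine locQ_of_space_square hP f F ⟨(AlgSp.yon S).obj V, AlgSp.IsAlgSpace.yon_obj V⟩
      (BasedFunctor.comp e (FibCat.fpSnd y f)) (BasedFunctor.comp tV y)
      (ObjectProperty.homMk (AlgSt.spMapOfOver (BasedFunctor.comp e (FibCat.fpFst y f)))) ?_
      ((repByAlgSpWith_comp_equiv_iff _ e he _).2 (repByAlgSpWith_fpSnd _ y f hy₁))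
      ((repByAlgSpWith_comp_equiv_iff _ e he _).2 (repByAlgSpWith_fpSnd _ y f hy₂))
      ((repByAlgSpWith_comp_equiv_iff _ tV htVe _).2 hy₁) hq
    exact whiskerL e (FibCat.fpIso y f).symm ≪≫ whiskerR ι' y

end Rep

end Groth.Agent.H3.AlgStLocQ
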