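import Mathlib
import Groth.Agent.Lib.Helper3.AlgSt.LocQ3
import Groth.Agent.Lib.Helper3.AlgSpCov.RedNoeth

/-!
# `LocQ`: immersions and Noetherian statements (helper3)

S12996–S12999.
-/

set_option autoImplicit false
universe u
open CategoryTheory CategoryTheory.Functor CategoryTheory.Limits Opposite AlgebraicGeometry

noncomputable section

namespace Groth.Agent.H3.AlgStLocQ

open Groth.Agent.H3.FibCatAux Groth.Agent.H3.GerbAux Groth.Agent.H3.FpCalc Groth.Agent.H3.TwoCart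
  Groth.Agent.H3.StackPsh Groth.Agent.H3.PshBridge Groth.Agent.H3.AlgStAux Groth.Agent.H3.RepBridge
  Groth.Agent.H3.SetoidPsh Groth.Agent.H3.BaseChangeSp Groth.Agent.H3.AlgStComp
  Groth.Agent.H3.AlgStProps Groth.Agent.H3.AlgStBridge2 Groth.Agent.H3.AlgStCharts
  Groth.Agent.H3.AlgStDescent Groth.Agent.H3.Whisker Groth.Agent.H3.AlgStLES
  Groth.Agent.H3.FPtRel Groth.Agent.H3.AlgStStackRep Groth.Agent.H3.TwoYoneda
  Groth.Agent.H3.AlgStPoints Groth.Agent.H3.AlgStAlgebraic Groth.Agent.H3.AlgStQCMor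
  Groth.Agent.H3.AlgStSmoothLoc Groth.Agent.H3.SmSrc

variable {S : Scheme.{u}} {𝒳 𝒴 : AlgSt.Cat S}

/-- a morphism representable by algebraic spaces with `P` has `P` read on smooth charts -/
theorem locQ_of_rep {P : MorphismProperty (AlgSp.Sp S)} (hP : AlgSp.IsSmoothLocalST P)
    (h𝒴 : AlgSt.IsAlgStack Scheme.fppfPrecoverage 𝒴) (f : 𝒳 ⥤ᵇ 𝒴)
    (hR : AlgSt.RepByAlgSpWith P f) : AlgSt.LocQ P f := by
  obtain ⟨V, y, hy₁, hy₂⟩ := h𝒴.atlas
  obtain ⟨F, e, he, hq⟩ := hR V y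
  obtain ⟨tV, htV⟩ : ∃ tV : AlgSt.ofSp ((AlgSp.yon S).obj V) ⥤ᵇ FibCat.overCat V,
    tV = RepBridge.toOver V := ⟨_, rfl⟩
  have htVe : FibCat.IsEquivOver tV := htV ▸ isEquivOver_toOver V
  obtain ⟨ι⟩ := projIso (BasedFunctor.comp e (FibCat.fpFst y f))
  have ι' : BasedFunctor.comp e (FibCat.fpFst y f) ≅
      BasedFunctor.comp (AlgSt.ofSpMap
        (AlgSt.spMapOfOver (BasedFunctor.comp e (FibCat.fpFst y f)))) tV := by
    rw [htV]; exact ι
  refine locQ_of_space_square hP f F ⟨(AlgSp.yon S).obj V, AlgSp.IsAlgSpace.yon_obj V⟩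
    (BasedFunctor.comp e (FibCat.fpSnd y f)) (BasedFunctor.comp tV y)
    (ObjectProperty.homMk (AlgSt.spMapOfOver (BasedFunctor.comp e (FibCat.fpFst y f)))) ?_
    ((repByAlgSpWith_comp_equiv_iff _ e he _).2 (repByAlgSpWith_fpSnd _ y f hy₁))
    ((repByAlgSpWith_comp_equiv_iff _ e he _).2 (repByAlgSpWith_fpSnd _ y f hy₂))
    ((repByAlgSpWith_comp_equiv_iff _ tV htVe _).2 hy₁) hq
  exact whiskerL e (FibCat.fpIso y f).symm ≪≫ whiskerR ι' y

/-- **S12996** -/
theorem locQ_lft_of_isImm (h𝒴 : AlgSt.IsAlgStack Scheme.fppfPrecoverage 𝒴) (f : 𝒳 ⥤ᵇ 𝒴)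
    (hf : AlgSt.IsImm f) : AlgSt.LocQ (AlgSp.LocP @LocallyOfFiniteType) f := by
  refine locQ_of_rep isSmoothLocalST_lft h𝒴 f ?_
  refine AlgStDiagLft.repByAlgSpWith_mono (fun X Y a ha => ?_) hf
  have h1 : (@IsImmersion : MorphismProperty Scheme.{u}) ≤ @LocallyOfFiniteType :=
    fun _ _ g hg => by have : IsImmersion g := hg; infer_instance
  exact Groth.Agent.H5.AlgSp.locP_of_repWith Groth.Agent.H3.AlgSpCov.etale_le_lft
    (Groth.Agent.H5.AlgSp.repWith_mono h1 ha)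

/-- **S12997** -/
theorem locQ_lfp_of_isOpenImm (h𝒴 : AlgSt.IsAlgStack Scheme.fppfPrecoverage 𝒴) (f : 𝒳 ⥤ᵇ 𝒴)
    (hf : AlgSt.IsOpenImm f) : AlgSt.LocQ (AlgSp.LocP @LocallyOfFinitePresentation) f := by
  refine locQ_of_rep isSmoothLocalST_lfp h𝒴 f ?_
  refine AlgStDiagLft.repByAlgSpWith_mono (fun X Y a ha => ?_) hf
  have h1 : (@IsOpenImmersion : MorphismProperty Scheme.{u}) ≤ @LocallyOfFinitePresentation :=
    fun _ _ g hg => by have : IsOpenImmersion g := hg; infer_instance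
  exact Groth.Agent.H5.AlgSp.locP_of_repWith Groth.Agent.H5.AlgSp.etale_le_lfp
    (Groth.Agent.H5.AlgSp.repWith_mono h1 ha)


/-- local Noetherianity is local for the smooth topology -/
theorem isLocallyNoetherian_smoothLocal (U : Scheme.{u}) (R : Presieve U)
    (hR : R ∈ Scheme.precoverage @Smooth U) :
    IsLocallyNoetherian U ↔ ∀ ⦃V : Scheme.{u}⦄ (g : V ⟶ U), R g → IsLocallyNoetherian V := by
  constructor
  · intro hU V g hg
    have : Smooth g := hR.2 hg
    exact LocallyOfFiniteType.isLocallyNoetherian g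
  · intro H
    have hjs := (Presieve.mem_comap_jointlySurjectivePrecoverage_iff Scheme.forget).1 hR.1
    choose V g hg hx using hjs
    have hsm : ∀ x, Smooth (g x) := fun x => hR.2 (hg x)
    let W : U → U.Opens := fun x => ⟨Set.range (g x), (g x).isOpenMap.isOpen_range⟩
    have hW : TopologicalSpace.IsOpenCover W := by
      apply TopologicalSpace.IsOpenCover.mk
      rw [eq_top_iff]
      intro x _
      rw [TopologicalSpace.Opens.mem_iSup]
      exact ⟨x, hx x⟩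
    rw [isLocallyNoetherian_iff_openCover (U.openCoverOfIsOpenCover W hW)]
    intro x
    show IsLocallyNoetherian ↑(W x)
    have hsub : Set.range (g x) ⊆ Set.range (W x).ι := by
      rw [Scheme.Opens.range_ι]
      exact subset_rfl
    have hfac : IsOpenImmersion.lift (W x).ι (g x) hsub ≫ (W x).ι = g x :=
      IsOpenImmersion.lift_fac _ _ _
    have h2 : Flat (IsOpenImmersion.lift (W x).ι (g x) hsub) :=
      MorphismProperty.of_postcomp (W := @Flat) (W' := @IsOpenImmersion) _ (W x).ι inferInstance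
        (by rw [hfac]; infer_instance)
    have h3 : LocallyOfFinitePresentation (IsOpenImmersion.lift (W x).ι (g x) hsub) :=
      MorphismProperty.of_postcomp (W := @LocallyOfFinitePresentation) (W' := @IsOpenImmersion) _
        (W x).ι inferInstance (by rw [hfac]; infer_instance)
    have h1 : Function.Surjective (IsOpenImmersion.lift (W x).ι (g x) hsub) := by
      intro w
      obtain ⟨v, hv⟩ : (W x).ι w ∈ Set.range (g x) := by
        have := Set.mem_range_self (f := (W x).ι) w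
        rwa [Scheme.Opens.range_ι] at this
      refine ⟨v, ?_⟩
      apply (W x).ι.isOpenEmbedding.injective
      rw [← Scheme.Hom.comp_apply, hfac, hv]
    have : IsLocallyNoetherian (V x) := H (g x) (hg x)
    exact Groth.Agent.H3.AlgSpCov.isLocallyNoetherian_of_fppf_surjective
      (IsOpenImmersion.lift (W x).ι (g x) hsub) h1

/-- **S12998** -/
theorem smoothLocally_noeth_of_locQ_lft (h𝒳 : AlgSt.IsAlgStack Scheme.fppfPrecoverage 𝒳)
    (f : 𝒳 ⥤ᵇ 𝒴) (hf : AlgSt.LocQ (AlgSp.LocP @LocallyOfFiniteType) f)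
    (h𝒴N : AlgSt.SmoothLocally (fun T ↦ IsLocallyNoetherian T) 𝒴) :
    AlgSt.SmoothLocally (fun T ↦ IsLocallyNoetherian T) 𝒳 := by
  obtain ⟨U, V, x, y, h, α, hx₁, hx₂, hy, hPh⟩ := hf
  have hV : IsLocallyNoetherian V.left := h𝒴N V y hy
  have hh : LocallyOfFiniteType h.left :=
    (Groth.Agent.H5.AlgSp.locP_yon_map_iff Groth.Agent.H3.AlgSpCov.etale_le_lft h).1 hPh
  have hU : IsLocallyNoetherian U.left := LocallyOfFiniteType.isLocallyNoetherian h.left
  exact (smoothLocally_iff_exists (fun T ↦ IsLocallyNoetherian T)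
    isLocallyNoetherian_smoothLocal h𝒳).2 ⟨U, x, hx₁, hx₂, hU⟩

/-- **S12999** -/
theorem locQ_lfp_of_locQ_lft_of_noeth (f : 𝒳 ⥤ᵇ 𝒴)
    (h𝒴N : AlgSt.SmoothLocally (fun T ↦ IsLocallyNoetherian T) 𝒴)
    (hf : AlgSt.LocQ (AlgSp.LocP @LocallyOfFiniteType) f) :
    AlgSt.LocQ (AlgSp.LocP @LocallyOfFinitePresentation) f := by
  obtain ⟨U, V, x, y, h, α, hx₁, hx₂, hy, hPh⟩ := hf
  have hV : IsLocallyNoetherian V.left := h𝒴N V y hy
  have hh : LocallyOfFiniteType h.left :=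
    (Groth.Agent.H5.AlgSp.locP_yon_map_iff Groth.Agent.H3.AlgSpCov.etale_le_lft h).1 hPh
  have hh' : LocallyOfFinitePresentation h.left :=
    LocallyOfFinitePresentation.iff_locallyOfFiniteType.2 hh
  exact ⟨U, V, x, y, h, α, hx₁, hx₂, hy,
    (Groth.Agent.H5.AlgSp.locP_yon_map_iff Groth.Agent.H5.AlgSp.etale_le_lfp h).2 hh'⟩

end Groth.Agent.H3.AlgStLocQ
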