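import Mathlib
import Groth.Agent.Lib.Helper3.AlgSt.LocQ4

/-!
# `LocQ`: composition, base change, descent (helper3)
-/

set_option autoImplicit false
universe u
open CategoryTheory CategoryTheory.Functor CategoryTheory.Limits Opposite AlgebraicGeometry

noncomputable section

namespace Groth.Agent.H3.AlgStLocQ

open Groth.Agent.H3.FibCatAux Groth.Agent.H3.GerbAux Groth.Agent.H3.FpCalc Groth.Agent.H3.TwoCart
  Groth.Agent.H3.StackPsh Groth.Agent.H3.PshBridge Groth.Agent.H3.AlgStAux Groth.Agent.H3.RepBridge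
  Groth.Agent.H3.SetoidPsh Groth.Agent.H3.BaseChangeSp Groth.Agent.H3.AlgStComp
  Groth.Agent.H3.AlgStProps Groth.Agent.H3.AlgStBridge2 Groth.Agent.H3.AlgStCharts
  Groth.Agent.H3.AlgStDescent Groth.Agent.H3.Whisker Groth.Agent.H3.AlgStLES
  Groth.Agent.H3.FPtRel Groth.Agent.H3.AlgStStackRep Groth.Agent.H3.TwoYoneda
  Groth.Agent.H3.AlgStPoints Groth.Agent.H3.AlgStAlgebraic Groth.Agent.H3.AlgStQCMor
  Groth.Agent.H3.AlgStSmoothLoc Groth.Agent.H3.SmSrc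

variable {S : Scheme.{u}} {𝒳 𝒴 𝒵 : AlgSt.Cat S} {P : MorphismProperty (AlgSp.Sp S)}

/-- a smooth surjective chart of the base change of `f` to a smooth chart `y`, together with the
induced morphism of schemes -/
theorem exists_chart_fp (h𝒳 : AlgSt.IsAlgStack Scheme.fppfPrecoverage 𝒳)
    (h𝒴 : AlgSt.IsAlgStack Scheme.fppfPrecoverage 𝒴) (f : 𝒳 ⥤ᵇ 𝒴) {V : Over S}
    (y : FibCat.overCat V ⥤ᵇ 𝒴) :
    ∃ (U : Over S) (c : FibCat.overCat U ⥤ᵇ FibCat.fp f y) (h : U ⟶ V),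
      AlgSt.RepByAlgSpWith (AlgSp.LocP @Smooth) c ∧ AlgSt.RepByAlgSpWith AlgSp.IsSurjectiveMor c ∧
      Nonempty (BasedFunctor.comp c (FibCat.fpSnd f y) ≅ AlgSt.overMap h) := by
  have hV := isAlgStack_overCat V
  have hfp : AlgSt.IsAlgStack Scheme.fppfPrecoverage (FibCat.fp f y) :=
    isAlgStack_fp h𝒴.isStack h𝒴.diag h𝒳 hV f y
  obtain ⟨U, c, hc₁, hc₂⟩ := hfp.atlas
  obtain ⟨h, hι⟩ := exists_overMap_iso (BasedFunctor.comp c (FibCat.fpSnd f y))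
  exact ⟨U, c, h, hc₁, hc₂, hι⟩

/-- **Compatible charts for a composite**: smooth surjective charts of `𝒴 ×_𝒵 W`, of
`𝒳 ×_𝒴 V` and of `𝒳 ×_𝒵 W` fitting together. -/
theorem exists_double_chart (h𝒳 : AlgSt.IsAlgStack Scheme.fppfPrecoverage 𝒳)
    (h𝒴 : AlgSt.IsAlgStack Scheme.fppfPrecoverage 𝒴)
    (h𝒵 : AlgSt.IsAlgStack Scheme.fppfPrecoverage 𝒵) (f : 𝒳 ⥤ᵇ 𝒴) (g : 𝒴 ⥤ᵇ 𝒵) {W : Over S}
    (z : FibCat.overCat W ⥤ᵇ 𝒵) :
    ∃ (U V : Over S) (h : U ⟶ V) (k : V ⟶ W) (c : FibCat.overCat V ⥤ᵇ FibCat.fp g z)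
      (d : FibCat.overCat U ⥤ᵇ FibCat.fp f (BasedFunctor.comp c (FibCat.fpFst g z)))
      (d₂ : FibCat.overCat U ⥤ᵇ FibCat.fp (BasedFunctor.comp f g) z),
      AlgSt.RepByAlgSpWith (AlgSp.LocP @Smooth) c ∧ AlgSt.RepByAlgSpWith AlgSp.IsSurjectiveMor c ∧
      AlgSt.RepByAlgSpWith (AlgSp.LocP @Smooth) d ∧ AlgSt.RepByAlgSpWith AlgSp.IsSurjectiveMor d ∧
      AlgSt.RepByAlgSpWith (AlgSp.LocP @Smooth) d₂ ∧
      AlgSt.RepByAlgSpWith AlgSp.IsSurjectiveMor d₂ ∧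
      Nonempty (BasedFunctor.comp c (FibCat.fpSnd g z) ≅ AlgSt.overMap k) ∧
      Nonempty (BasedFunctor.comp d (FibCat.fpSnd f _) ≅ AlgSt.overMap h) ∧
      Nonempty (BasedFunctor.comp d₂ (FibCat.fpSnd (BasedFunctor.comp f g) z) ≅
        AlgSt.overMap (h ≫ k)) ∧
      BasedFunctor.comp d₂ (FibCat.fpFst (BasedFunctor.comp f g) z) =
        BasedFunctor.comp d (FibCat.fpFst f _) := by
  have hW := isAlgStack_overCat W
  have h𝒴₁ : AlgSt.IsAlgStack Scheme.fppfPrecoverage (FibCat.fp g z) :=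
    isAlgStack_fp h𝒵.isStack h𝒵.diag h𝒴 hW g z
  obtain ⟨V, c, hc₁, hc₂⟩ := h𝒴₁.atlas
  obtain ⟨k, ⟨ιk⟩⟩ := exists_overMap_iso (BasedFunctor.comp c (FibCat.fpSnd g z))
  have hV := isAlgStack_overCat V
  obtain ⟨q, hq⟩ : ∃ q : FibCat.fp g z ⥤ᵇ 𝒴, q = FibCat.fpFst g z := ⟨_, rfl⟩
  have h𝒳₁ : AlgSt.IsAlgStack Scheme.fppfPrecoverage (FibCat.fp f q) :=
    isAlgStack_fp h𝒴.isStack h𝒴.diag h𝒳 h𝒴₁ f q
  have h𝒜 : AlgSt.IsAlgStack Scheme.fppfPrecoverage (FibCat.fp (FibCat.fpSnd f q) c) :=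
    isAlgStack_fp h𝒴₁.isStack h𝒴₁.diag h𝒳₁ hV (FibCat.fpSnd f q) c
  obtain ⟨U, d', hd'₁, hd'₂⟩ := h𝒜.atlas
  have hUg := isFibGrpd_overCat U
  obtain ⟨h, ⟨ιh⟩⟩ := exists_overMap_iso
    (BasedFunctor.comp d' (FibCat.fpSnd (FibCat.fpSnd f q) c))
  obtain ⟨κ⟩ := overMapComp h k
  -- the chart of `𝒳 ×_𝒴 V`
  have hR := isEquivOver_pasteR f q c
  have hd₁ : AlgSt.RepByAlgSpWith (AlgSp.LocP @Smooth)
      (BasedFunctor.comp d' (pasteR f q c)) := rep_comp_equiv _ d' _ hR hd'₁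
  have hd₂ : AlgSt.RepByAlgSpWith AlgSp.IsSurjectiveMor
      (BasedFunctor.comp d' (pasteR f q c)) := rep_comp_equiv _ d' _ hR hd'₂
  -- the chart of `𝒳 ×_𝒴 𝒴₁`
  have he₁ : AlgSt.RepByAlgSpWith (AlgSp.LocP @Smooth)
      (BasedFunctor.comp d' (FibCat.fpFst (FibCat.fpSnd f q) c)) :=
    good_smooth.toC.repComp hUg h𝒜.isStack.1 _ _ hd'₁ (repByAlgSpWith_fpFst _ c _ hc₁)
  have he₂ : AlgSt.RepByAlgSpWith AlgSp.IsSurjectiveMor
      (BasedFunctor.comp d' (FibCat.fpFst (FibCat.fpSnd f q) c)) :=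
    good_isSurjectiveMor.toC.repComp hUg h𝒜.isStack.1 _ _ hd'₂ (repByAlgSpWith_fpFst _ c _ hc₂)
  subst hq
  have hL := isEquivOver_pasteL f g z
  refine ⟨U, V, h, k, c, BasedFunctor.comp d' (pasteR f (FibCat.fpFst g z) c),
    BasedFunctor.comp (BasedFunctor.comp d' (FibCat.fpFst (FibCat.fpSnd f (FibCat.fpFst g z)) c))
      (pasteL f g z), hc₁, hc₂, hd₁, hd₂, rep_comp_equiv _ _ _ hL he₁, rep_comp_equiv _ _ _ hL he₂,
    ⟨ιk⟩, ⟨?_⟩, ⟨?_⟩, ?_⟩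
  · have e1 : BasedFunctor.comp (BasedFunctor.comp d' (pasteR f (FibCat.fpFst g z) c))
        (FibCat.fpSnd f (BasedFunctor.comp c (FibCat.fpFst g z))) =
        BasedFunctor.comp d' (FibCat.fpSnd (FibCat.fpSnd f (FibCat.fpFst g z)) c) := by
      apply basedFunctor_ext; rfl
    rw [e1]
    exact ιh
  · have e1 : BasedFunctor.comp (BasedFunctor.comp (BasedFunctor.comp d'
        (FibCat.fpFst (FibCat.fpSnd f (FibCat.fpFst g z)) c)) (pasteL f g z))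
        (FibCat.fpSnd (BasedFunctor.comp f g) z) =
        BasedFunctor.comp (BasedFunctor.comp d'
          (BasedFunctor.comp (FibCat.fpFst (FibCat.fpSnd f (FibCat.fpFst g z)) c)
            (FibCat.fpSnd f (FibCat.fpFst g z)))) (FibCat.fpSnd g z) := by
      apply basedFunctor_ext; rfl
    rw [e1]
    exact whiskerR (whiskerL d' (FibCat.fpIso (FibCat.fpSnd f (FibCat.fpFst g z)) c) ≪≫
      whiskerR ιh c) (FibCat.fpSnd g z) ≪≫ whiskerL (AlgSt.overMap h) ιk ≪≫ κ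
  · apply basedFunctor_ext; rfl

/-- surjectivity of a morphism of schemes read through a surjective chart and a surjective
projection -/
theorem surjective_of_overMap_iso {𝒬 : AlgSt.Cat S} (h𝒬 : FibCat.IsFibGrpd 𝒬.p) {U V : Over S}
    (d : FibCat.overCat U ⥤ᵇ 𝒬) (hd : AlgSt.RepByAlgSpWith AlgSp.IsSurjectiveMor d)
    (p : 𝒬 ⥤ᵇ FibCat.overCat V) (hp : AlgSt.IsSurjective p) (h : U ⟶ V)
    (ι : BasedFunctor.comp d p ≅ AlgSt.overMap h) : Function.Surjective h.left := by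
  intro v
  obtain ⟨w, hw⟩ := hp (chartPt V v)
  obtain ⟨u', hu'⟩ := isSurjective_of_rep h𝒬 d hd w
  obtain ⟨u, rfl⟩ := chartPt_surjective U u'
  refine ⟨u, ?_⟩
  apply chartPt_injective V
  rw [← chartPt_overMap, ← points_map_congr ι, points_map_comp, hu', hw]

/-- **Chart squares for a composite** with all the consequences of `LocQ` hypotheses. -/
theorem exists_comp_square (h𝒳 : AlgSt.IsAlgStack Scheme.fppfPrecoverage 𝒳)
    (h𝒴 : AlgSt.IsAlgStack Scheme.fppfPrecoverage 𝒴)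
    (h𝒵 : AlgSt.IsAlgStack Scheme.fppfPrecoverage 𝒵) (f : 𝒳 ⥤ᵇ 𝒴) (g : 𝒴 ⥤ᵇ 𝒵) :
    ∃ (U V W : Over S) (x : FibCat.overCat U ⥤ᵇ 𝒳) (y : FibCat.overCat V ⥤ᵇ 𝒴)
      (z : FibCat.overCat W ⥤ᵇ 𝒵) (h : U ⟶ V) (k : V ⟶ W)
      (_ : BasedFunctor.comp x f ≅ BasedFunctor.comp (AlgSt.overMap h) y)
      (_ : BasedFunctor.comp y g ≅ BasedFunctor.comp (AlgSt.overMap k) z)
      (_ : BasedFunctor.comp x (BasedFunctor.comp f g) ≅
        BasedFunctor.comp (AlgSt.overMap (h ≫ k)) z),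
      AlgSt.RepByAlgSpWith (AlgSp.LocP @Smooth) x ∧ AlgSt.RepByAlgSpWith AlgSp.IsSurjectiveMor x ∧
      AlgSt.RepByAlgSpWith (AlgSp.LocP @Smooth) y ∧ AlgSt.RepByAlgSpWith AlgSp.IsSurjectiveMor y ∧
      AlgSt.RepByAlgSpWith (AlgSp.LocP @Smooth) z ∧ AlgSt.RepByAlgSpWith AlgSp.IsSurjectiveMor z ∧
      (∀ P : MorphismProperty (AlgSp.Sp S), AlgSp.IsSmoothLocalST P → AlgSt.LocQ P f →
        P ((AlgSp.yon S).map h)) ∧
      (∀ P : MorphismProperty (AlgSp.Sp S), AlgSp.IsSmoothLocalST P → AlgSt.LocQ P g →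
        P ((AlgSp.yon S).map k)) ∧
      (∀ P : MorphismProperty (AlgSp.Sp S), AlgSp.IsSmoothLocalST P →
        AlgSt.LocQ P (BasedFunctor.comp f g) → P ((AlgSp.yon S).map (h ≫ k))) ∧
      (AlgSt.IsSurjective f → Function.Surjective h.left) ∧
      (AlgSt.IsSurjective g → Function.Surjective k.left) := by
  obtain ⟨W, z, hz₁, hz₂⟩ := h𝒵.atlas
  obtain ⟨U, V, h, k, c, d, d₂, hc₁, hc₂, hd₁, hd₂, hd₂₁, hd₂₂, ⟨ιk⟩, ⟨ιh⟩, ⟨ι₂⟩, hx⟩ :=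
    exists_double_chart h𝒳 h𝒴 h𝒵 f g z
  have hW := isAlgStack_overCat W
  have hVs := isAlgStack_overCat V
  have hVg := isFibGrpd_overCat V
  have hUg := isFibGrpd_overCat U
  have hfpg : AlgSt.IsAlgStack Scheme.fppfPrecoverage (FibCat.fp g z) :=
    isAlgStack_fp h𝒵.isStack h𝒵.diag h𝒴 hW g z
  have hy₁ : AlgSt.RepByAlgSpWith (AlgSp.LocP @Smooth)
      (BasedFunctor.comp c (FibCat.fpFst g z)) :=
    good_smooth.toC.repComp hVg hfpg.isStack.1 _ _ hc₁ (repByAlgSpWith_fpFst _ z g hz₁)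
  have hy₂ : AlgSt.RepByAlgSpWith AlgSp.IsSurjectiveMor
      (BasedFunctor.comp c (FibCat.fpFst g z)) :=
    good_isSurjectiveMor.toC.repComp hVg hfpg.isStack.1 _ _ hc₂ (repByAlgSpWith_fpFst _ z g hz₂)
  have hfpf : AlgSt.IsAlgStack Scheme.fppfPrecoverage
      (FibCat.fp f (BasedFunctor.comp c (FibCat.fpFst g z))) :=
    isAlgStack_fp h𝒴.isStack h𝒴.diag h𝒳 hVs f _
  have hx₁ : AlgSt.RepByAlgSpWith (AlgSp.LocP @Smooth)
      (BasedFunctor.comp d (FibCat.fpFst f (BasedFunctor.comp c (FibCat.fpFst g z)))) :=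
    good_smooth.toC.repComp hUg hfpf.isStack.1 _ _ hd₁ (repByAlgSpWith_fpFst _ _ f hy₁)
  have hx₂ : AlgSt.RepByAlgSpWith AlgSp.IsSurjectiveMor
      (BasedFunctor.comp d (FibCat.fpFst f (BasedFunctor.comp c (FibCat.fpFst g z)))) :=
    good_isSurjectiveMor.toC.repComp hUg hfpf.isStack.1 _ _ hd₂ (repByAlgSpWith_fpFst _ _ f hy₂)
  have γ : BasedFunctor.comp (BasedFunctor.comp d
      (FibCat.fpFst f (BasedFunctor.comp c (FibCat.fpFst g z)))) (BasedFunctor.comp f g) ≅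
      BasedFunctor.comp (AlgSt.overMap (h ≫ k)) z := by
    rw [← hx]
    exact whiskerL d₂ (FibCat.fpIso (BasedFunctor.comp f g) z) ≪≫ whiskerR ι₂ z
  refine ⟨U, V, W, BasedFunctor.comp d (FibCat.fpFst f _), BasedFunctor.comp c (FibCat.fpFst g z),
    z, h, k, whiskerL d (FibCat.fpIso f (BasedFunctor.comp c (FibCat.fpFst g z))) ≪≫
      whiskerR ιh (BasedFunctor.comp c (FibCat.fpFst g z)),
    whiskerL c (FibCat.fpIso g z) ≪≫ whiskerR ιk z, γ, hx₁, hx₂, hy₁, hy₂, hz₁, hz₂,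
    fun P hP hf => prop_of_locQ hP h𝒳 h𝒴 f hf _ hy₁ d hd₁ h ιh,
    fun P hP hg => prop_of_locQ hP h𝒴 h𝒵 g hg z hz₁ c hc₁ k ιk,
    fun P hP hfg => prop_of_locQ hP h𝒳 h𝒵 _ hfg z hz₁ d₂ hd₂₁ (h ≫ k) ι₂, ?_, ?_⟩
  · intro hf
    exact surjective_of_overMap_iso hfpf.isStack.1 d hd₂ _
      (isSurjective_fpSnd hVg h𝒴.isStack.1 h𝒳.isStack.1 _ f hf) h ιh
  · intro hg
    exact surjective_of_overMap_iso hfpg.isStack.1 c hc₂ _
      (isSurjective_fpSnd (isFibGrpd_overCat W) h𝒵.isStack.1 h𝒴.isStack.1 z g hg) k ιk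

/-- **S13038**: `LocQ` is stable under composition when `P` is. -/
theorem locQ_comp (hP : AlgSp.IsSmoothLocalST P)
    (hPc : ∀ ⦃X₁ Y₁ Z₁ : AlgSp.Sp S⦄, AlgSp.IsAlgSpace X₁ → AlgSp.IsAlgSpace Y₁ →
      AlgSp.IsAlgSpace Z₁ → ∀ (a : X₁ ⟶ Y₁) (b : Y₁ ⟶ Z₁), P a → P b → P (a ≫ b))
    (h𝒳 : AlgSt.IsAlgStack Scheme.fppfPrecoverage 𝒳)
    (h𝒴 : AlgSt.IsAlgStack Scheme.fppfPrecoverage 𝒴)
    (h𝒵 : AlgSt.IsAlgStack Scheme.fppfPrecoverage 𝒵) (f : 𝒳 ⥤ᵇ 𝒴) (g : 𝒴 ⥤ᵇ 𝒵)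
    (hf : AlgSt.LocQ P f) (hg : AlgSt.LocQ P g) : AlgSt.LocQ P (BasedFunctor.comp f g) := by
  obtain ⟨W, z, hz₁, hz₂⟩ := h𝒵.atlas
  obtain ⟨V, c, k, hc₁, hc₂, ⟨ιk⟩⟩ := exists_chart_fp h𝒴 h𝒵 g z
  have hW := isAlgStack_overCat W
  have hfpg : AlgSt.IsAlgStack Scheme.fppfPrecoverage (FibCat.fp g z) :=
    isAlgStack_fp h𝒵.isStack h𝒵.diag h𝒴 hW g z
  have hVg := isFibGrpd_overCat V
  have hy₁ : AlgSt.RepByAlgSpWith (AlgSp.LocP @Smooth)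
      (BasedFunctor.comp c (FibCat.fpFst g z)) :=
    good_smooth.toC.repComp hVg hfpg.isStack.1 _ _ hc₁ (repByAlgSpWith_fpFst _ z g hz₁)
  have hy₂ : AlgSt.RepByAlgSpWith AlgSp.IsSurjectiveMor
      (BasedFunctor.comp c (FibCat.fpFst g z)) :=
    good_isSurjectiveMor.toC.repComp hVg hfpg.isStack.1 _ _ hc₂ (repByAlgSpWith_fpFst _ z g hz₂)
  have hPk : P ((AlgSp.yon S).map k) := prop_of_locQ hP h𝒴 h𝒵 g hg z hz₁ c hc₁ k ιk
  obtain ⟨y, hydef⟩ : ∃ y : FibCat.overCat V ⥤ᵇ 𝒴, y = BasedFunctor.comp c (FibCat.fpFst g z) :=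
    ⟨_, rfl⟩
  rw [← hydef] at hy₁ hy₂
  obtain ⟨U, d, h, hd₁, hd₂, ⟨ιh⟩⟩ := exists_chart_fp h𝒳 h𝒴 f y
  have hVs := isAlgStack_overCat V
  have hfpf : AlgSt.IsAlgStack Scheme.fppfPrecoverage (FibCat.fp f y) :=
    isAlgStack_fp h𝒴.isStack h𝒴.diag h𝒳 hVs f y
  have hUg := isFibGrpd_overCat U
  have hPh : P ((AlgSp.yon S).map h) := prop_of_locQ hP h𝒳 h𝒴 f hf y hy₁ d hd₁ h ιh
  have hx₁ : AlgSt.RepByAlgSpWith (AlgSp.LocP @Smooth)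
      (BasedFunctor.comp d (FibCat.fpFst f y)) :=
    good_smooth.toC.repComp hUg hfpf.isStack.1 _ _ hd₁ (repByAlgSpWith_fpFst _ y f hy₁)
  have hx₂ : AlgSt.RepByAlgSpWith AlgSp.IsSurjectiveMor
      (BasedFunctor.comp d (FibCat.fpFst f y)) :=
    good_isSurjectiveMor.toC.repComp hUg hfpf.isStack.1 _ _ hd₂ (repByAlgSpWith_fpFst _ y f hy₂)
  obtain ⟨κ⟩ := overMapComp h k
  refine ⟨U, W, BasedFunctor.comp d (FibCat.fpFst f y), z, h ≫ k, ?_, hx₁, hx₂, hz₁, ?_⟩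
  · have e1 : BasedFunctor.comp (BasedFunctor.comp d (FibCat.fpFst f y)) (BasedFunctor.comp f g) ≅
        BasedFunctor.comp (BasedFunctor.comp (AlgSt.overMap h) y) g :=
      whiskerR (whiskerL d (FibCat.fpIso f y) ≪≫ whiskerR ιh y) g
    have e2 : BasedFunctor.comp (BasedFunctor.comp (AlgSt.overMap h) y) g ≅
        BasedFunctor.comp (AlgSt.overMap h) (BasedFunctor.comp (AlgSt.overMap k) z) := by
      rw [hydef]
      exact whiskerL (AlgSt.overMap h) (whiskerL c (FibCat.fpIso g z) ≪≫ whiskerR ιk z)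
    exact e1 ≪≫ e2 ≪≫ whiskerR κ z
  · rw [Functor.map_comp]
    exact hPc (AlgSp.IsAlgSpace.yon_obj U) (AlgSp.IsAlgSpace.yon_obj V)
      (AlgSp.IsAlgSpace.yon_obj W) _ _ hPh hPk

end Groth.Agent.H3.AlgStLocQ
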