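import Mathlib
import Groth.Agent.Lib.Helper3.AlgSt.LocQ5
import Groth.Agent.Lib.Helper5.EtSrc.OfComp

/-!
# `LocQ`: cancellation properties (helper3)
-/

set_option autoImplicit false
universe u
open CategoryTheory CategoryTheory.Functor CategoryTheory.Limits Opposite AlgebraicGeometry

noncomputable section

namespace Groth.Agent.H3.AlgStLocQ

open Groth.Agent.H3.FibCatAux Groth.Agent.H3.GerbAux Groth.Agent.H3.FpCalc Groth.Agent.H3.TwoCart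
  Groth.Agent.H3.StackPsh Groth.Agent.H3.PshBridge Groth.Agent.H3.AlgStAux Groth.Agent.H3.RepBridge
  Groth.Agent.H3.SetoidPsh Groth.Agent.H3.BaseChangeSp Groth.Agent.H3.AlgStComp
  Groth.Agent.H3.AlgStProps Groth.Agent.H3.AlgStBridge2 Groth.Agent.H3.AlgStCharts
  Groth.Agent.H3.AlgStDescent Groth.Agent.H3.Whisker Groth.Agent.H3.AlgStLES
  Groth.Agent.H3.FPtRel Groth.Agent.H3.AlgStStackRep Groth.Agent.H3.TwoYoneda
  Groth.Agent.H3.AlgStPoints Groth.Agent.H3.AlgStAlgebraic Groth.Agent.H3.AlgStQCMor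
  Groth.Agent.H3.AlgStSmoothLoc Groth.Agent.H3.SmSrc

variable {S : Scheme.{u}} {𝒳 𝒴 𝒵 : AlgSt.Cat S} {P : MorphismProperty (AlgSp.Sp S)}

/-- **S13002**: if `f ≫ g` is locally of finite type then so is `f`. -/
theorem locQ_lft_of_comp (h𝒳 : AlgSt.IsAlgStack Scheme.fppfPrecoverage 𝒳)
    (h𝒴 : AlgSt.IsAlgStack Scheme.fppfPrecoverage 𝒴)
    (h𝒵 : AlgSt.IsAlgStack Scheme.fppfPrecoverage 𝒵) (f : 𝒳 ⥤ᵇ 𝒴) (g : 𝒴 ⥤ᵇ 𝒵)
    (hfg : AlgSt.LocQ (AlgSp.LocP @LocallyOfFiniteType) (BasedFunctor.comp f g)) :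
    AlgSt.LocQ (AlgSp.LocP @LocallyOfFiniteType) f := by
  obtain ⟨U, V, W, x, y, z, h, k, α, β, γ, hx₁, hx₂, hy₁, hy₂, hz₁, hz₂, hPf, hPg, hPfg, hsf, hsg⟩ :=
    exists_comp_square h𝒳 h𝒴 h𝒵 f g
  have h1 := hPfg _ isSmoothLocalST_lft hfg
  rw [Groth.Agent.H5.AlgSp.locP_yon_map_iff Groth.Agent.H3.AlgSpCov.etale_le_lft] at h1
  refine ⟨U, V, x, y, h, α, hx₁, hx₂, hy₁, ?_⟩
  rw [Groth.Agent.H5.AlgSp.locP_yon_map_iff Groth.Agent.H3.AlgSpCov.etale_le_lft]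
  rw [Over.comp_left] at h1
  exact locallyOfFiniteType_of_comp h.left k.left

/-- **S13005**: if `f ≫ g` is locally of finite presentation and `g` locally of finite type then
`f` is locally of finite presentation. -/
theorem locQ_lfp_of_comp (h𝒳 : AlgSt.IsAlgStack Scheme.fppfPrecoverage 𝒳)
    (h𝒴 : AlgSt.IsAlgStack Scheme.fppfPrecoverage 𝒴)
    (h𝒵 : AlgSt.IsAlgStack Scheme.fppfPrecoverage 𝒵) (f : 𝒳 ⥤ᵇ 𝒴) (g : 𝒴 ⥤ᵇ 𝒵)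
    (hfg : AlgSt.LocQ (AlgSp.LocP @LocallyOfFinitePresentation) (BasedFunctor.comp f g))
    (hg : AlgSt.LocQ (AlgSp.LocP @LocallyOfFiniteType) g) :
    AlgSt.LocQ (AlgSp.LocP @LocallyOfFinitePresentation) f := by
  obtain ⟨U, V, W, x, y, z, h, k, α, β, γ, hx₁, hx₂, hy₁, hy₂, hz₁, hz₂, hPf, hPg, hPfg, hsf, hsg⟩ :=
    exists_comp_square h𝒳 h𝒴 h𝒵 f g
  have h1 := hPfg _ isSmoothLocalST_lfp hfg
  have h2 := hPg _ isSmoothLocalST_lft hg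
  rw [Groth.Agent.H5.AlgSp.locP_yon_map_iff Groth.Agent.H5.AlgSp.etale_le_lfp] at h1
  rw [Groth.Agent.H5.AlgSp.locP_yon_map_iff Groth.Agent.H3.AlgSpCov.etale_le_lft] at h2
  refine ⟨U, V, x, y, h, α, hx₁, hx₂, hy₁, ?_⟩
  rw [Groth.Agent.H5.AlgSp.locP_yon_map_iff Groth.Agent.H5.AlgSp.etale_le_lfp]
  rw [Over.comp_left] at h1
  exact Groth.Agent.H5.EtSrc.locallyOfFinitePresentation_of_comp h.left k.left h1 h2

/-- **S13004**: if `f` is flat and surjective and `f ≫ g` is flat then `g` is flat. -/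
theorem locQ_flat_of_comp (h𝒳 : AlgSt.IsAlgStack Scheme.fppfPrecoverage 𝒳)
    (h𝒴 : AlgSt.IsAlgStack Scheme.fppfPrecoverage 𝒴)
    (h𝒵 : AlgSt.IsAlgStack Scheme.fppfPrecoverage 𝒵) (f : 𝒳 ⥤ᵇ 𝒴) (g : 𝒴 ⥤ᵇ 𝒵)
    (hf₁ : AlgSt.LocQ (AlgSp.LocP @Flat) f) (hf₂ : AlgSt.IsSurjective f)
    (hfg : AlgSt.LocQ (AlgSp.LocP @Flat) (BasedFunctor.comp f g)) :
    AlgSt.LocQ (AlgSp.LocP @Flat) g := by
  obtain ⟨U, V, W, x, y, z, h, k, α, β, γ, hx₁, hx₂, hy₁, hy₂, hz₁, hz₂, hPf, hPg, hPfg, hsf, hsg⟩ :=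
    exists_comp_square h𝒳 h𝒴 h𝒵 f g
  have h1 := hPfg _ isSmoothLocalST_flat hfg
  have h2 := hPf _ isSmoothLocalST_flat hf₁
  have h3 := hsf hf₂
  rw [Groth.Agent.H5.AlgSp.locP_yon_map_iff Groth.Agent.H5.AlgSp.etale_le_flat] at h1 h2
  refine ⟨V, W, y, z, k, β, hy₁, hy₂, hz₁, ?_⟩
  rw [Groth.Agent.H5.AlgSp.locP_yon_map_iff Groth.Agent.H5.AlgSp.etale_le_flat]
  rw [Over.comp_left] at h1
  exact Groth.Agent.H3.AlgSpCov.flat_of_flat_family k.left (K := PUnit.{1}) (fun _ => U.left)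
    (fun _ => h.left) (fun _ => h2) (fun v => ⟨⟨⟩, h3 v⟩) (fun _ => h1)

end Groth.Agent.H3.AlgStLocQ
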