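import Mathlib
import Groth.Agent.Lib.Helper3.AlgSt.LocQ6

/-!
# `LocQ`: base change (helper3)
-/

set_option autoImplicit false
universe u
open CategoryTheory CategoryTheory.Functor CategoryTheory.Limits Opposite AlgebraicGeometry

noncomputable section

namespace Groth.Agent.H3.AlgStLocQ

open Groth.Agent.H3.FibCatAux Groth.Agent.H3.GerbAux Groth.Agent.H3.FpCalc Groth.Agent.H3.TwoCart
  Groth.Agent.H3.StackPsh Groth.Agent.H3.PshBridge Groth.Agent.H3.AlgStAux Groth.Agent.H3.RepBridge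
  Groth.Agent.H3.SetoidPsh Groth.Agent.H3.BaseChangeSp Groth.Agent.H3.AlgStComp
  Groth.Agent.H3.AlgStProps Groth.Agent.H3.AlgStBridge2 Groth.Agent.H3.AlgStCharts
  Groth.Agent.H3.AlgStDescent Groth.Agent.H3.Whisker Groth.Agent.H3.AlgStLES
  Groth.Agent.H3.FPtRel Groth.Agent.H3.AlgStStackRep Groth.Agent.H3.TwoYoneda
  Groth.Agent.H3.AlgStPoints Groth.Agent.H3.AlgStAlgebraic Groth.Agent.H3.AlgStQCMor
  Groth.Agent.H3.AlgStSmoothLoc Groth.Agent.H3.SmSrc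

variable {S : Scheme.{u}} {𝒳 𝒴 𝒵 : AlgSt.Cat S} {P : MorphismProperty (AlgSp.Sp S)}

/-- **The base-change cube**: a chart `c : U ⟶ V ×_𝒴 𝒳` lying over `h : U ⟶ V`, a chart
`w' : W ⟶ 𝒴'` lying over `k : W ⟶ V`, and the fibre product `Z = W ×_V U` give a chart
`e : Z ⟶ W ×_{𝒴'} (𝒴' ×_𝒴 𝒳)` (with all the properties of `c`) lying over `Z ⟶ W`. -/
theorem exists_bc_chart {𝒴' : AlgSt.Cat S} (f : 𝒳 ⥤ᵇ 𝒴) (g : 𝒴' ⥤ᵇ 𝒴)
    {U V W : Over S} (y : FibCat.overCat V ⥤ᵇ 𝒴) (c : FibCat.overCat U ⥤ᵇ FibCat.fp y f)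
    (h : U ⟶ V) (ιh : BasedFunctor.comp c (FibCat.fpFst y f) ≅ AlgSt.overMap h)
    (w' : FibCat.overCat W ⥤ᵇ 𝒴') (k : W ⟶ V)
    (κ : BasedFunctor.comp w' g ≅ BasedFunctor.comp (AlgSt.overMap k) y)
    {Z : AlgSp.Sp S} (fst : Z ⟶ (AlgSp.yon S).obj W) (snd : Z ⟶ (AlgSp.yon S).obj U)
    (sq : IsPullback fst snd ((AlgSp.yon S).map k) ((AlgSp.yon S).map h)) :
    ∃ e : AlgSt.ofSp Z ⥤ᵇ FibCat.fp w' (FibCat.fpFst g f),
      (∀ Q : MorphismProperty (AlgSp.Sp S), AlgSt.RepByAlgSpWith Q c → AlgSt.RepByAlgSpWith Q e) ∧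
      Nonempty (BasedFunctor.comp e (FibCat.fpFst w' (FibCat.fpFst g f)) ≅
        BasedFunctor.comp (AlgSt.ofSpMap fst) (RepBridge.toOver W)) := by
  have hfull : (BasedFunctor.id 𝒴).toFunctor.Full := Functor.Full.id
  have hfaith : (BasedFunctor.id 𝒴).toFunctor.Faithful := Functor.Faithful.id
  have hfullV : (BasedFunctor.id (FibCat.overCat V)).toFunctor.Full := Functor.Full.id
  have hfaithV : (BasedFunctor.id (FibCat.overCat V)).toFunctor.Faithful := Functor.Faithful.id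
  -- (1) `W ×_{𝒴'} (𝒴' ×_𝒴 𝒳) ≃ W ×_𝒴 𝒳`
  obtain ⟨R1, hR1, -, ⟨e1⟩⟩ := isEquivOver_symm (isEquivOver_pasteL w' g f)
  -- (2) change of the structure map of `W`
  let α2 : BasedFunctor.comp (BasedFunctor.comp (AlgSt.overMap k) y) (BasedFunctor.id 𝒴) ≅
      BasedFunctor.comp (BasedFunctor.id (FibCat.overCat W)) (BasedFunctor.comp w' g) := κ.symm
  let M2 := fpMap (F' := BasedFunctor.comp (AlgSt.overMap k) y) (G' := f)
    (F := BasedFunctor.comp w' g) (G := f) (BasedFunctor.id (FibCat.overCat W))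
    (BasedFunctor.id 𝒳) (BasedFunctor.id 𝒴) α2 (idSq f)
  have hM2 : FibCat.IsEquivOver M2 := isEquivOver_fpMap _ _ _ α2 (idSq f) isEquivOver_id isEquivOver_id
  -- (3) `W ×_V (V ×_𝒴 𝒳) ≃ W ×_𝒴 𝒳`
  have hL3 := isEquivOver_pasteL (AlgSt.overMap k) y f
  -- (4) base change of the chart `c`
  obtain ⟨q, hq⟩ : ∃ q : FibCat.fp (AlgSt.overMap k) (FibCat.fpFst y f) ⥤ᵇ FibCat.fp y f,
    q = FibCat.fpSnd (AlgSt.overMap k) (FibCat.fpFst y f) := ⟨_, rfl⟩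
  -- (5) `(W ×_V (V ×_𝒴 𝒳)) ×_{V ×_𝒴 𝒳} U ≃ W ×_V U`
  have hR5 := isEquivOver_pasteR (AlgSt.overMap k) (FibCat.fpFst y f) c
  obtain ⟨R5', hR5', -, ⟨e5⟩⟩ := isEquivOver_symm hR5
  -- (6) change of the structure map of `U`
  let β6 : BasedFunctor.comp (AlgSt.overMap h) (BasedFunctor.id (FibCat.overCat V)) ≅
      BasedFunctor.comp (BasedFunctor.id (FibCat.overCat U))
        (BasedFunctor.comp c (FibCat.fpFst y f)) := ιh.symm
  let M6 := fpMap (F' := AlgSt.overMap k) (G' := AlgSt.overMap h) (F := AlgSt.overMap k)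
    (G := BasedFunctor.comp c (FibCat.fpFst y f)) (BasedFunctor.id (FibCat.overCat W))
    (BasedFunctor.id (FibCat.overCat U)) (BasedFunctor.id (FibCat.overCat V))
    (idSq (AlgSt.overMap k)) β6
  have hM6 : FibCat.IsEquivOver M6 :=
    isEquivOver_fpMap _ _ _ (idSq (AlgSt.overMap k)) β6 isEquivOver_id isEquivOver_id
  -- (7) the fibre product of schemes
  have sq' : IsPullback fst snd ((AlgSp.yon S).map k)
      (AlgSt.spMapOfOver (BasedFunctor.comp (RepBridge.toOver U) (AlgSt.overMap h))) := by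
    rw [spMapOfOver_comp_overMap]
    have h2 : AlgSt.spMapOfOver (RepBridge.toOver U) = 𝟙 _ := spMapOfOver_toOverCat U
    rw [h2, Category.id_comp]
    exact sq
  obtain ⟨e_W, he_W, -, hW1⟩ := exists_equiv_fp_of_isPullback k (AlgSt.overMap h)
    ((AlgSp.yon S).obj U) (RepBridge.toOver U) (isEquivOver_toOver U) fst snd sq'
  subst hq
  -- assemble
  obtain ⟨pre, hpre⟩ : ∃ pre : AlgSt.ofSp Z ⥤ᵇ
      FibCat.fp (FibCat.fpSnd (AlgSt.overMap k) (FibCat.fpFst y f)) c,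
      pre = BasedFunctor.comp (BasedFunctor.comp e_W M6) R5' := ⟨_, rfl⟩
  have hpreE : FibCat.IsEquivOver pre := by
    rw [hpre]
    exact isEquivOver_comp _ _ (isEquivOver_comp _ _ he_W hM6) hR5'
  obtain ⟨post, hpost⟩ : ∃ post : FibCat.fp (AlgSt.overMap k) (FibCat.fpFst y f) ⥤ᵇ
      FibCat.fp w' (FibCat.fpFst g f),
      post = BasedFunctor.comp (BasedFunctor.comp (pasteL (AlgSt.overMap k) y f) M2) R1 := ⟨_, rfl⟩
  have hpostE : FibCat.IsEquivOver post := by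
    rw [hpost]
    exact isEquivOver_comp _ _ (isEquivOver_comp _ _ hL3 hM2) hR1
  refine ⟨BasedFunctor.comp (BasedFunctor.comp pre
    (FibCat.fpFst (FibCat.fpSnd (AlgSt.overMap k) (FibCat.fpFst y f)) c)) post, ?_, ⟨?_⟩⟩
  · intro Q hc
    refine rep_comp_equiv Q _ post hpostE ?_
    rw [repByAlgSpWith_comp_equiv_iff Q pre hpreE]
    exact repByAlgSpWith_fpFst Q c _ hc
  · -- the first projection
    have T1 : BasedFunctor.comp R1 (FibCat.fpFst w' (FibCat.fpFst g f)) ≅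
        FibCat.fpFst (BasedFunctor.comp w' g) f := by
      have h1 : BasedFunctor.comp R1 (FibCat.fpFst w' (FibCat.fpFst g f)) =
          BasedFunctor.comp (BasedFunctor.comp R1 (pasteL w' g f))
            (FibCat.fpFst (BasedFunctor.comp w' g) f) := by
        rw [← pasteL_comp_fpFst w' g f]; rfl
      exact eqToIso h1 ≪≫ whiskerR e1 (FibCat.fpFst (BasedFunctor.comp w' g) f)
    have T2 : BasedFunctor.comp post (FibCat.fpFst w' (FibCat.fpFst g f)) ≅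
        FibCat.fpFst (AlgSt.overMap k) (FibCat.fpFst y f) := by
      have h2 : BasedFunctor.comp (BasedFunctor.comp (pasteL (AlgSt.overMap k) y f) M2)
          (FibCat.fpFst (BasedFunctor.comp w' g) f) =
          FibCat.fpFst (AlgSt.overMap k) (FibCat.fpFst y f) := by
        apply basedFunctor_ext; rfl
      rw [hpost]
      exact whiskerL (BasedFunctor.comp (pasteL (AlgSt.overMap k) y f) M2) T1 ≪≫ eqToIso h2
    have T3 : BasedFunctor.comp (FibCat.fpFst (FibCat.fpSnd (AlgSt.overMap k) (FibCat.fpFst y f)) c)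
        (FibCat.fpFst (AlgSt.overMap k) (FibCat.fpFst y f)) =
        BasedFunctor.comp (pasteR (AlgSt.overMap k) (FibCat.fpFst y f) c)
          (FibCat.fpFst (AlgSt.overMap k) (BasedFunctor.comp c (FibCat.fpFst y f))) := by
      apply basedFunctor_ext; rfl
    have T4 : BasedFunctor.comp R5' (BasedFunctor.comp
        (FibCat.fpFst (FibCat.fpSnd (AlgSt.overMap k) (FibCat.fpFst y f)) c)
        (FibCat.fpFst (AlgSt.overMap k) (FibCat.fpFst y f))) ≅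
        FibCat.fpFst (AlgSt.overMap k) (BasedFunctor.comp c (FibCat.fpFst y f)) := by
      rw [T3]
      exact whiskerR e5 (FibCat.fpFst (AlgSt.overMap k) (BasedFunctor.comp c (FibCat.fpFst y f)))
    have T5 : BasedFunctor.comp M6
        (FibCat.fpFst (AlgSt.overMap k) (BasedFunctor.comp c (FibCat.fpFst y f))) =
        FibCat.fpFst (AlgSt.overMap k) (AlgSt.overMap h) := by
      apply basedFunctor_ext; rfl
    have T6 : BasedFunctor.comp pre (BasedFunctor.comp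
        (FibCat.fpFst (FibCat.fpSnd (AlgSt.overMap k) (FibCat.fpFst y f)) c)
        (FibCat.fpFst (AlgSt.overMap k) (FibCat.fpFst y f))) ≅
        BasedFunctor.comp (AlgSt.ofSpMap fst) (RepBridge.toOver W) := by
      rw [hpre, ← hW1, ← T5]
      exact whiskerL (BasedFunctor.comp e_W M6) T4
    exact whiskerL (BasedFunctor.comp pre
      (FibCat.fpFst (FibCat.fpSnd (AlgSt.overMap k) (FibCat.fpFst y f)) c)) T2 ≪≫ T6

/-- **S13039**: `LocQ` is stable under base change when `P` is. -/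
theorem locQ_fpFst {𝒴' : AlgSt.Cat S} (hP : AlgSp.IsSmoothLocalST P)
    (hPb : ∀ ⦃X₁ Y₁ X₂ Y₂ : AlgSp.Sp S⦄, AlgSp.IsAlgSpace X₁ → AlgSp.IsAlgSpace Y₁ →
      AlgSp.IsAlgSpace X₂ → AlgSp.IsAlgSpace Y₂ → ∀ (a : X₁ ⟶ Y₁) (b : Y₂ ⟶ Y₁) (a' : X₂ ⟶ Y₂)
      (b' : X₂ ⟶ X₁), IsPullback b' a' a b → P a → P a')
    (h𝒳 : AlgSt.IsAlgStack Scheme.fppfPrecoverage 𝒳)
    (h𝒴 : AlgSt.IsAlgStack Scheme.fppfPrecoverage 𝒴)
    (h𝒴' : AlgSt.IsAlgStack Scheme.fppfPrecoverage 𝒴')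
    (f : 𝒳 ⥤ᵇ 𝒴) (g : 𝒴' ⥤ᵇ 𝒴) (hf : AlgSt.LocQ P f) : AlgSt.LocQ P (FibCat.fpFst g f) := by
  obtain ⟨V, y, hy₁, hy₂⟩ := h𝒴.atlas
  have hVs := isAlgStack_overCat V
  -- the chart of `𝒴'`
  obtain ⟨W, c', k, hc'₁, hc'₂, ⟨ιk⟩⟩ := exists_chart_fp h𝒴' h𝒴 g y
  have hWg := isFibGrpd_overCat W
  have hWs := isAlgStack_overCat W
  have hfpgy : AlgSt.IsAlgStack Scheme.fppfPrecoverage (FibCat.fp g y) :=
    isAlgStack_fp h𝒴.isStack h𝒴.diag h𝒴' hVs g y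
  have hw'₁ : AlgSt.RepByAlgSpWith (AlgSp.LocP @Smooth)
      (BasedFunctor.comp c' (FibCat.fpFst g y)) :=
    good_smooth.toC.repComp hWg hfpgy.isStack.1 _ _ hc'₁ (repByAlgSpWith_fpFst _ y g hy₁)
  have hw'₂ : AlgSt.RepByAlgSpWith AlgSp.IsSurjectiveMor
      (BasedFunctor.comp c' (FibCat.fpFst g y)) :=
    good_isSurjectiveMor.toC.repComp hWg hfpgy.isStack.1 _ _ hc'₂ (repByAlgSpWith_fpFst _ y g hy₂)
  have κ : BasedFunctor.comp (BasedFunctor.comp c' (FibCat.fpFst g y)) g ≅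
      BasedFunctor.comp (AlgSt.overMap k) y :=
    whiskerL c' (FibCat.fpIso g y) ≪≫ whiskerR ιk y
  obtain ⟨w', hw'def⟩ : ∃ w' : FibCat.overCat W ⥤ᵇ 𝒴', w' = BasedFunctor.comp c' (FibCat.fpFst g y) :=
    ⟨_, rfl⟩
  rw [← hw'def] at hw'₁ hw'₂ κ
  -- the chart of `V ×_𝒴 𝒳`
  have hfpyf : AlgSt.IsAlgStack Scheme.fppfPrecoverage (FibCat.fp y f) :=
    isAlgStack_fp h𝒴.isStack h𝒴.diag hVs h𝒳 y f
  obtain ⟨U, c, hc₁, hc₂⟩ := hfpyf.atlas
  obtain ⟨h, ⟨ιh⟩⟩ := exists_overMap_iso (BasedFunctor.comp c (FibCat.fpFst y f))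
  have hPh : P ((AlgSp.yon S).map h) := prop_of_locQ' hP h𝒳 h𝒴 f hf y hy₁ c hc₁ h ιh
  -- the fibre product
  obtain ⟨Z, hZdef⟩ : ∃ Z : AlgSp.Sp S, Z = pullback ((AlgSp.yon S).map k) ((AlgSp.yon S).map h) :=
    ⟨_, rfl⟩
  obtain ⟨fst, snd, sq⟩ : ∃ (fst : Z ⟶ (AlgSp.yon S).obj W) (snd : Z ⟶ (AlgSp.yon S).obj U),
      IsPullback fst snd ((AlgSp.yon S).map k) ((AlgSp.yon S).map h) := by
    subst hZdef
    exact ⟨_, _, IsPullback.of_hasPullback _ _⟩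
  have hZ : AlgSp.IsAlgSpace Z :=
    Groth.Agent.H5.AlgSp.isAlgSpace_pullback (AlgSp.IsAlgSpace.yon_obj V).diag
      (AlgSp.IsAlgSpace.yon_obj W) (AlgSp.IsAlgSpace.yon_obj U) sq
  have hPfst : P fst := hPb (AlgSp.IsAlgSpace.yon_obj U) (AlgSp.IsAlgSpace.yon_obj V) hZ
    (AlgSp.IsAlgSpace.yon_obj W) _ _ _ _ sq.flip hPh
  obtain ⟨e, he, ⟨ιe⟩⟩ := exists_bc_chart f g y c h ιh w' k κ fst snd sq
  -- the square of space charts
  have hfpgf : AlgSt.IsAlgStack Scheme.fppfPrecoverage (FibCat.fp g f) :=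
    isAlgStack_fp h𝒴.isStack h𝒴.diag h𝒴' h𝒳 g f
  have hfpw : AlgSt.IsAlgStack Scheme.fppfPrecoverage (FibCat.fp w' (FibCat.fpFst g f)) :=
    isAlgStack_fp h𝒴'.isStack h𝒴'.diag hWs hfpgf w' (FibCat.fpFst g f)
  have hZg : FibCat.IsFibGrpd (AlgSt.ofSp Z).p := Stk.isFibGrpd_ofPsh _
  obtain ⟨tW, htW⟩ : ∃ tW : AlgSt.ofSp ((AlgSp.yon S).obj W) ⥤ᵇ FibCat.overCat W,
    tW = RepBridge.toOver W := ⟨_, rfl⟩
  have htWe : FibCat.IsEquivOver tW := htW ▸ isEquivOver_toOver W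
  rw [← htW] at ιe
  refine locQ_of_space_square hP (FibCat.fpFst g f) ⟨Z, hZ⟩
    ⟨(AlgSp.yon S).obj W, AlgSp.IsAlgSpace.yon_obj W⟩
    (BasedFunctor.comp e (FibCat.fpSnd w' (FibCat.fpFst g f))) (BasedFunctor.comp tW w')
    (ObjectProperty.homMk fst) ?_ ?_ ?_ ?_ hPfst
  · exact whiskerL e (FibCat.fpIso w' (FibCat.fpFst g f)).symm ≪≫ whiskerR ιe w'
  · exact good_smooth.toC.repComp hZg hfpw.isStack.1 _ _ (he _ hc₁)
      (repByAlgSpWith_fpSnd _ w' (FibCat.fpFst g f) hw'₁)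
  · exact good_isSurjectiveMor.toC.repComp hZg hfpw.isStack.1 _ _ (he _ hc₂)
      (repByAlgSpWith_fpSnd _ w' (FibCat.fpFst g f) hw'₂)
  · exact (repByAlgSpWith_comp_equiv_iff _ tW htWe w').2 hw'₁

end Groth.Agent.H3.AlgStLocQ
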