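import Mathlib
import Groth.Agent.Lib.Helper3.AlgSt.LocQ7

/-!
# `LocQ`: descent along flat covers (helper3)
-/

set_option autoImplicit false
universe u
open CategoryTheory CategoryTheory.Functor CategoryTheory.Limits Opposite AlgebraicGeometry

noncomputable section

namespace Groth.Agent.H3.AlgStLocQ

open Groth.Agent.H3.FibCatAux Groth.Agent.H3.GerbAux Groth.Agent.H3.FpCalc Groth.Agent.H3.TwoCart
  Groth.Agent.H3.StackPsh Groth.Agent.H3.PshBridge Groth.Agent.H3.AlgStAux Groth.Agent.H3.RepBridge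
  Groth.Agent.H3.SetoidPsh Groth.Agent.H3.BaseChangeSp Groth.Agent.H3.AlgStComp
  Groth.Agent.H3.AlgStProps Groth.Agent.H3.AlgStBridge2 Groth.Agent.H3.AlgStCharts
  Groth.Agent.H3.AlgStDescent Groth.Agent.H3.Whisker Groth.Agent.H3.AlgStLES
  Groth.Agent.H3.FPtRel Groth.Agent.H3.AlgStStackRep Groth.Agent.H3.TwoYoneda
  Groth.Agent.H3.AlgStPoints Groth.Agent.H3.AlgStAlgebraic Groth.Agent.H3.AlgStQCMor
  Groth.Agent.H3.AlgStSmoothLoc Groth.Agent.H3.SmSrc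

variable {S : Scheme.{u}} {𝒳 𝒴 𝒵 : AlgSt.Cat S} {P : MorphismProperty (AlgSp.Sp S)}

lemma points_map_yon_surjective {W V : Over S} (k : W ⟶ V) (hk : Function.Surjective k.left) :
    Function.Surjective (AlgSp.Points.map ((AlgSp.yon S).map k)) := by
  intro x
  obtain ⟨v, rfl⟩ := Groth.Agent.H5.AlgSp.ofScheme_surjective V x
  obtain ⟨w, rfl⟩ := hk v
  refine ⟨AlgSp.Points.ofScheme W w, ?_⟩
  rw [← AlgSp.Points.ofPt_eq_map_ofScheme]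
  have := Groth.Agent.H5.AlgSp.ofPt_yon_map_comp k (𝟙 _) w
  rw [Category.comp_id] at this
  exact this

theorem isLocalOnBase_fppf_of_fpqc {Q : MorphismProperty (AlgSp.Sp S)}
    (h : AlgSp.IsLocalOnBase (AlgSp.IsFpqcCover (S := S)) Q) :
    AlgSp.IsLocalOnBase (AlgSp.IsFppfCover (S := S)) Q := by
  intro ι Y Yi g hY hYi hcov
  exact h Yi g hY hYi (Groth.Agent.H3.AlgSpCov.isFpqcCover_of_isFppfCover hY Yi hYi g hcov)

/-- **Chart squares for a base change**: charts `U → 𝒳`, `V → 𝒴`, `W → 𝒵` with `h : U → V` over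
`f`, `k : W → V` over `z`, and the fibre product `Z = W ×_V U`, whose projection to `W` reads the
properties of `𝒵 ×_𝒴 𝒳 → 𝒵`. -/
theorem exists_bc_square (h𝒳 : AlgSt.IsAlgStack Scheme.fppfPrecoverage 𝒳)
    (h𝒴 : AlgSt.IsAlgStack Scheme.fppfPrecoverage 𝒴)
    (h𝒵 : AlgSt.IsAlgStack Scheme.fppfPrecoverage 𝒵) (f : 𝒳 ⥤ᵇ 𝒴) (z : 𝒵 ⥤ᵇ 𝒴) :
    ∃ (U V W Z : Over S) (x : FibCat.overCat U ⥤ᵇ 𝒳) (y : FibCat.overCat V ⥤ᵇ 𝒴)
      (w : FibCat.overCat W ⥤ᵇ 𝒵) (h : U ⟶ V) (k : W ⟶ V) (fst : Z ⟶ W) (snd : Z ⟶ U)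
      (_ : BasedFunctor.comp x f ≅ BasedFunctor.comp (AlgSt.overMap h) y)
      (_ : BasedFunctor.comp w z ≅ BasedFunctor.comp (AlgSt.overMap k) y),
      IsPullback fst snd k h ∧
      AlgSt.RepByAlgSpWith (AlgSp.LocP @Smooth) x ∧ AlgSt.RepByAlgSpWith AlgSp.IsSurjectiveMor x ∧
      AlgSt.RepByAlgSpWith (AlgSp.LocP @Smooth) y ∧ AlgSt.RepByAlgSpWith AlgSp.IsSurjectiveMor y ∧
      AlgSt.RepByAlgSpWith (AlgSp.LocP @Smooth) w ∧ AlgSt.RepByAlgSpWith AlgSp.IsSurjectiveMor w ∧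
      (∀ P : MorphismProperty (AlgSp.Sp S), AlgSp.IsSmoothLocalST P → AlgSt.LocQ P f →
        P ((AlgSp.yon S).map h)) ∧
      (∀ P : MorphismProperty (AlgSp.Sp S), AlgSp.IsSmoothLocalST P → AlgSt.LocQ P z →
        P ((AlgSp.yon S).map k)) ∧
      (AlgSt.IsSurjective f → Function.Surjective h.left) ∧
      (AlgSt.IsSurjective z → Function.Surjective k.left) ∧
      (∀ P : MorphismProperty (AlgSp.Sp S), AlgSp.IsSmoothLocalST P →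
        AlgSt.LocQ P (FibCat.fpFst z f) → P ((AlgSp.yon S).map fst)) := by
  obtain ⟨V, y, hy₁, hy₂⟩ := h𝒴.atlas
  have hVs := isAlgStack_overCat V
  have hVg := isFibGrpd_overCat V
  -- the chart of `𝒵`
  obtain ⟨W, c', k, hc'₁, hc'₂, ⟨ιk⟩⟩ := exists_chart_fp h𝒵 h𝒴 z y
  have hWg := isFibGrpd_overCat W
  have hWs := isAlgStack_overCat W
  have hfpzy : AlgSt.IsAlgStack Scheme.fppfPrecoverage (FibCat.fp z y) :=
    isAlgStack_fp h𝒴.isStack h𝒴.diag h𝒵 hVs z y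
  have hw₁ : AlgSt.RepByAlgSpWith (AlgSp.LocP @Smooth)
      (BasedFunctor.comp c' (FibCat.fpFst z y)) :=
    good_smooth.toC.repComp hWg hfpzy.isStack.1 _ _ hc'₁ (repByAlgSpWith_fpFst _ y z hy₁)
  have hw₂ : AlgSt.RepByAlgSpWith AlgSp.IsSurjectiveMor
      (BasedFunctor.comp c' (FibCat.fpFst z y)) :=
    good_isSurjectiveMor.toC.repComp hWg hfpzy.isStack.1 _ _ hc'₂ (repByAlgSpWith_fpFst _ y z hy₂)
  have κ : BasedFunctor.comp (BasedFunctor.comp c' (FibCat.fpFst z y)) z ≅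
      BasedFunctor.comp (AlgSt.overMap k) y :=
    whiskerL c' (FibCat.fpIso z y) ≪≫ whiskerR ιk y
  have hPk : ∀ P : MorphismProperty (AlgSp.Sp S), AlgSp.IsSmoothLocalST P → AlgSt.LocQ P z →
      P ((AlgSp.yon S).map k) := fun P hP hz => prop_of_locQ hP h𝒵 h𝒴 z hz y hy₁ c' hc'₁ k ιk
  have hsk : AlgSt.IsSurjective z → Function.Surjective k.left := fun hz =>
    surjective_of_overMap_iso hfpzy.isStack.1 c' hc'₂ _
      (isSurjective_fpSnd hVg h𝒴.isStack.1 h𝒵.isStack.1 y z hz) k ιk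
  obtain ⟨w, hwdef⟩ : ∃ w : FibCat.overCat W ⥤ᵇ 𝒵, w = BasedFunctor.comp c' (FibCat.fpFst z y) :=
    ⟨_, rfl⟩
  rw [← hwdef] at hw₁ hw₂ κ
  -- the chart of `V ×_𝒴 𝒳`
  have hfpyf : AlgSt.IsAlgStack Scheme.fppfPrecoverage (FibCat.fp y f) :=
    isAlgStack_fp h𝒴.isStack h𝒴.diag hVs h𝒳 y f
  obtain ⟨U, c, hc₁, hc₂⟩ := hfpyf.atlas
  have hUg := isFibGrpd_overCat U
  obtain ⟨h, ⟨ιh⟩⟩ := exists_overMap_iso (BasedFunctor.comp c (FibCat.fpFst y f))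
  have hx₁ : AlgSt.RepByAlgSpWith (AlgSp.LocP @Smooth)
      (BasedFunctor.comp c (FibCat.fpSnd y f)) :=
    good_smooth.toC.repComp hUg hfpyf.isStack.1 _ _ hc₁ (repByAlgSpWith_fpSnd _ y f hy₁)
  have hx₂ : AlgSt.RepByAlgSpWith AlgSp.IsSurjectiveMor
      (BasedFunctor.comp c (FibCat.fpSnd y f)) :=
    good_isSurjectiveMor.toC.repComp hUg hfpyf.isStack.1 _ _ hc₂ (repByAlgSpWith_fpSnd _ y f hy₂)
  have hsh : AlgSt.IsSurjective f → Function.Surjective h.left := fun hf =>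
    surjective_of_overMap_iso hfpyf.isStack.1 c hc₂ _
      (isSurjective_fpFst h𝒳.isStack.1 h𝒴.isStack.1 hVg f y hf) h ιh
  -- the fibre product
  have sq := IsPullback.of_hasPullback k h
  obtain ⟨e, he, ⟨ιe⟩⟩ := exists_bc_chart f z y c h ιh w k κ _ _ (sq.map (AlgSp.yon S))
  have hfpzf : AlgSt.IsAlgStack Scheme.fppfPrecoverage (FibCat.fp z f) :=
    isAlgStack_fp h𝒴.isStack h𝒴.diag h𝒵 h𝒳 z f
  refine ⟨U, V, W, pullback k h, BasedFunctor.comp c (FibCat.fpSnd y f), y, w, h, k,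
    pullback.fst k h, pullback.snd k h,
    whiskerL c (FibCat.fpIso y f).symm ≪≫ whiskerR ιh y, κ, sq, hx₁, hx₂, hy₁, hy₂, hw₁, hw₂,
    fun P hP hf => prop_of_locQ' hP h𝒳 h𝒴 f hf y hy₁ c hc₁ h ιh, hPk, hsh, hsk, ?_⟩
  intro P hP hφ
  have h1 := prop_spMapOfOver_of_locQ hP hfpzf h𝒵 (FibCat.fpFst z f) hφ w hw₁
    ⟨(AlgSp.yon S).obj (pullback k h), AlgSp.IsAlgSpace.yon_obj _⟩ e (he _ hc₁)
  have h2 : AlgSt.spMapOfOver (RepBridge.toOver W) = 𝟙 _ := spMapOfOver_toOverCat W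
  rw [spMapOfOver_congr ιe, spMapOfOver_ofSpMap_comp, h2, Category.comp_id] at h1
  exact h1

/-- **S12994**: fppf descent of `LocQ P`. -/
theorem locQ_of_fpFst_fppf (hP : AlgSp.IsSmoothLocalST P)
    (hP₂ : AlgSp.IsLocalOnBase AlgSp.IsFppfCover P)
    (h𝒳 : AlgSt.IsAlgStack Scheme.fppfPrecoverage 𝒳)
    (h𝒴 : AlgSt.IsAlgStack Scheme.fppfPrecoverage 𝒴) (f : 𝒳 ⥤ᵇ 𝒴)
    (h𝒵 : AlgSt.IsAlgStack Scheme.fppfPrecoverage 𝒵) (z : 𝒵 ⥤ᵇ 𝒴)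
    (hz₁ : AlgSt.LocQ (AlgSp.LocP @Flat) z)
    (hz₂ : AlgSt.LocQ (AlgSp.LocP @LocallyOfFinitePresentation) z)
    (hz₃ : AlgSt.IsSurjective z) (hφ : AlgSt.LocQ P (FibCat.fpFst z f)) : AlgSt.LocQ P f := by
  obtain ⟨U, V, W, Z, x, y, w, h, k, fst, snd, α, κ, sq, hx₁, hx₂, hy₁, hy₂, hw₁, hw₂, hPh, hPk,
    hsh, hsk, hPfst⟩ := exists_bc_square h𝒳 h𝒴 h𝒵 f z
  refine ⟨U, V, x, y, h, α, hx₁, hx₂, hy₁, ?_⟩
  have hk₁ := hPk _ isSmoothLocalST_flat hz₁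
  have hk₂ := hPk _ isSmoothLocalST_lfp hz₂
  have hk₃ := hsk hz₃
  have hfst := hPfst P hP hφ
  have hcov : AlgSp.IsFppfCover (fun _ : PUnit.{u + 1} => (AlgSp.yon S).obj W)
      (fun _ => (AlgSp.yon S).map k) :=
    ⟨fun _ => ⟨hk₁, hk₂⟩, fun x => ⟨⟨⟩, points_map_yon_surjective k hk₃ x⟩⟩
  exact (hP₂ _ _ (AlgSp.IsAlgSpace.yon_obj V) (fun _ => AlgSp.IsAlgSpace.yon_obj W) hcov
    ((AlgSp.yon S).map h) (AlgSp.IsAlgSpace.yon_obj U) (fun _ => (AlgSp.yon S).obj Z)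
    (fun _ => (AlgSp.yon S).map fst) (fun _ => (AlgSp.yon S).map snd)
    (fun _ => AlgSp.IsAlgSpace.yon_obj Z) (fun _ => (sq.map (AlgSp.yon S)).flip)).2 (fun _ => hfst)

/-- **S13003**: flatness descends along flat surjective morphisms. -/
theorem locQ_flat_of_fpFst (h𝒳 : AlgSt.IsAlgStack Scheme.fppfPrecoverage 𝒳)
    (h𝒴 : AlgSt.IsAlgStack Scheme.fppfPrecoverage 𝒴) (f : 𝒳 ⥤ᵇ 𝒴)
    (h𝒵 : AlgSt.IsAlgStack Scheme.fppfPrecoverage 𝒵) (z : 𝒵 ⥤ᵇ 𝒴)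
    (hz₁ : AlgSt.LocQ (AlgSp.LocP @Flat) z) (hz₂ : AlgSt.IsSurjective z)
    (hφ : AlgSt.LocQ (AlgSp.LocP @Flat) (FibCat.fpFst z f)) : AlgSt.LocQ (AlgSp.LocP @Flat) f := by
  obtain ⟨U, V, W, Z, x, y, w, h, k, fst, snd, α, κ, sq, hx₁, hx₂, hy₁, hy₂, hw₁, hw₂, hPh, hPk,
    hsh, hsk, hPfst⟩ := exists_bc_square h𝒳 h𝒴 h𝒵 f z
  refine ⟨U, V, x, y, h, α, hx₁, hx₂, hy₁, ?_⟩
  have hk₁ := hPk _ isSmoothLocalST_flat hz₁
  have hk₃ := hsk hz₂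
  have hfst := hPfst _ isSmoothLocalST_flat hφ
  rw [Groth.Agent.H5.AlgSp.locP_yon_map_iff Groth.Agent.H5.AlgSp.etale_le_flat] at hk₁ hfst ⊢
  have sq' : IsPullback fst.left snd.left k.left h.left := sq.map (Over.forget S)
  have h1 : Flat snd.left := MorphismProperty.of_isPullback (P := @Flat) sq' hk₁
  have h2 : Surjective snd.left :=
    MorphismProperty.of_isPullback (P := @Surjective) sq' ⟨hk₃⟩
  have h3 : Flat (snd.left ≫ h.left) := by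
    rw [← sq'.w]
    infer_instance
  exact Groth.Agent.H3.AlgSpCov.flat_of_flat_family h.left (K := PUnit.{1}) (fun _ => Z.left)
    (fun _ => snd.left) (fun _ => h1) (fun v => ⟨⟨⟩, h2.surj v⟩) (fun _ => h3)

/-- **S13000** -/
theorem locQ_lft_of_fpFst_space (h𝒳 : AlgSt.IsAlgStack Scheme.fppfPrecoverage 𝒳)
    (h𝒴 : AlgSt.IsAlgStack Scheme.fppfPrecoverage 𝒴) (f : 𝒳 ⥤ᵇ 𝒴)
    (W : AlgSp.Space S) (w : AlgSt.ofSp W.obj ⥤ᵇ 𝒴)
    (hw₁ : AlgSt.RepByAlgSpWith (AlgSp.LocP @Flat) w)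
    (hw₂ : AlgSt.RepByAlgSpWith (AlgSp.LocP @LocallyOfFinitePresentation) w)
    (hw₃ : AlgSt.RepByAlgSpWith AlgSp.IsSurjectiveMor w)
    (hφ : AlgSt.LocQ (AlgSp.LocP @LocallyOfFiniteType) (FibCat.fpFst w f)) :
    AlgSt.LocQ (AlgSp.LocP @LocallyOfFiniteType) f :=
  locQ_of_fpFst_fppf isSmoothLocalST_lft
    (isLocalOnBase_fppf_of_fpqc Groth.Agent.H3.AlgSpCov.isLocalOnBase_fpqc_lft) h𝒳 h𝒴 f
    (isAlgStack_ofSp W) w (locQ_of_rep isSmoothLocalST_flat h𝒴 w hw₁)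
    (locQ_of_rep isSmoothLocalST_lfp h𝒴 w hw₂) (isSurjective_of_rep h𝒴.isStack.1 w hw₃) hφ

end Groth.Agent.H3.AlgStLocQ
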