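import Mathlib
import Groth.Agent.Lib.Helper3.AlgSt.LocQ8

/-!
# `LocQ`: descent of representable properties and quasi-compactness (helper3)
-/

set_option autoImplicit false
universe u
open CategoryTheory CategoryTheory.Functor CategoryTheory.Limits Opposite AlgebraicGeometry

noncomputable section

namespace Groth.Agent.H3.AlgStLocQ

open Groth.Agent.H3.FibCatAux Groth.Agent.H3.GerbAux Groth.Agent.H3.FpCalc Groth.Agent.H3.TwoCart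
  Groth.Agent.H3.StackPsh Groth.Agent.H3.PshBridge Groth.Agent.H3.AlgStAux Groth.Agent.H3.RepBridge
  Groth.Agent.H3.SetoidPsh Groth.Agent.H3.BaseChangeSp Groth.Agent.H3.AlgStComp
  Groth.Agent.H3.AlgStProps Groth.Agent.H3.AlgStBridge2 Groth.Agent.H3.AlgStCharts
  Groth.Agent.H3.AlgStDescent Groth.Agent.H3.Whisker Groth.Agent.H3.AlgStLES
  Groth.Agent.H3.FPtRel Groth.Agent.H3.AlgStStackRep Groth.Agent.H3.TwoYoneda
  Groth.Agent.H3.AlgStPoints Groth.Agent.H3.AlgStAlgebraic Groth.Agent.H3.AlgStQCMor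
  Groth.Agent.H3.AlgStSmoothLoc Groth.Agent.H3.SmSrc

variable {S : Scheme.{u}} {𝒳 𝒴 𝒵 : AlgSt.Cat S} {P : MorphismProperty (AlgSp.Sp S)}

/-- the composite of a smooth chart with a morphism having `P` (in the sense of `LocQ`) is
representable by algebraic spaces with `P` -/
theorem rep_chart_comp (hP : AlgSp.IsSmoothLocalST P) (hG : Good P)
    (hsm : ∀ ⦃X Y : AlgSp.Sp S⦄ (a : X ⟶ Y), AlgSp.LocP @Smooth a → P a)
    (h𝒵 : AlgSt.IsAlgStack Scheme.fppfPrecoverage 𝒵)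
    (h𝒴 : AlgSt.IsAlgStack Scheme.fppfPrecoverage 𝒴) (z : 𝒵 ⥤ᵇ 𝒴) (hz : AlgSt.LocQ P z)
    {W : Over S} (w : FibCat.overCat W ⥤ᵇ 𝒵)
    (hw : AlgSt.RepByAlgSpWith (AlgSp.LocP @Smooth) w) :
    AlgSt.RepByAlgSpWith P (BasedFunctor.comp w z) := by
  have hWs := isAlgStack_overCat W
  have hrep : AlgSt.RepByAlgSp1 (BasedFunctor.comp w z) :=
    Groth.Agent.H3.AlgStDiag.repByAlgSp1_chart_of_diag h𝒴.isStack.1 h𝒴.diag W _
  have h1 : AlgSt.LocQ P (BasedFunctor.comp w z) :=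
    locQ_comp hP hG.comp hWs h𝒵 h𝒴 w z
      (locQ_of_rep hP h𝒵 w (AlgStDiagLft.repByAlgSpWith_mono hsm hw)) hz
  exact (locQ_iff_rep hP hG.bc hG.loc hWs h𝒴 _ hrep).1 h1

/-- a flat, locally finitely presented, surjective morphism of algebraic stacks is locally
essentially surjective for the fppf topology -/
theorem les_of_locQ_fppf (h𝒵 : AlgSt.IsAlgStack Scheme.fppfPrecoverage 𝒵)
    (h𝒴 : AlgSt.IsAlgStack Scheme.fppfPrecoverage 𝒴) (z : 𝒵 ⥤ᵇ 𝒴)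
    (hz₁ : AlgSt.LocQ (AlgSp.LocP @Flat) z)
    (hz₂ : AlgSt.LocQ (AlgSp.LocP @LocallyOfFinitePresentation) z)
    (hz₃ : AlgSt.IsSurjective z) : LES z := by
  obtain ⟨W, w, hw₁, hw₂⟩ := h𝒵.atlas
  have hWg := isFibGrpd_overCat W
  have hrep : AlgSt.RepByAlgSp1 (BasedFunctor.comp w z) :=
    Groth.Agent.H3.AlgStDiag.repByAlgSp1_chart_of_diag h𝒴.isStack.1 h𝒴.diag W _
  have h1 := rep_chart_comp isSmoothLocalST_flat good_flat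
    (AlgStDiagLft.locP_mono AlgStDiagLft.smooth_le_flat) h𝒵 h𝒴 z hz₁ w hw₁
  have h2 := rep_chart_comp isSmoothLocalST_lfp good_lfp
    (AlgStDiagLft.locP_mono AlgStDiagLft.smooth_le_lfp) h𝒵 h𝒴 z hz₂ w hw₁
  have hs : AlgSt.IsSurjective (BasedFunctor.comp w z) := by
    intro p
    obtain ⟨q, hq⟩ := hz₃ p
    obtain ⟨r, hr⟩ := isSurjective_of_rep h𝒵.isStack.1 w hw₂ q
    exact ⟨r, by rw [points_map_comp, hr, hq]⟩
  have h3 := rep_of_isSurjective hWg h𝒴.isStack.1 _ hrep hs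
  have h4 := les_of_fppf _ h1 h2 h3
  intro U y
  obtain ⟨R, hR, hlift⟩ := h4 U y
  refine ⟨R, hR, fun V h hh => ?_⟩
  obtain ⟨t, ⟨ι⟩⟩ := hlift h hh
  exact ⟨BasedFunctor.comp t w, ⟨ι⟩⟩

/-- **S12995** -/
theorem rep_iff_fpFst_of_locQ_fppf (hP₁ : BaseChangeSp P)
    (hP₂ : AlgSp.IsLocalOnBase AlgSp.IsFppfCover P)
    (h𝒳 : AlgSt.IsAlgStack Scheme.fppfPrecoverage 𝒳)
    (h𝒴 : AlgSt.IsAlgStack Scheme.fppfPrecoverage 𝒴) (f : 𝒳 ⥤ᵇ 𝒴) (hf : AlgSt.RepByAlgSp1 f)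
    (h𝒵 : AlgSt.IsAlgStack Scheme.fppfPrecoverage 𝒵) (z : 𝒵 ⥤ᵇ 𝒴)
    (hz₁ : AlgSt.LocQ (AlgSp.LocP @Flat) z)
    (hz₂ : AlgSt.LocQ (AlgSp.LocP @LocallyOfFinitePresentation) z)
    (hz₃ : AlgSt.IsSurjective z) :
    AlgSt.RepByAlgSpWith P f ↔ AlgSt.RepByAlgSpWith P (FibCat.fpFst z f) :=
  ⟨fun h => repByAlgSpWith_fpFst P f z h,
    fun h => repByAlgSpWith_of_les P hP₁ hP₂ f hf z (les_of_locQ_fppf h𝒵 h𝒴 z hz₁ hz₂ hz₃) h⟩

/-- **S13009** -/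
theorem isQuasiCompactMor_of_fpFst_locQ (h𝒳 : AlgSt.IsAlgStack Scheme.fppfPrecoverage 𝒳)
    (h𝒴 : AlgSt.IsAlgStack Scheme.fppfPrecoverage 𝒴) (f : 𝒳 ⥤ᵇ 𝒴)
    (h𝒵 : AlgSt.IsAlgStack Scheme.fppfPrecoverage 𝒵) (z : 𝒵 ⥤ᵇ 𝒴)
    (hz₁ : AlgSt.LocQ (AlgSp.LocP @Flat) z)
    (hz₂ : AlgSt.LocQ (AlgSp.LocP @LocallyOfFinitePresentation) z)
    (hz₃ : AlgSt.IsSurjective z)
    (h : AlgSt.IsQuasiCompactMor Scheme.fppfPrecoverage (FibCat.fpFst z f)) :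
    AlgSt.IsQuasiCompactMor Scheme.fppfPrecoverage f := by
  obtain ⟨W, w, hw₁, hw₂⟩ := h𝒵.atlas
  have hWg := isFibGrpd_overCat W
  have hWs := isAlgStack_overCat W
  have hrep : AlgSt.RepByAlgSp1 (BasedFunctor.comp w z) :=
    Groth.Agent.H3.AlgStDiag.repByAlgSp1_chart_of_diag h𝒴.isStack.1 h𝒴.diag W _
  have h1 := rep_chart_comp isSmoothLocalST_flat good_flat
    (AlgStDiagLft.locP_mono AlgStDiagLft.smooth_le_flat) h𝒵 h𝒴 z hz₁ w hw₁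
  have h2 := rep_chart_comp isSmoothLocalST_lfp good_lfp
    (AlgStDiagLft.locP_mono AlgStDiagLft.smooth_le_lfp) h𝒵 h𝒴 z hz₂ w hw₁
  have hs : AlgSt.IsSurjective (BasedFunctor.comp w z) := by
    intro p
    obtain ⟨q, hq⟩ := hz₃ p
    obtain ⟨r, hr⟩ := isSurjective_of_rep h𝒵.isStack.1 w hw₂ q
    exact ⟨r, by rw [points_map_comp, hr, hq]⟩
  have h3 := rep_of_isSurjective hWg h𝒴.isStack.1 _ hrep hs
  refine isQuasiCompactMor_of_fpFst h𝒳 h𝒴 hWs f (BasedFunctor.comp w z) h1 h2 h3 ?_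
  have hfpzf : AlgSt.IsAlgStack Scheme.fppfPrecoverage (FibCat.fp z f) :=
    isAlgStack_fp h𝒴.isStack h𝒴.diag h𝒵 h𝒳 z f
  have h5 : AlgSt.IsQuasiCompactMor Scheme.fppfPrecoverage (FibCat.fpFst w (FibCat.fpFst z f)) :=
    isQuasiCompactMor_fpFst hfpzf h𝒵 hWs _ w h
  exact isQuasiCompactMor_of_triangle
    (isAlgStack_fp h𝒵.isStack h𝒵.diag hWs hfpzf w (FibCat.fpFst z f))
    (isAlgStack_fp h𝒴.isStack h𝒴.diag hWs h𝒳 (BasedFunctor.comp w z) f) hWs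
    (pasteL w z f) _ _ (eqToIso (pasteL_comp_fpFst w z f))
    (Groth.Agent.H3.FPtRel.isSurjective_of_isEquivOver _ (isEquivOver_pasteL w z f)) h5

end Groth.Agent.H3.AlgStLocQ
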