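import Mathlib
import Groth.Agent.Lib.Helper3.AlgSt.DiagLft
import Groth.Agent.Lib.Helper5.AlgSp.Proper
import Groth.Agent.Lib.Helper5.AlgSp.QCompact

/-!
# Cancellation for DM, quasi-DM, separated, quasi-separated 1-morphisms (helper3)
-/

set_option autoImplicit false
universe u
open CategoryTheory CategoryTheory.Functor CategoryTheory.Limits Opposite AlgebraicGeometry

namespace Groth.Agent.H3.AlgStDiagCancel

open Groth.Agent.H3.FibCatAux Groth.Agent.H3.GerbAux Groth.Agent.H3.FpCalc Groth.Agent.H3.TwoCart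
  Groth.Agent.H3.AlgStAux Groth.Agent.H3.BaseChangeSp Groth.Agent.H3.AlgStComp
  Groth.Agent.H3.AlgStProps Groth.Agent.H3.AlgStBridge2 Groth.Agent.H3.AlgStDiagProp
  Groth.Agent.H3.AlgSpCov Groth.Agent.H3.AlgStCharts Groth.Agent.H3.AlgStProd
  Groth.Agent.H3.AlgStDiag Groth.Agent.H3.AlgStProdMap Groth.Agent.H3.AlgStLES
  Groth.Agent.H3.AlgStDescent Groth.Agent.H3.AlgStCancel Groth.Agent.H3.AlgStDiagFacts
  Groth.Agent.H3.RepBridge Groth.Agent.H3.AlgStDiagLft Groth.Agent.H3.AlgStDiagRep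
open AlgSp

variable {S : Scheme.{u}} {𝒳 𝒴 𝒵 : AlgSt.Cat S}

/-- the diagonal of `f` has `P` if the diagonal of `g ∘ f` has `P` and so does the diagonal of the
comparison `𝒳 ×_𝒴 𝒳 ⟶ 𝒳 ×_𝒵 𝒳` -/
lemma diag_of_comp_aux (P : MorphismProperty (Sp S)) (hP : GoodC P) (h𝒳 : FibCat.IsFibGrpd 𝒳.p)
    (h𝒴 : FibCat.IsFibGrpd 𝒴.p) (h𝒵 : FibCat.IsFibGrpd 𝒵.p) (f : 𝒳 ⥤ᵇ 𝒴) (g : 𝒴 ⥤ᵇ 𝒵)
    (h1 : AlgSt.RepByAlgSpWith P (FibCat.diag (BasedFunctor.comp f g)))
    (h2 : AlgSt.RepByAlgSpWith P (FibCat.diag (magicI f f g (magicIso f f g)))) :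
    AlgSt.RepByAlgSpWith P (FibCat.diag f) := by
  have h4 := repByAlgSpWith_of_iso P (diagCompIso f g) h1
  exact repByAlgSpWith_cancel P hP h𝒳 (X6401 f f h𝒳 h𝒳 h𝒴)
    (X6401 (BasedFunctor.comp f g) (BasedFunctor.comp f g) h𝒳 h𝒳 h𝒵) (FibCat.diag f) _ h4 h2

section

variable (h𝒳 : AlgSt.IsAlgStack Scheme.fppfPrecoverage 𝒳)
  (h𝒴 : AlgSt.IsAlgStack Scheme.fppfPrecoverage 𝒴) (h𝒵 : AlgSt.IsAlgStack Scheme.fppfPrecoverage 𝒵)
  (f : 𝒳 ⥤ᵇ 𝒴) (g : 𝒴 ⥤ᵇ 𝒵)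

include h𝒳 h𝒴 h𝒵

lemma repByAlgSp1_magicI_rel :
    AlgSt.RepByAlgSp1 (magicI f f g (magicIso f f g)) := by
  have h := repByAlgSp1_diag_of_algStack h𝒴 h𝒵 g
  rw [← repByAlgSpWith_top_iff] at h ⊢
  exact repByAlgSpWith_magicI f g ⊤ h

/-- S12956 -/
theorem isDMMor_of_comp (h : AlgSt.IsDMMor (BasedFunctor.comp f g)) : AlgSt.IsDMMor f := by
  have hX := h𝒳.isStack.1
  have hY := h𝒴.isStack.1
  have hZ := h𝒵.isStack.1
  exact diag_of_comp_aux _ good_unram.toC hX hY hZ f g h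
    (diag_unram (X6401 f f hX hX hY)
      (X6401 (BasedFunctor.comp f g) (BasedFunctor.comp f g) hX hX hZ) _
      (repByAlgSp1_magicI_rel h𝒳 h𝒴 h𝒵 f g))

/-- S12957 -/
theorem isQuasiDMMor_of_comp (h : AlgSt.IsQuasiDMMor (BasedFunctor.comp f g)) :
    AlgSt.IsQuasiDMMor f := by
  have hX := h𝒳.isStack.1
  have hY := h𝒴.isStack.1
  have hZ := h𝒵.isStack.1
  exact diag_of_comp_aux _ good_lqf.toC hX hY hZ f g h
    (diag_lqf (X6401 f f hX hX hY)
      (X6401 (BasedFunctor.comp f g) (BasedFunctor.comp f g) hX hX hZ) _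
      (repByAlgSp1_magicI_rel h𝒳 h𝒴 h𝒵 f g))

/-- S12958 -/
theorem isSeparatedMor_of_comp (h : AlgSt.IsSeparatedMor (BasedFunctor.comp f g))
    (hg : AlgSt.RepByAlgSpWith AlgSp.IsSeparatedMor (FibCat.diag g)) : AlgSt.IsSeparatedMor f := by
  have hX := h𝒳.isStack.1
  have hY := h𝒴.isStack.1
  have hZ := h𝒵.isStack.1
  have hb : AlgSt.RepByAlgSpWith AlgSp.IsSeparatedMor (magicI f f g (magicIso f f g)) :=
    repByAlgSpWith_magicI f g _ hg
  have hb' := (repByAlgSpWith_iff_forall _ good_isSeparatedMor.bc good_isSeparatedMor.toC.charts _).1 hb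
  refine diag_of_comp_aux _ good_isProperMor.toC hX hY hZ f g h ?_
  exact repByAlgSpWith_diag_of_rep _ good_isProperMor.bc good_isProperMor.toC.charts
    (X6401 f f hX hX hY) (X6401 (BasedFunctor.comp f g) (BasedFunctor.comp f g) hX hX hZ) _
    hb'.1 (fun U y G e he =>
      Groth.Agent.H5.AlgSp.isProperMor_of_isClosedImmersion (hb'.2 U y G e he))

/-- S12959 -/
theorem isQuasiSeparatedMor_of_comp (h : AlgSt.IsQuasiSeparatedMor (BasedFunctor.comp f g))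
    (hg : AlgSt.RepByAlgSpWith AlgSp.IsQuasiSeparatedMor (FibCat.diag g)) :
    AlgSt.IsQuasiSeparatedMor f := by
  have hX := h𝒳.isStack.1
  have hY := h𝒴.isStack.1
  have hZ := h𝒵.isStack.1
  have hb : AlgSt.RepByAlgSpWith AlgSp.IsQuasiSeparatedMor (magicI f f g (magicIso f f g)) :=
    repByAlgSpWith_magicI f g _ hg
  have hb' := (repByAlgSpWith_iff_forall _ good_isQuasiSeparatedMor.bc
    good_isQuasiSeparatedMor.toC.charts _).1 hb
  refine diag_of_comp_aux _ good_qcqs.toC hX hY hZ f g h ?_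
  refine repByAlgSpWith_diag_of_rep _ good_qcqs.bc good_qcqs.toC.charts
    (X6401 f f hX hX hY) (X6401 (BasedFunctor.comp f g) (BasedFunctor.comp f g) hX hX hZ) _
    hb'.1 (fun U y G e he => ⟨?_, ?_⟩)
  · exact Groth.Agent.H5.AlgSp.isQuasiCompactMor_of_repWith (hb'.2 U y G e he)
  · have : IsIso (pullback.diagonal (pullback.diagonal
        (AlgSt.spMapOfOver (BasedFunctor.comp e (FibCat.fpFst y (magicI f f g (magicIso f f g))))))) :=
      (pullback.isIso_diagonal_iff _).2 inferInstance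
    exact (RepWith (S := S) @QuasiCompact).of_isIso _

end

section Mono

/-- S12971 -/
theorem isSeparatedMor_and_isDMMor_of_isMono (h𝒳 : FibCat.IsFibGrpd 𝒳.p) (h𝒴 : FibCat.IsFibGrpd 𝒴.p)
    (f : 𝒳 ⥤ᵇ 𝒴) (hf : AlgSt.IsMono f) : AlgSt.IsSeparatedMor f ∧ AlgSt.IsDMMor f := by
  have hf' := (repByAlgSpWith_iff_forall _ good_monomorphisms.bc good_monomorphisms.toC.charts f).1 hf
  refine ⟨?_, diag_unram h𝒳 h𝒴 f hf'.1⟩
  refine repByAlgSpWith_diag_of_rep _ good_isProperMor.bc good_isProperMor.toC.charts h𝒳 h𝒴 f hf'.1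
    (fun U y G e he => ?_)
  have hm : Mono (AlgSt.spMapOfOver (BasedFunctor.comp e (FibCat.fpFst y f))) := hf'.2 U y G e he
  have : IsIso (pullback.diagonal (AlgSt.spMapOfOver (BasedFunctor.comp e (FibCat.fpFst y f)))) :=
    (pullback.isIso_diagonal_iff _).2 hm
  exact Groth.Agent.H5.AlgSp.isProperMor_of_isClosedImmersion
    ((RepWith (S := S) @IsClosedImmersion).of_isIso _)

end Mono

section LESdbc

variable {𝒴' 𝒯 : AlgSt.Cat S} (f : 𝒳 ⥤ᵇ 𝒴) (g : 𝒴' ⥤ᵇ 𝒴) (y : 𝒯 ⥤ᵇ FibCat.fp f f) (z : 𝒯 ⥤ᵇ 𝒴')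
  (ι : BasedFunctor.comp z g ≅ cg f y)

/-- first lift of a chart of `𝒳 ×_𝒴 𝒳` to `𝒴' ×_𝒴 𝒳` -/
def lift1 : 𝒯 ⥤ᵇ FibCat.fp g f := FibCat.fpLift z (cx f y) ι

/-- the second 2-isomorphism -/
def ι2 : BasedFunctor.comp z g ≅ BasedFunctor.comp (cx' f y) f :=
  ι ≪≫ (Iso.refl _ : cg f y ≅ BasedFunctor.comp (BasedFunctor.id 𝒯) (cg f y)) ≪≫ cIso f y

/-- second lift -/
def lift2 : 𝒯 ⥤ᵇ FibCat.fp g f := FibCat.fpLift z (cx' f y) (ι2 f g y z ι)

/-- the lift of the chart to `𝒳' ×_{𝒴'} 𝒳'` -/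
def liftPair : 𝒯 ⥤ᵇ FibCat.fp (FibCat.fpFst g f) (FibCat.fpFst g f) :=
  FibCat.fpLift (lift1 f g y z ι) (lift2 f g y z ι) (Iso.refl _)

omit f g y z ι in
lemma inv_id_hom_comp {E : Type*} [Category E] {A B D : E} (u : A ≅ B) (k : A ⟶ A) (m : B ⟶ D)
    (hk : k = 𝟙 A) : u.inv ≫ k ≫ (u.hom ≫ m) = m := by
  subst hk; simp

lemma liftPair_comp_iso (t : 𝒯.obj) :
    ((BasedFunctor.comp (liftPair f g y z ι) (dbcM f g)).obj t).obj.iso.hom =
      (y.obj t).obj.iso.hom := by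
  refine (dbcM_obj_iso f g ((liftPair f g y z ι).obj t)).trans ?_
  have h1 : ((liftPair f g y z ι).obj t).obj.snd.obj.iso.hom =
      (appIso ι t).hom ≫ (y.obj t).obj.iso.hom := by
    show (ι2 f g y z ι).hom.toNatTrans.app t = _
    show ι.hom.toNatTrans.app t ≫ 𝟙 _ ≫ (cIso f y).hom.toNatTrans.app t = _
    rw [Category.id_comp, cIso_app]
    rfl
  rw [h1]
  exact inv_id_hom_comp (appIso ι t) _ _ (g.toFunctor.map_id _)

lemma liftChart_w (t : 𝒯.obj) :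
    f.map (Iso.refl (y.obj t).obj.fst).hom ≫
        ((BasedFunctor.comp (liftPair f g y z ι) (dbcM f g)).obj t).obj.iso.hom =
      (y.obj t).obj.iso.hom ≫ f.map (Iso.refl (y.obj t).obj.snd).hom := by
  have b1 : f.map (Iso.refl (y.obj t).obj.fst).hom = 𝟙 _ := f.toFunctor.map_id _
  have b2 : f.map (Iso.refl (y.obj t).obj.snd).hom = 𝟙 _ := f.toFunctor.map_id _
  rw [b1, b2, liftPair_comp_iso]
  exact (Category.id_comp _).trans (Category.comp_id _).symm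

/-- the chart factors through the comparison functor -/
def liftChartIso : y ≅ BasedFunctor.comp (liftPair f g y z ι) (dbcM f g) :=
  BasedNatIso.mkNatIso
    (NatIso.ofComponents
      (fun t => fpIsoMk (X := y.obj t)
        (Y := (BasedFunctor.comp (liftPair f g y z ι) (dbcM f g)).obj t)
        (Iso.refl _) (Iso.refl _) (liftChart_w f g y z ι t))
      (by
        intro a a' φ
        apply fp_hom_ext
        · show (y.map φ).hom.fst ≫ 𝟙 _ = 𝟙 _ ≫ (y.map φ).hom.fst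
          rw [Category.comp_id, Category.id_comp]
        · show (y.map φ).hom.snd ≫ 𝟙 _ = 𝟙 _ ≫ (y.map φ).hom.snd
          rw [Category.comp_id, Category.id_comp]))
    (by
      intro t
      rw [fp_isHomLift_iff]
      show 𝒳.p.IsHomLift (𝟙 _) (𝟙 (y.obj t).obj.fst)
      exact IsHomLift.of_fac' 𝒳.p _ _ ((FibCat.fpFst _ _).w_obj (y.obj t) |>.trans (y.w_obj t))
        ((FibCat.fpFst _ _).w_obj (y.obj t) |>.trans (y.w_obj t)) (by simp))

omit y z ι in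
/-- the comparison `𝒳' ×_{𝒴'} 𝒳' ⟶ 𝒳 ×_𝒴 𝒳` is locally essentially surjective if `𝒴' ⟶ 𝒴` is -/
theorem les_dbcM (hg : LES g) : LES (dbcM f g) := by
  intro U u
  obtain ⟨R, hR, hloc⟩ := hg U (cg f u)
  refine ⟨R, hR, fun V h hRh => ?_⟩
  obtain ⟨z, ⟨ι⟩⟩ := hloc h hRh
  exact ⟨liftPair f g (BasedFunctor.comp (AlgSt.overMap h) u) z ι,
    ⟨(liftChartIso f g (BasedFunctor.comp (AlgSt.overMap h) u) z ι).symm⟩⟩

omit y z ι in
/-- descent of a property of the diagonal along a locally essentially surjective base change -/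
theorem diag_of_fpFst_of_les (P : MorphismProperty (Sp S)) (hPb : BaseChangeSp P)
    (hP : IsLocalOnBase IsFppfCover P) (hΔ : AlgSt.RepByAlgSp1 (FibCat.diag f)) (hg : LES g)
    (h : AlgSt.RepByAlgSpWith P (FibCat.diag (FibCat.fpFst g f))) :
    AlgSt.RepByAlgSpWith P (FibCat.diag f) := by
  refine repByAlgSpWith_descent P hPb hP (FibCat.diag f) hΔ (dbcM f g) (les_dbcM f g hg) ?_
  let ε : BasedFunctor.comp (FibCat.diag (FibCat.fpFst g f)) (BasedFunctor.id _) ≅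
      BasedFunctor.comp
        (FibCat.fpLift (FibCat.diag (FibCat.fpFst g f)) (FibCat.fpSnd g f) (dbcE f g))
        (FibCat.fpFst (dbcM f g) (FibCat.diag f)) := Iso.refl _
  exact repByAlgSpWith_of_square' P _ _ _ (BasedFunctor.id _) (dbc_isTwoCartOver f g)
    isEquivOver_id ε h

end LESdbc

end Groth.Agent.H3.AlgStDiagCancel
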