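import Mathlib
import Groth.Agent.Lib.Helper3.AlgSt.DiagCancel

/-!
# The diagonal over the base from an fppf cover by an algebraic space (helper3)
-/

set_option autoImplicit false
universe u
open CategoryTheory CategoryTheory.Functor CategoryTheory.Limits Opposite AlgebraicGeometry

namespace Groth.Agent.H3.AlgStDiagCover

open Groth.Agent.H3.FibCatAux Groth.Agent.H3.GerbAux Groth.Agent.H3.FpCalc Groth.Agent.H3.TwoCart
  Groth.Agent.H3.AlgStAux Groth.Agent.H3.BaseChangeSp Groth.Agent.H3.AlgStComp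
  Groth.Agent.H3.AlgStProps Groth.Agent.H3.AlgStBridge2 Groth.Agent.H3.AlgStDiagProp
  Groth.Agent.H3.AlgSpCov Groth.Agent.H3.AlgStCharts Groth.Agent.H3.AlgStProd
  Groth.Agent.H3.AlgStDiag Groth.Agent.H3.AlgStProdMap Groth.Agent.H3.AlgStLES
  Groth.Agent.H3.AlgStDescent Groth.Agent.H3.AlgStCancel Groth.Agent.H3.AlgStDiagFacts
  Groth.Agent.H3.RepBridge Groth.Agent.H3.AlgStDiagLft Groth.Agent.H3.AlgStDiagRep
open AlgSp

variable {S : Scheme.{u}} {𝒳 𝒲 : AlgSt.Cat S}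

/-- Let `w : 𝒲 ⟶ 𝒳` be flat, locally finitely presented, surjective with `𝒲` representable by an
algebraic space. If `w` has `P` and diagonals of 1-morphisms representable by algebraic spaces have
`P`, then the diagonal of `𝒳` over the base has `P`. -/
theorem diag_toSelf_of_cover (P : MorphismProperty (Sp S)) (hP : Good P)
    (hD : ∀ {𝒜 ℬ : AlgSt.Cat S}, FibCat.IsFibGrpd 𝒜.p → FibCat.IsFibGrpd ℬ.p → ∀ (b : 𝒜 ⥤ᵇ ℬ),
      AlgSt.RepByAlgSp1 b → AlgSt.RepByAlgSpWith P (FibCat.diag b))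
    (hX : FibCat.IsFibGrpd 𝒳.p) (hΔ : AlgSt.RepByAlgSp1 (FibCat.diag (FibCat.toSelf 𝒳)))
    (hW : FibCat.IsFibGrpd 𝒲.p) (hWr : AlgSt.RepByAlgSp 𝒲) (w : 𝒲 ⥤ᵇ 𝒳)
    (hw₁ : AlgSt.RepByAlgSpWith (LocP @Flat) w)
    (hw₂ : AlgSt.RepByAlgSpWith (LocP @LocallyOfFinitePresentation) w)
    (hw₃ : AlgSt.RepByAlgSpWith IsSurjectiveMor w) (hw₄ : AlgSt.RepByAlgSpWith P w) :
    AlgSt.RepByAlgSpWith P (FibCat.diag (FibCat.toSelf 𝒳)) := by
  have hS : FibCat.IsFibGrpd (FibCat.selfOver (Over S)).p := isFibGrpd_id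
  set t := FibCat.toSelf 𝒳 with ht
  have hR1 : AlgSt.RepByAlgSpWith (LocP @Flat) (magicR w w t) :=
    repByAlgSpWith_prodMap _ good_flat hW hW hX hS w w t t hw₁ hw₁
  have hR2 : AlgSt.RepByAlgSpWith (LocP @LocallyOfFinitePresentation) (magicR w w t) :=
    repByAlgSpWith_prodMap _ good_lfp hW hW hX hS w w t t hw₂ hw₂
  have hR3 : AlgSt.RepByAlgSpWith IsSurjectiveMor (magicR w w t) :=
    repByAlgSpWith_prodMap _ good_isSurjectiveMor hW hW hX hS w w t t hw₃ hw₃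
  have hLES : LES (magicR w w t) := les_of_fppf _ hR1 hR2 hR3
  refine repByAlgSpWith_descent _ hP.bc hP.loc (FibCat.diag t) hΔ (magicR w w t) hLES ?_
  have hI : AlgSt.RepByAlgSpWith P (magicI w w t (magicIso w w t)) := by
    have hwt : AlgSt.RepByAlgSp1 (BasedFunctor.comp w t) := by
      intro V y
      exact repByAlgSp_fp_selfOver y _ (repByAlgSp_overCat V) hWr
    have hb : AlgSt.RepByAlgSp1 (FibCat.fpFst (BasedFunctor.comp w t) (BasedFunctor.comp w t)) :=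
      repByAlgSp1_fpFst _ _ hwt
    have hfp := X6401 (BasedFunctor.comp w t) (BasedFunctor.comp w t) hW hW hS
    refine repByAlgSpWith_cancel _ hP.toC (X6401 w w hW hW hX) hfp hW
      (magicI w w t (magicIso w w t))
      (FibCat.fpFst (BasedFunctor.comp w t) (BasedFunctor.comp w t)) ?_ (hD hfp hW _ hb)
    exact repByAlgSpWith_fpFst _ w w hw₄
  let ε : BasedFunctor.comp (magicI w w t (magicIso w w t)) (BasedFunctor.id _) ≅
      BasedFunctor.comp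
        (FibCat.fpLift (magicI w w t (magicIso w w t)) (magicL w w)
          (magicE w w t (magicIso w w t) (fun W => magicIso_app w w t W)))
        (FibCat.fpFst (magicR w w t) (FibCat.diag t)) := Iso.refl _
  exact repByAlgSpWith_of_square' _ _ _ _ (BasedFunctor.id _)
    (magic_isTwoCartOver w w t (magicIso w w t) (fun W => magicIso_app w w t W)) isEquivOver_id ε hI

/-- S12969 -/
theorem isDMOver_of_unramified_cover (h𝒳 : AlgSt.IsAlgStack Scheme.fppfPrecoverage 𝒳)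
    (W : Space S) (w : AlgSt.ofSp W.obj ⥤ᵇ 𝒳)
    (hw₁ : AlgSt.RepByAlgSpWith (LocP @Flat) w)
    (hw₂ : AlgSt.RepByAlgSpWith (LocP @LocallyOfFinitePresentation) w)
    (hw₃ : AlgSt.RepByAlgSpWith IsSurjectiveMor w)
    (hw₄ : AlgSt.RepByAlgSpWith (LocP (@LocallyOfFiniteType ⊓ @FormallyUnramified)) w) :
    AlgSt.IsDMOver 𝒳 :=
  diag_toSelf_of_cover _ good_unram (fun h1 h2 b hb => diag_unram h1 h2 b hb) h𝒳.isStack.1 h𝒳.diag
    (Stk.isFibGrpd_ofPsh _) ⟨W, BasedFunctor.id _, isEquivOver_id⟩ w hw₁ hw₂ hw₃ hw₄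

/-- S12970 -/
theorem isQuasiDMOver_of_lqf_cover (h𝒳 : AlgSt.IsAlgStack Scheme.fppfPrecoverage 𝒳)
    (W : Space S) (w : AlgSt.ofSp W.obj ⥤ᵇ 𝒳)
    (hw₁ : AlgSt.RepByAlgSpWith (LocP @Flat) w)
    (hw₂ : AlgSt.RepByAlgSpWith (LocP @LocallyOfFinitePresentation) w)
    (hw₃ : AlgSt.RepByAlgSpWith IsSurjectiveMor w)
    (hw₄ : AlgSt.RepByAlgSpWith (LocP (@LocallyQuasiFinite ⊓ @LocallyOfFiniteType)) w) :
    AlgSt.IsQuasiDMOver 𝒳 :=
  diag_toSelf_of_cover _ good_lqf (fun h1 h2 b hb => diag_lqf h1 h2 b hb) h𝒳.isStack.1 h𝒳.diag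
    (Stk.isFibGrpd_ofPsh _) ⟨W, BasedFunctor.id _, isEquivOver_id⟩ w hw₁ hw₂ hw₃ hw₄

end Groth.Agent.H3.AlgStDiagCover
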