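import Mathlib
import Groth.Agent.Lib.Helper3.AlgSt.DiagCover
import Groth.Agent.Lib.Helper5.AlgSp.UnivClosed
import Groth.Agent.Lib.Helper3.AlgSpCov.UnivBase

/-!
# Characterising properties of the diagonal of a representable 1-morphism on charts (helper3)
-/

set_option autoImplicit false
universe u
open CategoryTheory CategoryTheory.Functor CategoryTheory.Limits Opposite AlgebraicGeometry

namespace Groth.Agent.H3.AlgStDiagIff

open Groth.Agent.H3.FibCatAux Groth.Agent.H3.GerbAux Groth.Agent.H3.FpCalc Groth.Agent.H3.TwoCart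
  Groth.Agent.H3.AlgStAux Groth.Agent.H3.BaseChangeSp Groth.Agent.H3.AlgStComp
  Groth.Agent.H3.AlgStProps Groth.Agent.H3.AlgStBridge2 Groth.Agent.H3.AlgStDiagProp
  Groth.Agent.H3.AlgSpCov Groth.Agent.H3.AlgStCharts Groth.Agent.H3.AlgStLES
  Groth.Agent.H3.AlgStDescent Groth.Agent.H3.AlgStCancel Groth.Agent.H3.AlgStDiagFacts
  Groth.Agent.H3.RepBridge Groth.Agent.H3.AlgStDiagLft Groth.Agent.H3.AlgStDiagRep
open AlgSp

variable {S : Scheme.{u}} {𝒳 𝒴 : AlgSt.Cat S}

/-- for `f` representable by algebraic spaces, the diagonal of `f` has `P` iff the diagonals of all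
the morphisms of algebraic spaces obtained by base change to schemes have `P` -/
theorem repByAlgSpWith_diag_iff (P : MorphismProperty (Sp S)) (hPb : BaseChangeSp P)
    (hP : OfCharts P) (h𝒳 : FibCat.IsFibGrpd 𝒳.p) (h𝒴 : FibCat.IsFibGrpd 𝒴.p) (f : 𝒳 ⥤ᵇ 𝒴)
    (hf : AlgSt.RepByAlgSp1 f) :
    AlgSt.RepByAlgSpWith P (FibCat.diag f) ↔
      ∀ (U : Over S) (y : FibCat.overCat U ⥤ᵇ 𝒴) (G : Space S)
        (e : AlgSt.ofSp G.obj ⥤ᵇ FibCat.fp y f), FibCat.IsEquivOver e →
        P (pullback.diagonal (AlgSt.spMapOfOver (BasedFunctor.comp e (FibCat.fpFst y f)))) := by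
  constructor
  · intro h U y G e he
    have h1 : AlgSt.RepByAlgSpWith P (FibCat.diag (FibCat.fpFst y f)) :=
      repByAlgSpWith_of_isTwoCartOver _ (dbcM f y) (FibCat.diag f) (FibCat.diag (FibCat.fpFst y f))
        (FibCat.fpSnd y f) (dbcE f y) (dbc_isTwoCartOver f y) h
    exact (repByAlgSpWith_diag_iff_of_space P hPb hP _ G e he).1 h1
  · exact repByAlgSpWith_diag_of_rep P hPb hP h𝒳 h𝒴 f hf

lemma isQuasiSeparatedMor_diagonal {X Y : Sp S} (a : X ⟶ Y) :
    IsQuasiSeparatedMor (pullback.diagonal a) := by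
  have : IsIso (pullback.diagonal (pullback.diagonal a)) :=
    (pullback.isIso_diagonal_iff _).2 inferInstance
  exact (RepWith (S := S) @QuasiCompact).of_isIso _

lemma good_isFiniteTypeMor : Good (IsFiniteTypeMor (S := S)) :=
  good_lft.and good_isQuasiCompactMor

section QS

variable (h𝒳 : FibCat.IsFibGrpd 𝒳.p) (h𝒴 : FibCat.IsFibGrpd 𝒴.p) (f : 𝒳 ⥤ᵇ 𝒴)
  (hf : AlgSt.RepByAlgSp1 f)

include h𝒳 h𝒴 hf

omit h𝒳 h𝒴 in
lemma repByAlgSpWith_iff_forall' (Q : MorphismProperty (Sp S)) (hQb : BaseChangeSp Q)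
    (hQ : OfCharts Q) :
    AlgSt.RepByAlgSpWith Q f ↔
      ∀ (U : Over S) (y : FibCat.overCat U ⥤ᵇ 𝒴) (G : Space S)
        (e : AlgSt.ofSp G.obj ⥤ᵇ FibCat.fp y f), FibCat.IsEquivOver e →
        Q (AlgSt.spMapOfOver (BasedFunctor.comp e (FibCat.fpFst y f))) := by
  rw [repByAlgSpWith_iff_forall Q hQb hQ f]
  exact ⟨fun h => h.2, fun h => ⟨hf, h⟩⟩

/-- S12944, (1) ⇔ (2) -/
theorem qs_iff_diag_qc :
    AlgSt.RepByAlgSpWith IsQuasiSeparatedMor f ↔
      AlgSt.RepByAlgSpWith IsQuasiCompactMor (FibCat.diag f) := by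
  rw [repByAlgSpWith_iff_forall' f hf _ good_isQuasiSeparatedMor.bc
      good_isQuasiSeparatedMor.toC.charts,
    repByAlgSpWith_diag_iff _ good_isQuasiCompactMor.bc good_isQuasiCompactMor.toC.charts h𝒳 h𝒴 f hf]
  refine forall₅_congr (fun U y G e he => ?_)
  exact Groth.Agent.H5.AlgSp.repWith_quasiCompact_iff
    (Groth.Agent.H5.AlgSp.repWith_relDiag_of_isAlgSpace G.property _).1

/-- S12944, (2) ⇔ (3) -/
theorem diag_qc_iff_diag_ft :
    AlgSt.RepByAlgSpWith IsQuasiCompactMor (FibCat.diag f) ↔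
      AlgSt.RepByAlgSpWith IsFiniteTypeMor (FibCat.diag f) := by
  rw [repByAlgSpWith_diag_iff _ good_isQuasiCompactMor.bc good_isQuasiCompactMor.toC.charts h𝒳 h𝒴 f hf,
    repByAlgSpWith_diag_iff _ good_isFiniteTypeMor.bc good_isFiniteTypeMor.toC.charts h𝒳 h𝒴 f hf]
  refine forall₅_congr (fun U y G e he => ?_)
  exact ⟨fun h => ⟨locP_lft_diagonal G.property _, h⟩, fun h => h.2⟩

/-- S12945 -/
theorem isQuasiSeparatedMor_iff :
    AlgSt.IsQuasiSeparatedMor f ↔ AlgSt.RepByAlgSpWith AlgSp.IsQuasiSeparatedMor f := by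
  rw [qs_iff_diag_qc h𝒳 h𝒴 f hf]
  unfold AlgSt.IsQuasiSeparatedMor
  rw [repByAlgSpWith_diag_iff _ good_isQuasiCompactMor.bc good_isQuasiCompactMor.toC.charts h𝒳 h𝒴 f hf,
    repByAlgSpWith_diag_iff _ good_qcqs.bc good_qcqs.toC.charts h𝒳 h𝒴 f hf]
  refine forall₅_congr (fun U y G e he => ?_)
  exact ⟨fun h => h.1, fun h => ⟨h, isQuasiSeparatedMor_diagonal _⟩⟩

end QS

section Sep

lemma good_isUnivClosedMor : Good (IsUnivClosedMor (S := S)) where
  bc := baseChangeSp_of_bcStable (bcStable_univSp _)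
  comp := fun X Y Z _ _ hZ a b ha hb => by
    intro W W' hW g fst snd sq
    -- base change of `a ≫ b` along `g` factors through the base change of `b`
    have sq2 := IsPullback.of_hasPullback b g
    let m : W' ⟶ pullback b g := pullback.lift (fst ≫ a) snd (by rw [Category.assoc, sq.w])
    have hm1 : m ≫ pullback.fst b g = fst ≫ a := pullback.lift_fst _ _ _
    have hm2 : m ≫ pullback.snd b g = snd := pullback.lift_snd _ _ _
    have sq1 : IsPullback fst m a (pullback.fst b g) := by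
      refine (IsPullback.of_right ?_ hm1 sq2.flip).flip
      rw [hm2]; exact sq.flip
    have hP : IsAlgSpace (pullback b g) :=
      Groth.Agent.H5.AlgSp.isAlgSpace_pullback hZ.diag ‹IsAlgSpace Y› hW sq2
    have h1 : IsClosedMap (Points.map m) := ha hP (pullback.fst b g) fst m sq1
    have h2 : IsClosedMap (Points.map (pullback.snd b g)) := hb hW g _ _ sq2
    have h3 : Points.map snd = Points.map (pullback.snd b g) ∘ Points.map m := by
      funext x
      rw [← hm2, Points.map_comp]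
      rfl
    show IsClosedMap (Points.map snd)
    rw [h3]
    exact h2.comp h1
  loc := isLocalOnBase_fppf_of_fpqc isLocalOnBase_fpqc_isUnivClosedMor

variable (h𝒳 : FibCat.IsFibGrpd 𝒳.p) (h𝒴 : FibCat.IsFibGrpd 𝒴.p) (f : 𝒳 ⥤ᵇ 𝒴)
  (hf : AlgSt.RepByAlgSp1 f)

include h𝒳 h𝒴 hf

/-- S12943 -/
theorem separated_tfae :
    [AlgSt.RepByAlgSpWith AlgSp.IsSeparatedMor f, AlgSt.IsClosedImm (FibCat.diag f),
      AlgSt.IsSeparatedMor f, AlgSt.RepByAlgSpWith AlgSp.IsUnivClosedMor (FibCat.diag f)].TFAE := by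
  have hci : GoodC (RepWith (S := S) @IsClosedImmersion) := goodC_repWith _
  have e1 := repByAlgSpWith_iff_forall' f hf _ good_isSeparatedMor.bc good_isSeparatedMor.toC.charts
  have e2 := repByAlgSpWith_diag_iff _ hci.bc hci.charts h𝒳 h𝒴 f hf
  have e3 := repByAlgSpWith_diag_iff _ good_isProperMor.bc good_isProperMor.toC.charts h𝒳 h𝒴 f hf
  have e4 := repByAlgSpWith_diag_iff _ good_isUnivClosedMor.bc good_isUnivClosedMor.toC.charts
    h𝒳 h𝒴 f hf
  tfae_have 1 ↔ 2 := by
    unfold AlgSt.IsClosedImm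
    rw [e1, e2]
    exact Iff.rfl
  tfae_have 2 → 3 := by
    unfold AlgSt.IsClosedImm AlgSt.IsSeparatedMor
    rw [e2, e3]
    intro h U y G e he
    exact Groth.Agent.H5.AlgSp.isProperMor_of_isClosedImmersion (h U y G e he)
  tfae_have 3 → 4 := by
    unfold AlgSt.IsSeparatedMor
    rw [e3, e4]
    intro h U y G e he
    exact (h U y G e he).2.2
  tfae_have 4 → 2 := by
    unfold AlgSt.IsClosedImm
    rw [e2, e4]
    intro h U y G e he
    obtain ⟨h0, h1, h2, -, -⟩ := Groth.Agent.H5.AlgSp.repWith_relDiag_of_isAlgSpace G.property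
      (AlgSt.spMapOfOver (BasedFunctor.comp e (FibCat.fpFst y f)))
    have h3 := (Groth.Agent.H5.AlgSp.repWith_universallyClosed_iff h0).2 (h U y G e he)
    refine ⟨h0, fun T V g fst snd sq => ?_⟩
    have hm : Mono snd.left := h2.property g fst snd sq
    have hl : LocallyOfFiniteType snd.left := h1.property g fst snd sq
    have hu : UniversallyClosed snd.left := h3.property g fst snd sq
    have hp : IsProper snd.left := { }
    exact (IsClosedImmersion.iff_isProper_and_mono (f := snd.left)).2 ⟨hp, hm⟩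
  tfae_finish

end Sep

end Groth.Agent.H3.AlgStDiagIff
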