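import Mathlib
import Groth.Agent.Lib.Helper3.AlgSt.QCMor
import Groth.Agent.Lib.Helper3.AlgSt.DiagIff
import Groth.Agent.Lib.Helper5.AlgSp.ProdSp

/-!
# Quasi-compactness over a quasi-separated base (helper3)

S12987, S12988.
-/

set_option autoImplicit false
universe u
open CategoryTheory CategoryTheory.Functor CategoryTheory.Limits Opposite AlgebraicGeometry

noncomputable section

namespace Groth.Agent.H3.AlgStQCMor

open Groth.Agent.H3.FibCatAux Groth.Agent.H3.GerbAux Groth.Agent.H3.FpCalc Groth.Agent.H3.TwoCart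
  Groth.Agent.H3.StackPsh Groth.Agent.H3.PshBridge Groth.Agent.H3.AlgStAux Groth.Agent.H3.RepBridge
  Groth.Agent.H3.SetoidPsh Groth.Agent.H3.BaseChangeSp Groth.Agent.H3.AlgStComp
  Groth.Agent.H3.AlgStProps Groth.Agent.H3.AlgStBridge2 Groth.Agent.H3.AlgStCharts
  Groth.Agent.H3.AlgStDescent Groth.Agent.H3.Whisker Groth.Agent.H3.AlgStLES
  Groth.Agent.H3.FPtRel Groth.Agent.H3.AlgStStackRep Groth.Agent.H3.TwoYoneda
  Groth.Agent.H3.AlgStPoints Groth.Agent.H3.AlgStAlgebraic Groth.Agent.H3.AlgStProd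

variable {S : Scheme.{u}} {𝒳 𝒴 𝒵 : AlgSt.Cat S}

/-- the base is an algebraic stack -/
theorem isAlgStack_selfOver :
    AlgSt.IsAlgStack Scheme.fppfPrecoverage (FibCat.selfOver (Over S)) :=
  isAlgStack_of_isEquivOver (FibCat.toSelf (Stk.ofPsh (termSp (S := S)).obj))
    isEquivOver_toSelf_termSp
    (isAlgStack_ofSp ⟨termSp, AlgSp.IsAlgSpace.yon_obj _⟩)

theorem isQuasiSeparatedSp_termSp : AlgSp.IsQuasiSeparatedSp (termSp (S := S)) := by
  have : IsIso (Limits.diag (termSp (S := S))) := by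
    refine ⟨⟨prod.fst, Limits.prod.lift_fst _ _, ?_⟩⟩
    apply Limits.prod.hom_ext
    · rw [Category.assoc, Limits.prod.lift_fst, Category.comp_id, Category.id_comp]
    · rw [Category.assoc, Limits.prod.lift_snd, Category.comp_id, Category.id_comp]
      exact termSpIsTerminal.hom_ext _ _
  change AlgSp.RepWith @QuasiCompact (Limits.diag (termSp (S := S)))
  have h := (AlgSp.RepWith (S := S) @QuasiCompact).id_mem (termSp (S := S) ⨯ termSp (S := S))
  have := (MorphismProperty.cancel_left_of_respectsIso (AlgSp.RepWith (S := S) @QuasiCompact)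
    (Limits.diag (termSp (S := S))) (𝟙 _)).2 h
  rwa [Category.comp_id] at this

/-- over a quasi-separated base, the structure functor of a quasi-compact scheme is
quasi-compact -/
theorem rep_qc_toSelf_overCat [QuasiSeparatedSpace ↥S] (V : Over S) [CompactSpace ↥V.left] :
    AlgSt.RepByAlgSpWith AlgSp.IsQuasiCompactMor (FibCat.toSelf (FibCat.overCat V)) := by
  let tV : (AlgSp.yon S).obj V ⟶ termSp := termSpIsTerminal.from _
  have h1 : AlgSp.IsQuasiCompactMor tV :=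
    Groth.Agent.H5.AlgSp.isQuasiCompactMor_of_isQuasiCompactSp
      ((Groth.Agent.H5.AlgSp.isQuasiCompactSp_yon_iff V).2 inferInstance)
      isQuasiSeparatedSp_termSp tV
  have h2 : AlgSt.RepByAlgSpWith AlgSp.IsQuasiCompactMor (Stk.ofPshMap tV.hom) :=
    (repByAlgSpWith_ofPshMap_iff _ good_isQuasiCompactMor.bc good_isQuasiCompactMor.toC.charts
      (AlgSp.IsAlgSpace.yon_obj V) (AlgSp.IsAlgSpace.yon_obj _) tV).2 h1
  let ε : BasedFunctor.comp (Stk.ofPshMap tV.hom)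
        (FibCat.toSelf (Stk.ofPsh (termSp (S := S)).obj)) ≅
      BasedFunctor.comp (toOver V) (FibCat.toSelf (FibCat.overCat V)) :=
    eqToIso ((eq_toSelf _).trans (eq_toSelf _).symm)
  exact repByAlgSpWith_of_square' _ (FibCat.toSelf (FibCat.overCat V)) (Stk.ofPshMap tV.hom)
    (toOver V) (FibCat.toSelf (Stk.ofPsh (termSp (S := S)).obj)) (isEquivOver_toOver V)
    isEquivOver_toSelf_termSp ε h2

/-- over a quasi-separated base, the structure functor of a quasi-compact algebraic stack is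
quasi-compact -/
theorem isQuasiCompactMor_toSelf [QuasiSeparatedSpace ↥S]
    (h𝒳 : AlgSt.IsAlgStack Scheme.fppfPrecoverage 𝒳) (hqc : AlgSt.IsQuasiCompact 𝒳) :
    AlgSt.IsQuasiCompactMor Scheme.fppfPrecoverage (FibCat.toSelf 𝒳) := by
  obtain ⟨V, v, hVa, hv₁, hv₂⟩ := hqc
  have e : BasedFunctor.comp v (FibCat.toSelf 𝒳) ≅ FibCat.toSelf (FibCat.overCat V) :=
    eqToIso (eq_toSelf _)
  exact isQuasiCompactMor_of_triangle (isAlgStack_overCat V) h𝒳 isAlgStack_selfOver v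
    (FibCat.toSelf (FibCat.overCat V)) (FibCat.toSelf 𝒳) e
    (isSurjective_of_rep h𝒳.isStack.1 v hv₂)
    (isQuasiCompactMor_of_rep (isAlgStack_overCat V) isAlgStack_selfOver _
      (rep_qc_toSelf_overCat V))

/-- **S12987** -/
theorem isQuasiCompactMor_of_isQuasiCompact [QuasiSeparatedSpace ↥S]
    (h𝒳 : AlgSt.IsAlgStack Scheme.fppfPrecoverage 𝒳)
    (h𝒴 : AlgSt.IsAlgStack Scheme.fppfPrecoverage 𝒴) (f : 𝒳 ⥤ᵇ 𝒴)
    (hX : AlgSt.IsQuasiCompact 𝒳) (hY : AlgSt.IsQuasiSeparatedOver 𝒴) :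
    AlgSt.IsQuasiCompactMor Scheme.fppfPrecoverage f := by
  have h1 := isQuasiCompactMor_toSelf h𝒳 hX
  have h2 : BasedFunctor.comp f (FibCat.toSelf 𝒴) = FibCat.toSelf 𝒳 := eq_toSelf _
  rw [← h2] at h1
  exact isQuasiCompactMor_of_comp h𝒳 h𝒴 isAlgStack_selfOver f (FibCat.toSelf 𝒴) h1 hY

/-- base change of a quasi-separated 1-morphism (S12954) -/
theorem isQuasiSeparatedMor_fpFst (f : 𝒳 ⥤ᵇ 𝒴) (g : 𝒵 ⥤ᵇ 𝒴)
    (hf : AlgSt.IsQuasiSeparatedMor f) : AlgSt.IsQuasiSeparatedMor (FibCat.fpFst g f) :=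
  repByAlgSpWith_of_isTwoCartOver _ (dbcM f g) (FibCat.diag f) (FibCat.diag (FibCat.fpFst g f))
    (FibCat.fpSnd g f) (dbcE f g) (dbc_isTwoCartOver f g) hf

/-- the 2-fibre product of algebraic stacks quasi-separated over the base is quasi-separated
over the base, if the base of the fibre product is -/
theorem isQuasiSeparatedOver_fp (h𝒳 : AlgSt.IsAlgStack Scheme.fppfPrecoverage 𝒳)
    (h𝒴 : AlgSt.IsAlgStack Scheme.fppfPrecoverage 𝒴)
    (h𝒵 : AlgSt.IsAlgStack Scheme.fppfPrecoverage 𝒵) (a : 𝒳 ⥤ᵇ 𝒴) (b : 𝒵 ⥤ᵇ 𝒴)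
    (hX : AlgSt.IsQuasiSeparatedOver 𝒳) (hY : AlgSt.IsQuasiSeparatedOver 𝒴)
    (hZ : AlgSt.IsQuasiSeparatedOver 𝒵) : AlgSt.IsQuasiSeparatedOver (FibCat.fp a b) := by
  have hS := isAlgStack_selfOver (S := S)
  obtain ⟨t, ht⟩ : ∃ t : 𝒴 ⥤ᵇ FibCat.selfOver (Over S), t = FibCat.toSelf 𝒴 := ⟨_, rfl⟩
  have hab : AlgSt.IsAlgStack Scheme.fppfPrecoverage (FibCat.fp a b) :=
    isAlgStack_fp h𝒴.isStack h𝒴.diag h𝒳 h𝒵 a b
  have hP : AlgSt.IsAlgStack Scheme.fppfPrecoverage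
      (FibCat.fp (BasedFunctor.comp a t) (BasedFunctor.comp b t)) :=
    isAlgStack_fp hS.isStack hS.diag h𝒳 h𝒵 _ _
  -- the comparison functor is quasi-separated
  have hm : AlgSt.RepByAlgSpWith (AlgSp.IsQuasiCompactMor ⊓ AlgSp.IsQuasiSeparatedMor)
      (magicI a b t (magicIso a b t)) := by
    rw [ht]
    exact repByAlgSpWith_magicI' _ a b (FibCat.toSelf 𝒴) hY
  have hm1 : AlgSt.RepByAlgSp1 (magicI a b t (magicIso a b t)) :=
    repByAlgSp1_of_repByAlgSpWith hm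
  have hm2 : AlgSt.IsQuasiSeparatedMor (magicI a b t (magicIso a b t)) :=
    (Groth.Agent.H3.AlgStDiagIff.isQuasiSeparatedMor_iff hab.isStack.1 hP.isStack.1 _ hm1).2
      (AlgStDiagLft.repByAlgSpWith_mono (fun _ _ _ h => h.2) hm)
  -- the product is quasi-separated over the base
  have hat : BasedFunctor.comp a t = FibCat.toSelf 𝒳 := eq_toSelf _
  have hbt : BasedFunctor.comp b t = FibCat.toSelf 𝒵 := eq_toSelf _
  have hpr : AlgSt.IsQuasiSeparatedMor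
      (FibCat.toSelf (FibCat.fp (BasedFunctor.comp a t) (BasedFunctor.comp b t))) := by
    have h1 : AlgSt.IsQuasiSeparatedMor
        (FibCat.fpFst (BasedFunctor.comp a t) (BasedFunctor.comp b t)) := by
      apply isQuasiSeparatedMor_fpFst
      rw [hbt]
      exact hZ
    have h2 : BasedFunctor.comp (FibCat.fpFst (BasedFunctor.comp a t) (BasedFunctor.comp b t))
        (FibCat.toSelf 𝒳) = FibCat.toSelf _ := eq_toSelf _
    rw [← h2]
    exact Groth.Agent.H3.AlgStDiagRep.repByAlgSpWith_diag_comp _ _ _ good_qcqs hP.isStack.1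
      h𝒳.isStack.1 h1 hX
  have h3 : BasedFunctor.comp (magicI a b t (magicIso a b t))
      (FibCat.toSelf (FibCat.fp (BasedFunctor.comp a t) (BasedFunctor.comp b t))) =
        FibCat.toSelf (FibCat.fp a b) := eq_toSelf _
  show AlgSt.IsQuasiSeparatedMor (FibCat.toSelf (FibCat.fp a b))
  rw [← h3]
  exact Groth.Agent.H3.AlgStDiagRep.repByAlgSpWith_diag_comp _ _ _ good_qcqs hab.isStack.1
    hP.isStack.1 hm2 hpr

/-- **S12988** -/
theorem qcqs_fp [QuasiSeparatedSpace ↥S] (h𝒳 : AlgSt.IsAlgStack Scheme.fppfPrecoverage 𝒳)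
    (h𝒴 : AlgSt.IsAlgStack Scheme.fppfPrecoverage 𝒴)
    (h𝒵 : AlgSt.IsAlgStack Scheme.fppfPrecoverage 𝒵) (a : 𝒳 ⥤ᵇ 𝒴) (b : 𝒵 ⥤ᵇ 𝒴)
    (hXc : AlgSt.IsQuasiCompact 𝒳) (hX : AlgSt.IsQuasiSeparatedOver 𝒳)
    (hY : AlgSt.IsQuasiSeparatedOver 𝒴)
    (hZc : AlgSt.IsQuasiCompact 𝒵) (hZ : AlgSt.IsQuasiSeparatedOver 𝒵) :
    AlgSt.IsQuasiCompact (FibCat.fp a b) ∧ AlgSt.IsQuasiSeparatedOver (FibCat.fp a b) :=
  ⟨isQuasiCompactMor_of_isQuasiCompact h𝒵 h𝒴 b hZc hY 𝒳 h𝒳 hXc a,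
    isQuasiSeparatedOver_fp h𝒳 h𝒴 h𝒵 a b hX hY hZ⟩

end Groth.Agent.H3.AlgStQCMor
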