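import Mathlib
import Groth.Agent.Lib.Helper3.AlgSt.LocQ9

/-!
# `LocQ`: flat + lfp morphisms are open on points (helper3)
-/

set_option autoImplicit false
universe u
open CategoryTheory CategoryTheory.Functor CategoryTheory.Limits Opposite AlgebraicGeometry

noncomputable section

namespace Groth.Agent.H3.AlgStLocQ

open Groth.Agent.H3.FibCatAux Groth.Agent.H3.GerbAux Groth.Agent.H3.FpCalc Groth.Agent.H3.TwoCart
  Groth.Agent.H3.StackPsh Groth.Agent.H3.PshBridge Groth.Agent.H3.AlgStAux Groth.Agent.H3.RepBridge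
  Groth.Agent.H3.SetoidPsh Groth.Agent.H3.BaseChangeSp Groth.Agent.H3.AlgStComp
  Groth.Agent.H3.AlgStProps Groth.Agent.H3.AlgStBridge2 Groth.Agent.H3.AlgStCharts
  Groth.Agent.H3.AlgStDescent Groth.Agent.H3.Whisker Groth.Agent.H3.AlgStLES
  Groth.Agent.H3.FPtRel Groth.Agent.H3.AlgStStackRep Groth.Agent.H3.TwoYoneda
  Groth.Agent.H3.AlgStPoints Groth.Agent.H3.AlgStAlgebraic Groth.Agent.H3.AlgStQCMor
  Groth.Agent.H3.AlgStSmoothLoc Groth.Agent.H3.SmSrc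

variable {S : Scheme.{u}} {𝒳 𝒴 𝒵 : AlgSt.Cat S} {P : MorphismProperty (AlgSp.Sp S)}

/-- **S13008**: a flat, locally finitely presented morphism of algebraic stacks is open on points. -/
theorem isOpenMor_of_locQ (h𝒳 : AlgSt.IsAlgStack Scheme.fppfPrecoverage 𝒳)
    (h𝒴 : AlgSt.IsAlgStack Scheme.fppfPrecoverage 𝒴) (f : 𝒳 ⥤ᵇ 𝒴)
    (hf₁ : AlgSt.LocQ (AlgSp.LocP @Flat) f)
    (hf₂ : AlgSt.LocQ (AlgSp.LocP @LocallyOfFinitePresentation) f) : AlgSt.IsOpenMor f := by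
  obtain ⟨U, x, hx₁, hx₂⟩ := h𝒳.atlas
  have h1 := rep_chart_comp isSmoothLocalST_flat good_flat
    (AlgStDiagLft.locP_mono AlgStDiagLft.smooth_le_flat) h𝒳 h𝒴 f hf₁ x hx₁
  have h2 := rep_chart_comp isSmoothLocalST_lfp good_lfp
    (AlgStDiagLft.locP_mono AlgStDiagLft.smooth_le_lfp) h𝒳 h𝒴 f hf₂ x hx₁
  have hopen := isOpenMap_ofChart h𝒴.isStack.1 U (BasedFunctor.comp x f) h1 h2
  have hcont := continuous_ofChart h𝒳 U x
  have hsurj := ofChart_surjective h𝒳.isStack.1 x hx₂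
  intro O hO
  have key : AlgSt.Points.map f '' O =
      AlgSt.Points.ofChart (BasedFunctor.comp x f) '' (AlgSt.Points.ofChart x ⁻¹' O) := by
    ext p
    constructor
    · rintro ⟨q, hq, rfl⟩
      obtain ⟨u, rfl⟩ := hsurj q
      exact ⟨u, hq, rfl⟩
    · rintro ⟨u, hu, rfl⟩
      exact ⟨AlgSt.Points.ofChart x u, hu, rfl⟩
  rw [key]
  exact hopen _ (hO.preimage hcont)

end Groth.Agent.H3.AlgStLocQ
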