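import Mathlib
import Groth.Agent.Lib.Helper3.AlgSt.LocQ10

/-!
# `LocQ`: the diagonal of a morphism locally of finite type (helper3)
-/

set_option autoImplicit false
universe u
open CategoryTheory CategoryTheory.Functor CategoryTheory.Limits Opposite AlgebraicGeometry

noncomputable section

namespace Groth.Agent.H3.AlgStLocQ

open Groth.Agent.H3.FibCatAux Groth.Agent.H3.GerbAux Groth.Agent.H3.FpCalc Groth.Agent.H3.TwoCart
  Groth.Agent.H3.StackPsh Groth.Agent.H3.PshBridge Groth.Agent.H3.AlgStAux Groth.Agent.H3.RepBridge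
  Groth.Agent.H3.SetoidPsh Groth.Agent.H3.BaseChangeSp Groth.Agent.H3.AlgStComp
  Groth.Agent.H3.AlgStProps Groth.Agent.H3.AlgStBridge2 Groth.Agent.H3.AlgStCharts
  Groth.Agent.H3.AlgStDescent Groth.Agent.H3.Whisker Groth.Agent.H3.AlgStLES
  Groth.Agent.H3.FPtRel Groth.Agent.H3.AlgStStackRep Groth.Agent.H3.TwoYoneda
  Groth.Agent.H3.AlgStPoints Groth.Agent.H3.AlgStAlgebraic Groth.Agent.H3.AlgStQCMor
  Groth.Agent.H3.AlgStSmoothLoc Groth.Agent.H3.SmSrc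

variable {S : Scheme.{u}} {𝒳 𝒴 𝒵 : AlgSt.Cat S} {P : MorphismProperty (AlgSp.Sp S)}

/-- **S13006**: the diagonal of a morphism locally of finite type is locally of finite
presentation. -/
theorem locQ_lfp_diag (h𝒳 : AlgSt.IsAlgStack Scheme.fppfPrecoverage 𝒳)
    (h𝒴 : AlgSt.IsAlgStack Scheme.fppfPrecoverage 𝒴) (f : 𝒳 ⥤ᵇ 𝒴)
    (hf : AlgSt.LocQ (AlgSp.LocP @LocallyOfFiniteType) f) :
    AlgSt.LocQ (AlgSp.LocP @LocallyOfFinitePresentation) (FibCat.diag f) := by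
  have hfp : AlgSt.IsAlgStack Scheme.fppfPrecoverage (FibCat.fp f f) :=
    isAlgStack_fp h𝒴.isStack h𝒴.diag h𝒳 h𝒳 f f
  have h1 : AlgSt.LocQ (AlgSp.LocP @LocallyOfFiniteType) (FibCat.fpFst f f) :=
    locQ_fpFst isSmoothLocalST_lft good_lft.bc h𝒳 h𝒴 h𝒳 f f hf
  have h2 : AlgSt.LocQ (AlgSp.LocP @LocallyOfFinitePresentation)
      (BasedFunctor.comp (FibCat.diag f) (FibCat.fpFst f f)) := by
    have e : BasedFunctor.comp (FibCat.diag f) (FibCat.fpFst f f) = BasedFunctor.id 𝒳 := by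
      apply basedFunctor_ext; rfl
    rw [e]
    exact locQ_of_rep isSmoothLocalST_lfp h𝒳 _
      (repByAlgSpWith_id _ (fun X => Groth.Agent.H3.AlgSpCov.locP_id
        Groth.Agent.H5.AlgSp.etale_le_lfp X) 𝒳)
  exact locQ_lfp_of_comp h𝒳 hfp h𝒳 (FibCat.diag f) (FibCat.fpFst f f) h2 h1

end Groth.Agent.H3.AlgStLocQ
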