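import Mathlib
import Groth.Agent.Lib.Helper3.AlgSt.LocQ11

/-!
# Lifting objects along jointly surjective flat families (helper3)
-/

set_option autoImplicit false
universe u
open CategoryTheory CategoryTheory.Functor CategoryTheory.Limits Opposite AlgebraicGeometry

noncomputable section

namespace Groth.Agent.H3.AlgStLocQ

open Groth.Agent.H3.FibCatAux Groth.Agent.H3.GerbAux Groth.Agent.H3.FpCalc Groth.Agent.H3.TwoCart
  Groth.Agent.H3.StackPsh Groth.Agent.H3.PshBridge Groth.Agent.H3.AlgStAux Groth.Agent.H3.RepBridge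
  Groth.Agent.H3.SetoidPsh Groth.Agent.H3.BaseChangeSp Groth.Agent.H3.AlgStComp
  Groth.Agent.H3.AlgStProps Groth.Agent.H3.AlgStBridge2 Groth.Agent.H3.AlgStCharts
  Groth.Agent.H3.AlgStDescent Groth.Agent.H3.Whisker Groth.Agent.H3.AlgStLES
  Groth.Agent.H3.FPtRel Groth.Agent.H3.AlgStStackRep Groth.Agent.H3.TwoYoneda
  Groth.Agent.H3.AlgStPoints Groth.Agent.H3.AlgStAlgebraic Groth.Agent.H3.AlgStQCMor
  Groth.Agent.H3.AlgStSmoothLoc Groth.Agent.H3.SmSrc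

variable {S : Scheme.{u}} {𝒳 𝒴 𝒵 : AlgSt.Cat S} {P : MorphismProperty (AlgSp.Sp S)}

/-- a chart of the target of a flat, locally finitely presented 1-morphism representable by
algebraic spaces lifts after a flat, locally finitely presented morphism whose image contains
every point mapping into the image of the 1-morphism -/
theorem exists_fppf_chart_pt (h𝒵 : FibCat.IsFibGrpd 𝒵.p) (h𝒴 : FibCat.IsFibGrpd 𝒴.p)
    (z : 𝒵 ⥤ᵇ 𝒴) (hz₁ : AlgSt.RepByAlgSpWith (AlgSp.LocP @Flat) z)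
    (hz₂ : AlgSt.RepByAlgSpWith (AlgSp.LocP @LocallyOfFinitePresentation) z)
    (U : Over S) (y : FibCat.overCat U ⥤ᵇ 𝒴) :
    ∃ (T : Over S) (c : T ⟶ U) (t : FibCat.overCat T ⥤ᵇ 𝒵), Flat c.left ∧
      LocallyOfFinitePresentation c.left ∧
      (∀ u : ↥U.left, AlgSt.Points.ofChart y u ∈ Set.range (AlgSt.Points.map z) →
        u ∈ Set.range c.left) ∧
      Nonempty (BasedFunctor.comp t z ≅ BasedFunctor.comp (AlgSt.overMap c) y) := by
  obtain ⟨G, e, he, hb1⟩ := hz₁ U y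
  have hb2 := ((repByAlgSpWith_iff_forall _ good_lfp.bc good_lfp.toC.charts z).1 hz₂).2 U y G e he
  obtain ⟨b, hb⟩ : ∃ b, b = AlgSt.spMapOfOver (BasedFunctor.comp e (FibCat.fpFst y z)) := ⟨_, rfl⟩
  rw [← hb] at hb1 hb2
  obtain ⟨T, q, hqe, hqs⟩ := G.property.atlas
  obtain ⟨c, hc⟩ : ∃ c : T ⟶ U, (AlgSp.yon S).map c = q ≫ b :=
    ⟨(AlgSp.yon S).preimage (q ≫ b), by simp⟩
  have hc1 : Flat c.left := by
    have : AlgSp.LocP @Flat ((AlgSp.yon S).map c) := by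
      rw [hc]; exact Groth.Agent.H5.AlgSp.locP_comp_etale hqe hb1
    exact AlgSp.locP_yon_map this
  have hc2 : LocallyOfFinitePresentation c.left := by
    have : AlgSp.LocP @LocallyOfFinitePresentation ((AlgSp.yon S).map c) := by
      rw [hc]; exact Groth.Agent.H5.AlgSp.locP_comp_etale hqe hb2
    exact AlgSp.locP_yon_map this
  have hc3 : ∀ u : ↥U.left, AlgSt.Points.ofChart y u ∈ Set.range (AlgSt.Points.map z) →
      u ∈ Set.range c.left := by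
    rintro u ⟨x, hx⟩
    obtain ⟨w, hw1, -⟩ := exists_point_fp h𝒵 h𝒴 (isFibGrpd_overCat U) z y (chartPt U u) x hx.symm
    obtain ⟨w', rfl⟩ := isSurjective_of_isEquivOver e he w
    obtain ⟨g, rfl⟩ := ptOf_surjective w'
    rw [← points_map_comp, map_chart, ← hb] at hw1
    have h1 := chartPt_injective U hw1
    obtain ⟨t', ht'⟩ := Groth.Agent.H5.AlgSp.points_map_surjective_of_repWith hqs g
    refine ⟨AlgSp.Points.toScheme T t', ?_⟩
    rw [← AlgSp.Points.toScheme_ofPt c (AlgSp.Points.toScheme T t')]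
    have h2 : AlgSp.Points.ofPt ((AlgSp.yon S).map c) (AlgSp.Points.toScheme T t') =
        AlgSp.Points.map ((AlgSp.yon S).map c)
          (AlgSp.Points.ofScheme T (AlgSp.Points.toScheme T t')) := by
      rw [AlgSp.Points.map_ofPt, Category.id_comp]
    rw [h2, AlgSp.Points.ofScheme_toScheme, hc, AlgSp.Points.map_comp, ht']
    exact h1
  -- the lift
  obtain ⟨Ψ, hΨ⟩ : ∃ Ψ : FibCat.overCat T ⥤ᵇ FibCat.fp y z,
      Ψ = BasedFunctor.comp (RepBridge.ofOver T) (BasedFunctor.comp (AlgSt.ofSpMap q) e) :=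
    ⟨_, rfl⟩
  refine ⟨T, c, BasedFunctor.comp Ψ (FibCat.fpSnd y z), hc1, hc2, hc3, ?_⟩
  obtain ⟨Φ, hΦdef⟩ : ∃ Φ : AlgSt.ofSp ((AlgSp.yon S).obj T) ⥤ᵇ FibCat.overCat U,
      Φ = BasedFunctor.comp (AlgSt.ofSpMap q) (BasedFunctor.comp e (FibCat.fpFst y z)) :=
    ⟨_, rfl⟩
  have hΦ : AlgSt.spMapOfOver Φ = (AlgSp.yon S).map c := by
    rw [hc, hΦdef, hb]; exact spMapOfOver_ofSpMap_comp q _
  obtain ⟨ι₁⟩ := projIso Φ
  rw [hΦ] at ι₁
  obtain ⟨ι₂⟩ := overMapIso c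
  have i2 : BasedFunctor.comp Ψ (FibCat.fpFst y z) ≅ AlgSt.overMap c := by
    rw [hΨ]
    have := whiskerL (RepBridge.ofOver T) (ι₁ ≪≫ ι₂)
    rw [hΦdef] at this
    exact this
  have i1 : BasedFunctor.comp (BasedFunctor.comp Ψ (FibCat.fpFst y z)) y ≅
      BasedFunctor.comp (BasedFunctor.comp Ψ (FibCat.fpSnd y z)) z :=
    whiskerL Ψ (FibCat.fpIso y z)
  exact ⟨i1.symm ≪≫ whiskerR i2 y⟩

/-- **S13022** -/
theorem exists_fppf_cover_lifting (h𝒳 : AlgSt.IsAlgStack Scheme.fppfPrecoverage 𝒳)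
    (J : Type u) (𝒳' : J → AlgSt.Cat S)
    (h𝒳' : ∀ j, AlgSt.IsAlgStack Scheme.fppfPrecoverage (𝒳' j)) (f : ∀ j, 𝒳' j ⥤ᵇ 𝒳)
    (hf₁ : ∀ j, AlgSt.LocQ (AlgSp.LocP @Flat) (f j))
    (hf₂ : ∀ j, AlgSt.LocQ (AlgSp.LocP @LocallyOfFinitePresentation) (f j))
    (hf₃ : ∀ p : AlgSt.Points 𝒳, ∃ j, p ∈ Set.range (AlgSt.Points.map (f j)))
    (U : Over S) (x : FibCat.overCat U ⥤ᵇ 𝒳) :
    ∃ (ι : Type u) (V : ι → Over S) (g : ∀ i, V i ⟶ U) (c : ι → J),
      (Presieve.ofArrows (fun i ↦ (V i).left) fun i ↦ (g i).left) ∈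
        Scheme.fppfPrecoverage U.left ∧
      ∀ i, ∃ x' : FibCat.overCat (V i) ⥤ᵇ 𝒳' (c i),
        Nonempty (BasedFunctor.comp x' (f (c i)) ≅ BasedFunctor.comp (AlgSt.overMap (g i)) x) := by
  -- atlases of the sources
  have hat : ∀ j, ∃ (W : Over S) (w : FibCat.overCat W ⥤ᵇ 𝒳' j),
      AlgSt.RepByAlgSpWith (AlgSp.LocP @Smooth) w ∧
        AlgSt.RepByAlgSpWith AlgSp.IsSurjectiveMor w := fun j => (h𝒳' j).atlas
  choose W w hw₁ hw₂ using hat
  have h1 : ∀ j, AlgSt.RepByAlgSpWith (AlgSp.LocP @Flat) (BasedFunctor.comp (w j) (f j)) :=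
    fun j => rep_chart_comp isSmoothLocalST_flat good_flat
      (AlgStDiagLft.locP_mono AlgStDiagLft.smooth_le_flat) (h𝒳' j) h𝒳 (f j) (hf₁ j) (w j) (hw₁ j)
  have h2 : ∀ j, AlgSt.RepByAlgSpWith (AlgSp.LocP @LocallyOfFinitePresentation)
      (BasedFunctor.comp (w j) (f j)) :=
    fun j => rep_chart_comp isSmoothLocalST_lfp good_lfp
      (AlgStDiagLft.locP_mono AlgStDiagLft.smooth_le_lfp) (h𝒳' j) h𝒳 (f j) (hf₂ j) (w j) (hw₁ j)
  have key := fun j => exists_fppf_chart_pt (isFibGrpd_overCat (W j)) h𝒳.isStack.1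
    (BasedFunctor.comp (w j) (f j)) (h1 j) (h2 j) U x
  choose T c t hc1 hc2 hc3 hι using key
  refine ⟨J, T, c, id, ?_, fun j => ?_⟩
  · change Presieve.ofArrows _ _ ∈ Scheme.precoverage _ _
    rw [Scheme.ofArrows_mem_precoverage_iff]
    refine ⟨fun u => ?_, fun j => ⟨hc1 j, hc2 j⟩⟩
    obtain ⟨j, p, hp⟩ := hf₃ (AlgSt.Points.ofChart x u)
    obtain ⟨q, hq⟩ := isSurjective_of_rep (h𝒳' j).isStack.1 (w j) (hw₂ j) p
    exact ⟨j, hc3 j u ⟨q, by rw [points_map_comp, hq, hp]⟩⟩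
  · obtain ⟨ι⟩ := hι j
    exact ⟨BasedFunctor.comp (t j) (w j), ⟨ι⟩⟩

end Groth.Agent.H3.AlgStLocQ
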