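import Mathlib
import Groth.Agent.Lib.Helper3.AlgSt.LocQ12

set_option autoImplicit false
universe u
open CategoryTheory CategoryTheory.Functor CategoryTheory.Limits Opposite AlgebraicGeometry

noncomputable section

namespace Groth.Agent.H3.OpenSub

open Groth.Agent.H3.FibCatAux Groth.Agent.H3.GerbAux Groth.Agent.H3.FpCalc Groth.Agent.H3.TwoCart
  Groth.Agent.H3.StackPsh Groth.Agent.H3.PshBridge Groth.Agent.H3.AlgStAux Groth.Agent.H3.RepBridge
  Groth.Agent.H3.SetoidPsh Groth.Agent.H3.BaseChangeSp Groth.Agent.H3.AlgStComp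
  Groth.Agent.H3.AlgStProps Groth.Agent.H3.AlgStBridge2 Groth.Agent.H3.AlgStCharts
  Groth.Agent.H3.AlgStDescent Groth.Agent.H3.Whisker Groth.Agent.H3.AlgStLES
  Groth.Agent.H3.FPtRel Groth.Agent.H3.AlgStStackRep Groth.Agent.H3.TwoYoneda
  Groth.Agent.H3.AlgStPoints Groth.Agent.H3.AlgStAlgebraic Groth.Agent.H3.AlgStQCMor
  Groth.Agent.H3.AlgStSmoothLoc Groth.Agent.H3.SmSrc Groth.Agent.H3.AlgStLocQ

variable {S : Scheme.{u}} {𝒳 𝒴 𝒵 : AlgSt.Cat S}

/-- the objects of `𝒳` all of whose field points lie in `T` -/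
def subOf (T : Set (AlgSt.Points 𝒳)) : 𝒳.obj → Prop :=
  fun x => ∀ p : AlgSt.FPt 𝒳, Nonempty (p.obj ⟶ x) → AlgSt.Points.mk p ∈ T

lemma subOf_of_hom {T : Set (AlgSt.Points 𝒳)} {x y : 𝒳.obj} (m : x ⟶ y) (hy : subOf T y) :
    subOf T x := fun p ⟨a⟩ => hy p ⟨a ≫ m⟩

lemma subOf_closedUnderIso (T : Set (AlgSt.Points 𝒳)) :
    ObjectProperty.IsClosedUnderIsomorphisms (subOf T) :=
  ⟨fun e hx => subOf_of_hom e.inv hx⟩

lemma subOf_mono {T T' : Set (AlgSt.Points 𝒳)} (h : T ⊆ T') (x : 𝒳.obj) (hx : subOf T x) :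
    subOf T' x := fun p hp => h (hx p hp)

lemma subOf_obj_of_mem {T : Set (AlgSt.Points 𝒳)} (p : AlgSt.FPt 𝒳) (hp : AlgSt.Points.mk p ∈ T) :
    subOf T p.obj := by
  rintro q ⟨a⟩
  rw [AlgSt.Points.sound (rel_of_hom a)]
  exact hp

theorem range_subIncl_subOf (T : Set (AlgSt.Points 𝒳)) :
    Set.range (AlgSt.Points.map (AlgSt.subIncl 𝒳 (subOf T))) = T := by
  apply Set.eq_of_subset_of_subset
  · rintro _ ⟨z, rfl⟩
    obtain ⟨p, rfl⟩ := AlgSt.Points.mk_surjective z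
    rw [AlgSt.Points.map_mk]
    exact p.obj.property (p.map (AlgSt.subIncl 𝒳 (subOf T))) ⟨𝟙 _⟩
  · intro t ht
    obtain ⟨p, rfl⟩ := AlgSt.Points.mk_surjective t
    exact ⟨AlgSt.Points.mk ⟨p.K, p.str, ⟨p.obj, subOf_obj_of_mem p ht⟩, p.lies⟩, rfl⟩

/-- the range of the inclusion of a full subcategory, pointwise -/
lemma mem_range_subIncl_iff (Q : 𝒳.obj → Prop) (t : AlgSt.Points 𝒳) :
    t ∈ Set.range (AlgSt.Points.map (AlgSt.subIncl 𝒳 Q)) ↔
      ∃ p : AlgSt.FPt 𝒳, AlgSt.Points.mk p = t ∧ Q p.obj := by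
  constructor
  · rintro ⟨z, rfl⟩
    obtain ⟨p, rfl⟩ := AlgSt.Points.mk_surjective z
    exact ⟨p.map (AlgSt.subIncl 𝒳 Q), rfl, p.obj.property⟩
  · rintro ⟨p, rfl, hp⟩
    exact ⟨AlgSt.Points.mk ⟨p.K, p.str, ⟨p.obj, hp⟩, p.lies⟩, rfl⟩

/-- a field point mapping to a value of a chart is the image of a point of the scheme -/
theorem mk_mem_range_ofChart (h𝒳 : FibCat.IsFibGrpd 𝒳.p) {V : Over S}
    (y : FibCat.overCat V ⥤ᵇ 𝒳) (p : AlgSt.FPt 𝒳) (c : (FibCat.overCat V).obj)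
    (m : p.obj ⟶ y.obj c) :
    ∃ v : ↥c.left.left, AlgSt.Points.mk p = AlgSt.Points.ofChart y (c.hom.left v) := by
  have hc : 𝒳.p.obj (y.obj c) = c.left := y.w_obj c
  obtain ⟨g, hg⟩ : ∃ g : Over.mk p.str ⟶ c.left, g = eqToHom p.lies.symm ≫ 𝒳.p.map m ≫ eqToHom hc :=
    ⟨_, rfl⟩
  have hm : 𝒳.p.IsHomLift g m :=
    IsHomLift.of_fac' 𝒳.p g m p.lies hc (by simp [hg])
  -- the object of `(Sch/c.left)` given by `g`
  let P' : AlgSt.FPt (FibCat.overCat c.left) := ⟨p.K, p.str, Over.mk g, rfl⟩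
  obtain ⟨v, hv⟩ := chartPt_surjective c.left (AlgSt.Points.mk P')
  refine ⟨v, ?_⟩
  rw [← ofChart_overMap c.hom y v, ofChart_eq_map, hv, AlgSt.Points.map_mk]
  -- now compare `p` with the image of `P'`
  let b : (FibCat.overCat V).obj := (AlgSt.overMap c.hom).obj (Over.mk g)
  let β : b ⟶ c := Over.homMk g rfl
  have hβ : 𝒳.p.IsHomLift g (y.map β) := by
    have h1 : (FibCat.overCat V).p.IsHomLift g β := by
      apply IsHomLift.of_fac' (FibCat.overCat V).p g β rfl rfl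
      change (FibCat.overCat V).p.map β = 𝟙 _ ≫ g ≫ 𝟙 _
      rw [Category.id_comp, Category.comp_id]
      rfl
    exact (BasedFunctor.isHomLift_iff y g β).mpr h1
  have hcart : 𝒳.p.IsStronglyCartesian g (y.map β) :=
    isStronglyCartesian_of_isHomLift 𝒳.p h𝒳 _ _
  have hm' : 𝒳.p.IsHomLift (𝟙 (Over.mk p.str) ≫ g) m := by rw [Category.id_comp]; exact hm
  let χ : p.obj ⟶ y.obj b := IsStronglyCartesian.map 𝒳.p g (y.map β) (f' := 𝟙 _ ≫ g) rfl m
  apply AlgSt.Points.sound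
  exact rel_of_hom (q := P'.map (BasedFunctor.comp (AlgSt.overMap c.hom) y)) χ

/-- membership of a value of a chart in `subOf T`, read on the points of the scheme -/
theorem subOf_chart_iff (h𝒳 : FibCat.IsFibGrpd 𝒳.p) (T : Set (AlgSt.Points 𝒳)) {V : Over S}
    (y : FibCat.overCat V ⥤ᵇ 𝒳) (c : (FibCat.overCat V).obj) :
    subOf T (y.obj c) ↔ ∀ v : ↥c.left.left, AlgSt.Points.ofChart y (c.hom.left v) ∈ T := by
  constructor
  · intro h v
    rw [← ofChart_overMap c.hom y v]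
    apply h
    refine ⟨y.map ?_⟩
    exact Over.homMk (Over.homMk (c.left.left.fromSpecResidueField v) rfl) rfl
  · intro h p ⟨m⟩
    obtain ⟨v, hv⟩ := mk_mem_range_ofChart h𝒳 y p c m
    rw [hv]
    exact h v

/-- lifting a functor with values in `Q` to the full subcategory -/
def liftSub (Q : 𝒳.obj → Prop) (G : 𝒵 ⥤ᵇ 𝒳) (hG : ∀ z, Q (G.obj z)) : 𝒵 ⥤ᵇ AlgSt.fullSub 𝒳 Q where
  toFunctor := ObjectProperty.lift Q G.toFunctor hG
  w := G.w

lemma liftSub_comp (Q : 𝒳.obj → Prop) (G : 𝒵 ⥤ᵇ 𝒳) (hG : ∀ z, Q (G.obj z)) :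
    BasedFunctor.comp (liftSub Q G hG) (AlgSt.subIncl 𝒳 Q) = G := by
  apply basedFunctor_ext
  rfl

/-- the identity 2-cell of the square of a substack over a chart -/
def subSqIso (Q : 𝒳.obj → Prop) {U U' : Over S} (y : FibCat.overCat U ⥤ᵇ 𝒳) (ι : U' ⟶ U)
    (hQ : ∀ c, Q ((BasedFunctor.comp (AlgSt.overMap ι) y).obj c)) :
    BasedFunctor.comp (AlgSt.overMap ι) y ≅
      BasedFunctor.comp (liftSub Q (BasedFunctor.comp (AlgSt.overMap ι) y) hQ) (AlgSt.subIncl 𝒳 Q) :=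
  Iso.refl _

/-- a substack pulls back to a subscheme of a chart: the 2-cartesian square -/
theorem isTwoCartOver_sub (Q : 𝒳.obj → Prop) (hQi : ObjectProperty.IsClosedUnderIsomorphisms Q)
    {U U' : Over S} (y : FibCat.overCat U ⥤ᵇ 𝒳) (ι : U' ⟶ U) [Mono ι]
    (hQ : ∀ c, Q ((BasedFunctor.comp (AlgSt.overMap ι) y).obj c))
    (hfac : ∀ x : (FibCat.overCat U).obj, Q (y.obj x) → ∃ l : x.left ⟶ U', l ≫ ι = x.hom) :
    FibCat.IsTwoCartOver (AlgSt.overMap ι) (liftSub Q (BasedFunctor.comp (AlgSt.overMap ι) y) hQ)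
      (subSqIso Q y ι hQ) := by
  apply isTwoCartOver_of_concrete
  · intro w w' φ ψ h _
    apply Over.OverMorphism.ext
    have := congrArg (fun t => t.left) h
    exact this
  · intro w w' α β h
    have h1 : α.left ≫ w'.hom = w.hom := by
      rw [← cancel_mono ι, Category.assoc]
      exact Over.w α
    refine ⟨Over.homMk α.left h1, ?_, ?_⟩
    · apply Over.OverMorphism.ext
      rfl
    · apply ObjectProperty.hom_ext
      have h2 : y.map α ≫ 𝟙 _ = 𝟙 _ ≫ (AlgSt.subIncl 𝒳 Q).map β := h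
      rw [Category.comp_id, Category.id_comp] at h2
      change y.map ((AlgSt.overMap ι).map (Over.homMk α.left h1)) = β.hom
      rw [← show y.map α = β.hom from h2]
      congr 1
  · intro x q ι' hι'
    have hx : Q (y.obj x) := hQi.of_iso ι'.symm q.property
    obtain ⟨l, hl⟩ := hfac x hx
    let w : (FibCat.overCat U').obj := Over.mk l
    let i : (AlgSt.overMap ι).obj w ≅ x := Over.isoMk (Iso.refl _) ((Category.id_comp _).trans hl.symm)
    have hi : (FibCat.overCat U).p.IsHomLift (𝟙 ((FibCat.overCat U).p.obj x)) i.hom := by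
      apply IsHomLift.of_fac' _ _ _ rfl rfl
      rfl
    let j₀ : y.obj ((AlgSt.overMap ι).obj w) ≅ q.obj := y.toFunctor.mapIso i ≪≫ ι'
    let j : (liftSub Q (BasedFunctor.comp (AlgSt.overMap ι) y) hQ).obj w ≅ q :=
      (ObjectProperty.fullyFaithfulι Q).preimageIso j₀
    refine ⟨w, i, j, hi, ?_⟩
    change y.map i.hom ≫ ι'.hom = 𝟙 _ ≫ (ObjectProperty.ι Q).map j.hom
    rw [Category.id_comp]
    rfl

/-- a substack whose pullback to every chart is a subscheme with `P₀` is representable with `P₀` -/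
theorem rep_subIncl_of_charts (P₀ : MorphismProperty Scheme.{u}) [P₀.IsStableUnderBaseChange]
    (Q : 𝒳.obj → Prop) (hQi : ObjectProperty.IsClosedUnderIsomorphisms Q)
    (h : ∀ (U : Over S) (y : FibCat.overCat U ⥤ᵇ 𝒳), ∃ (U' : Over S) (ι : U' ⟶ U), Mono ι ∧
      P₀ ι.left ∧ (∀ c, Q ((BasedFunctor.comp (AlgSt.overMap ι) y).obj c)) ∧
      ∀ x : (FibCat.overCat U).obj, Q (y.obj x) → ∃ l : x.left ⟶ U', l ≫ ι = x.hom) :
    AlgSt.RepByAlgSpWith (AlgSp.RepWith P₀) (AlgSt.subIncl 𝒳 Q) := by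
  intro U y
  obtain ⟨U', ι, hm, hP, hQ, hfac⟩ := h U y
  have hcart := isTwoCartOver_sub Q hQi y ι hQ hfac
  refine ⟨⟨(AlgSp.yon S).obj U', AlgSp.IsAlgSpace.yon_obj U'⟩,
    BasedFunctor.comp (RepBridge.toOver U') (FibCat.fpLift _ _ (subSqIso Q y ι hQ)),
    isEquivOver_comp _ _ (isEquivOver_toOver U') hcart, ?_⟩
  have h2 : AlgSt.spMapOfOver (RepBridge.toOver U') = 𝟙 _ := spMapOfOver_toOverCat U'
  have key : AlgSp.RepWith P₀ (AlgSt.spMapOfOver (F := (AlgSp.yon S).obj U')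
      (BasedFunctor.comp (RepBridge.toOver U') (AlgSt.overMap ι))) := by
    rw [spMapOfOver_comp_overMap, h2, Category.id_comp, AlgSp.repWith_yon_map_iff]
    exact hP
  exact key

/-- the substack of an open subset of the points is an open immersion -/
theorem isOpenImm_subIncl_subOf (h𝒳 : AlgSt.IsAlgStack Scheme.fppfPrecoverage 𝒳)
    (T : Set (AlgSt.Points 𝒳)) (hT : IsOpen T) : AlgSt.IsOpenImm (AlgSt.subIncl 𝒳 (subOf T)) := by
  apply rep_subIncl_of_charts @IsOpenImmersion _ (subOf_closedUnderIso T)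
  intro U y
  let W : U.left.Opens := ⟨AlgSt.Points.ofChart y ⁻¹' T, (continuous_ofChart h𝒳 U y).isOpen_preimage T hT⟩
  let ι : Over.mk (W.ι ≫ U.hom) ⟶ U := Over.homMk W.ι rfl
  have hmono : Mono ι := by
    have : Mono ι.left := inferInstanceAs (Mono W.ι)
    exact (Over.forget S).mono_of_mono_map this
  refine ⟨Over.mk (W.ι ≫ U.hom), ι, hmono, inferInstanceAs (IsOpenImmersion W.ι), ?_, ?_⟩
  · intro c
    change subOf T (y.obj ((AlgSt.overMap ι).obj c))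
    rw [subOf_chart_iff h𝒳.isStack.1]
    intro v
    change AlgSt.Points.ofChart y (W.ι (c.hom.left v)) ∈ T
    exact (c.hom.left v).2
  · intro x hx
    rw [subOf_chart_iff h𝒳.isStack.1] at hx
    have hr : Set.range x.hom.left ⊆ Set.range W.ι := by
      rintro _ ⟨v, rfl⟩
      rw [Scheme.Opens.range_ι]
      exact hx v
    refine ⟨Over.homMk (IsOpenImmersion.lift W.ι x.hom.left hr) ?_, ?_⟩
    · change IsOpenImmersion.lift W.ι x.hom.left hr ≫ W.ι ≫ U.hom = x.left.hom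
      rw [IsOpenImmersion.lift_fac_assoc]
      exact Over.w x.hom
    · apply Over.OverMorphism.ext
      exact IsOpenImmersion.lift_fac _ _ _


/-- a property of objects closed under precomposition gives a category fibred in groupoids -/
theorem isFibGrpd_fullSub (h𝒳 : FibCat.IsFibGrpd 𝒳.p) (Q : 𝒳.obj → Prop)
    (hQ : ∀ ⦃x y : 𝒳.obj⦄ (_ : x ⟶ y), Q y → Q x) : FibCat.IsFibGrpd (AlgSt.fullSub 𝒳 Q).p :=
  Groth.Agent.H3.StackMore.isFibGrpd_sub (Q := Q) h𝒳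
    (fun y _ φ hx => ⟨y, Iso.refl y, hQ φ hx, by simpa using IsHomLift.id rfl⟩)

/-- a substack with representable inclusion is algebraic -/
theorem isAlgStack_fullSub (h𝒳 : AlgSt.IsAlgStack Scheme.fppfPrecoverage 𝒳) (Q : 𝒳.obj → Prop)
    (hQ : ∀ ⦃x y : 𝒳.obj⦄ (_ : x ⟶ y), Q y → Q x) {P : MorphismProperty (AlgSp.Sp S)}
    (hrep : AlgSt.RepByAlgSpWith P (AlgSt.subIncl 𝒳 Q)) :
    AlgSt.IsAlgStack Scheme.fppfPrecoverage (AlgSt.fullSub 𝒳 Q) :=
  isAlgStack_of_repByAlgSp1 (isFibGrpd_fullSub h𝒳.isStack.1 Q hQ) h𝒳 (AlgSt.subIncl 𝒳 Q)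
    (repByAlgSp1_of_repByAlgSpWith hrep)

/-- the open substack of an open subset of the points -/
theorem isOpenSubstack_subOf (h𝒳 : AlgSt.IsAlgStack Scheme.fppfPrecoverage 𝒳)
    (T : Set (AlgSt.Points 𝒳)) (hT : IsOpen T) :
    AlgSt.IsOpenSubstack 𝒳 (subOf T) Scheme.fppfPrecoverage :=
  ⟨subOf_closedUnderIso T,
    isAlgStack_fullSub h𝒳 _ (fun _ _ m hy => subOf_of_hom m hy) (isOpenImm_subIncl_subOf h𝒳 T hT),
    isOpenImm_subIncl_subOf h𝒳 T hT⟩

end Groth.Agent.H3.OpenSub
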