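import Mathlib
import Groth.Agent.Lib.Helper3.Top.OpenSurj
import Groth.Agent.Lib.Helper3.AlgSt.LocQ11

/-!
# Points of locally Noetherian algebraic stacks (helper3)
-/

set_option autoImplicit false
universe u
open CategoryTheory CategoryTheory.Functor CategoryTheory.Limits Opposite AlgebraicGeometry
open TopologicalSpace

noncomputable section

namespace Groth.Agent.H3.AlgStNoeth

open Groth.Agent.H3.FibCatAux Groth.Agent.H3.AlgStPoints Groth.Agent.H3.AlgStAlgebraic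
  Groth.Agent.H3.AlgStQCMor Groth.Agent.H3.AlgStSmoothLoc Groth.Agent.H3.TopAux
  Groth.Agent.H3.AlgStProps

variable {S : Scheme.{u}} {𝒳 𝒴 : AlgSt.Cat S}

theorem locNoeth_scheme (X : Scheme.{u}) [IsLocallyNoetherian X] : LocNoeth X := by
  intro x
  obtain ⟨W, hW, hxW, -⟩ := exists_isAffineOpen_mem_and_subset (x := x) (U := ⊤) trivial
  have : IsNoetherianRing Γ(X, W) := IsLocallyNoetherian.component_noetherian ⟨W, hW⟩
  exact ⟨W.1, W.2, hxW, noetherianSpace_of_isAffineOpen W hW⟩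

/-- a smooth surjective atlas by a locally Noetherian scheme, with its map on points -/
theorem exists_noeth_atlas (h𝒳 : AlgSt.IsAlgStack Scheme.fppfPrecoverage 𝒳)
    (hN : AlgSt.SmoothLocally (fun T ↦ IsLocallyNoetherian T) 𝒳) :
    ∃ (U : Over S) (x : FibCat.overCat U ⥤ᵇ 𝒳), IsLocallyNoetherian U.left ∧
      Continuous (AlgSt.Points.ofChart x) ∧ IsOpenMap (AlgSt.Points.ofChart x) ∧
      Function.Surjective (AlgSt.Points.ofChart x) := by
  obtain ⟨U, x, hx₁, hx₂⟩ := h𝒳.atlas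
  obtain ⟨h1, h2⟩ := continuous_and_isOpenMap_ofChart h𝒳 U x
    (AlgStDiagLft.repByAlgSpWith_mono (AlgStDiagLft.locP_mono AlgStDiagLft.smooth_le_flat) hx₁)
    (AlgStDiagLft.repByAlgSpWith_mono (AlgStDiagLft.locP_mono AlgStDiagLft.smooth_le_lfp) hx₁)
  exact ⟨U, x, hN U x hx₁, h1, h2, ofChart_surjective h𝒳.isStack.1 x hx₂⟩

/-- **S13019** -/
theorem points_locNoeth (h𝒳 : AlgSt.IsAlgStack Scheme.fppfPrecoverage 𝒳)
    (hN : AlgSt.SmoothLocally (fun T ↦ IsLocallyNoetherian T) 𝒳) :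
    LocNoeth (AlgSt.Points 𝒳) := by
  obtain ⟨U, x, hU, hc, ho, hs⟩ := exists_noeth_atlas h𝒳 hN
  exact locNoeth_of_open_surjective _ hc ho hs (locNoeth_scheme U.left)

/-- **S13020** -/
theorem points_noetherianSpace (h𝒳 : AlgSt.IsAlgStack Scheme.fppfPrecoverage 𝒳)
    (hqc : AlgSt.IsQuasiCompact 𝒳)
    (hN : AlgSt.SmoothLocally (fun T ↦ IsLocallyNoetherian T) 𝒳) :
    NoetherianSpace (AlgSt.Points 𝒳) := by
  have := (isQuasiCompact_iff_compactSpace h𝒳).1 hqc
  exact noetherianSpace_of_compact_locNoeth (points_locNoeth h𝒳 hN)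

/-- **S13021** -/
theorem points_quasiSober (h𝒳 : AlgSt.IsAlgStack Scheme.fppfPrecoverage 𝒳)
    (hN : AlgSt.SmoothLocally (fun T ↦ IsLocallyNoetherian T) 𝒳) :
    QuasiSober (AlgSt.Points 𝒳) := by
  obtain ⟨U, x, hU, hc, ho, hs⟩ := exists_noeth_atlas h𝒳 hN
  exact quasiSober_of_open_surjective _ hc ho hs (locNoeth_scheme U.left)

end Groth.Agent.H3.AlgStNoeth
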