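import Mathlib
import Groth.Agent.Lib.Helper3.AlgSt.NoethPoints
import Groth.Agent.Lib.Helper5.AlgSp.Mono
import Groth.Agent.Lib.Helper3.AlgSt.DiagCancel
import Groth.Agent.Lib.Helper5.AlgSp.QCompact

/-!
# Immersions into locally Noetherian algebraic stacks (helper3)
-/

set_option autoImplicit false
universe u
open CategoryTheory CategoryTheory.Functor CategoryTheory.Limits Opposite AlgebraicGeometry
open TopologicalSpace

noncomputable section

namespace Groth.Agent.H3.AlgStNoeth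

open Groth.Agent.H3.FibCatAux Groth.Agent.H3.GerbAux Groth.Agent.H3.FpCalc Groth.Agent.H3.TwoCart
  Groth.Agent.H3.StackPsh Groth.Agent.H3.PshBridge Groth.Agent.H3.AlgStAux Groth.Agent.H3.RepBridge
  Groth.Agent.H3.SetoidPsh Groth.Agent.H3.BaseChangeSp Groth.Agent.H3.AlgStComp
  Groth.Agent.H3.AlgStProps Groth.Agent.H3.AlgStBridge2 Groth.Agent.H3.AlgStCharts
  Groth.Agent.H3.AlgStDescent Groth.Agent.H3.Whisker Groth.Agent.H3.AlgStLES
  Groth.Agent.H3.FPtRel Groth.Agent.H3.AlgStStackRep Groth.Agent.H3.TwoYoneda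
  Groth.Agent.H3.AlgStPoints Groth.Agent.H3.AlgStAlgebraic Groth.Agent.H3.AlgStQCMor
  Groth.Agent.H3.AlgStSmoothLoc Groth.Agent.H3.SmSrc Groth.Agent.H3.AlgStLocQ

variable {S : Scheme.{u}} {𝒳 𝒴 : AlgSt.Cat S}

/-- an immersion into a locally Noetherian scheme is quasi-compact -/
lemma quasiCompact_of_isImmersion {X Y : Scheme.{u}} [IsLocallyNoetherian Y] (f : X ⟶ Y)
    [IsImmersion f] : QuasiCompact f := by
  rw [← f.liftCoborder_ι]
  have : IsLocallyNoetherian f.coborderRange.toScheme := by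
    have : IsOpenImmersion f.coborderRange.ι := inferInstance
    exact isLocallyNoetherian_of_isOpenImmersion f.coborderRange.ι
  infer_instance

/-- a representable immersion into a locally Noetherian scheme is quasi-compact -/
theorem isQuasiCompactMor_of_isImmersion {F : AlgSp.Sp S} {V : Over S}
    [IsLocallyNoetherian V.left] (a : F ⟶ (AlgSp.yon S).obj V)
    (ha : AlgSp.RepWith @IsImmersion a) : AlgSp.IsQuasiCompactMor a := by
  apply Groth.Agent.H5.AlgSp.isQuasiCompactMor_of_repWith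
  have hr := ha.rep
  have sq := hr.isPullback (𝟙 _)
  have hi : IsImmersion (hr.snd (𝟙 ((AlgSp.yon S).obj V))).left := ha.property_snd _
  have hq : QuasiCompact (hr.snd (𝟙 ((AlgSp.yon S).obj V))).left :=
    quasiCompact_of_isImmersion _
  have hiso : IsIso (hr.fst (𝟙 ((AlgSp.yon S).obj V))) := sq.isIso_fst_of_isIso
  have h1 : AlgSp.RepWith @QuasiCompact ((AlgSp.yon S).map (hr.snd (𝟙 ((AlgSp.yon S).obj V)))) :=
    (AlgSp.repWith_yon_map_iff @QuasiCompact _).2 hq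
  have h2 : a = inv (hr.fst (𝟙 ((AlgSp.yon S).obj V))) ≫
      (AlgSp.yon S).map (hr.snd (𝟙 ((AlgSp.yon S).obj V))) := by
    rw [IsIso.eq_inv_comp, sq.w, Category.comp_id]
  rw [h2]
  exact (MorphismProperty.cancel_left_of_respectsIso (AlgSp.RepWith @QuasiCompact) _ _).2 h1

/-- **S13017** -/
theorem noeth_and_qc_of_isImm (h𝒳 : AlgSt.IsAlgStack Scheme.fppfPrecoverage 𝒳)
    (h𝒴 : AlgSt.IsAlgStack Scheme.fppfPrecoverage 𝒴) (j : 𝒳 ⥤ᵇ 𝒴) (hj : AlgSt.IsImm j)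
    (hN : AlgSt.SmoothLocally (fun T ↦ IsLocallyNoetherian T) 𝒴) :
    AlgSt.SmoothLocally (fun T ↦ IsLocallyNoetherian T) 𝒳 ∧
      AlgSt.IsQuasiCompactMor Scheme.fppfPrecoverage j := by
  refine ⟨smoothLocally_noeth_of_locQ_lft h𝒳 j (locQ_lft_of_isImm h𝒴 j hj) hN, ?_⟩
  obtain ⟨V, y, hy₁, hy₂⟩ := h𝒴.atlas
  have hV : IsLocallyNoetherian V.left := hN V y hy₁
  have hVs := isAlgStack_overCat V
  have hfp : AlgSt.IsAlgStack Scheme.fppfPrecoverage (FibCat.fp y j) :=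
    isAlgStack_fp h𝒴.isStack h𝒴.diag hVs h𝒳 y j
  refine isQuasiCompactMor_of_fpFst h𝒳 h𝒴 hVs j y
    (AlgStDiagLft.repByAlgSpWith_mono (AlgStDiagLft.locP_mono AlgStDiagLft.smooth_le_flat) hy₁)
    (AlgStDiagLft.repByAlgSpWith_mono (AlgStDiagLft.locP_mono AlgStDiagLft.smooth_le_lfp) hy₁)
    hy₂ ?_
  refine isQuasiCompactMor_of_rep hfp hVs _ ?_
  obtain ⟨F, e, he, ha⟩ := hj V y
  have h1 : AlgSp.IsQuasiCompactMor (AlgSt.spMapOfOver (BasedFunctor.comp e (FibCat.fpFst y j))) :=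
    isQuasiCompactMor_of_isImmersion _ ha
  have h2 : AlgSt.RepByAlgSpWith AlgSp.IsQuasiCompactMor
      (BasedFunctor.comp e (FibCat.fpFst y j)) :=
    (repByAlgSpWith_iff_spMapOfOver _ good_isQuasiCompactMor.bc
      good_isQuasiCompactMor.toC.charts F _).2 h1
  exact (repByAlgSpWith_comp_equiv_iff _ e he _).1 h2

/-- an immersion of algebraic stacks is quasi-separated -/
theorem isQuasiSeparatedMor_of_isImm (h𝒳 : AlgSt.IsAlgStack Scheme.fppfPrecoverage 𝒳)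
    (h𝒴 : AlgSt.IsAlgStack Scheme.fppfPrecoverage 𝒴) (j : 𝒳 ⥤ᵇ 𝒴) (hj : AlgSt.IsImm j) :
    AlgSt.IsQuasiSeparatedMor j := by
  have hm : AlgSt.IsMono j :=
    AlgStDiagLft.repByAlgSpWith_mono (fun X Y a ha =>
      Groth.Agent.H5.AlgSp.mono_of_repWith Groth.Agent.H5.AlgSp.isImmersion_le_mono ha) hj
  have hs := (Groth.Agent.H3.AlgStDiagCancel.isSeparatedMor_and_isDMMor_of_isMono
    h𝒳.isStack.1 h𝒴.isStack.1 j hm).1
  refine AlgStDiagLft.repByAlgSpWith_mono (fun X Y a ha => ?_) hs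
  obtain ⟨h1, h2, -⟩ := ha
  refine ⟨h2.2, ?_⟩
  have hle : (@IsClosedImmersion : MorphismProperty Scheme.{u}) ≤ @QuasiCompact :=
    fun _ _ g hg => by have : IsClosedImmersion g := hg; infer_instance
  exact Groth.Agent.H5.AlgSp.repWith_mono hle h1

/-- **S13018** -/
theorem noetherian_of_isImm (h𝒳 : AlgSt.IsAlgStack Scheme.fppfPrecoverage 𝒳)
    (h𝒴 : AlgSt.IsAlgStack Scheme.fppfPrecoverage 𝒴) (j : 𝒳 ⥤ᵇ 𝒴) (hj : AlgSt.IsImm j)
    (hqc : AlgSt.IsQuasiCompact 𝒴) (hqs : AlgSt.IsQuasiSeparatedOver 𝒴)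
    (hN : AlgSt.SmoothLocally (fun T ↦ IsLocallyNoetherian T) 𝒴) :
    AlgSt.IsQuasiCompact 𝒳 ∧ AlgSt.IsQuasiSeparatedOver 𝒳 ∧
      AlgSt.SmoothLocally (fun T ↦ IsLocallyNoetherian T) 𝒳 := by
  obtain ⟨h1, h2⟩ := noeth_and_qc_of_isImm h𝒳 h𝒴 j hj hN
  refine ⟨isQuasiCompact_of_isQuasiCompactMor h𝒳 h𝒴 j h2 hqc, ?_, h1⟩
  have h3 := Groth.Agent.H3.AlgStDiagRep.repByAlgSpWith_diag_comp j (FibCat.toSelf 𝒴) _
    good_qcqs h𝒳.isStack.1 h𝒴.isStack.1 (isQuasiSeparatedMor_of_isImm h𝒳 h𝒴 j hj) hqs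
  have e : BasedFunctor.comp j (FibCat.toSelf 𝒴) = FibCat.toSelf 𝒳 := by
    apply basedFunctor_ext
    exact j.w
  unfold AlgSt.IsQuasiSeparatedOver AlgSt.IsQuasiSeparatedMor
  rw [← e]
  exact h3

end Groth.Agent.H3.AlgStNoeth
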