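import Mathlib
import Groth.Agent.Lib.Helper3.AlgSt.DiagIff

/-!
# The relative inertia of a 1-morphism of algebraic stacks (helper3)
-/

set_option autoImplicit false
universe v₃ u₃ v₂ u₂ v u
open CategoryTheory CategoryTheory.Functor CategoryTheory.Limits Opposite AlgebraicGeometry

namespace Groth.Agent.H3.AlgStInertia

open Groth.Agent.H3.FibCatAux Groth.Agent.H3.GerbAux Groth.Agent.H3.FpCalc Groth.Agent.H3.TwoCart
  Groth.Agent.H3.AlgStAux Groth.Agent.H3.BaseChangeSp Groth.Agent.H3.AlgStComp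
  Groth.Agent.H3.AlgStProps Groth.Agent.H3.AlgStBridge2 Groth.Agent.H3.AlgStDiagProp
  Groth.Agent.H3.AlgSpCov Groth.Agent.H3.AlgStCharts Groth.Agent.H3.AlgStLES
  Groth.Agent.H3.AlgStDescent Groth.Agent.H3.AlgStCancel Groth.Agent.H3.AlgStDiagFacts
  Groth.Agent.H3.RepBridge Groth.Agent.H3.AlgStDiagLft Groth.Agent.H3.AlgStDiagRep
  Groth.Agent.H3.AlgStDiagIff
open AlgSp

section General

variable {C : Type u} [Category.{v} C] {𝒳 : BasedCategory.{v₂, u₂} C} {𝒴 : BasedCategory.{v₃, u₃} C}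
  (F : 𝒳 ⥤ᵇ 𝒴)

lemma inertiaDiag_hasPre : HasPre (inertiaDiag F) := by
  intro Z
  let j : ((FibCat.diag F).obj Z.obj.fst).obj ≅ ((FibCat.diag F).obj Z.obj.snd).obj :=
    (ObjectProperty.ι _).mapIso Z.obj.iso
  obtain ⟨i₁, hd₁⟩ : ∃ i₁ : Z.obj.fst ⟶ Z.obj.snd, i₁ = j.hom.fst := ⟨_, rfl⟩
  obtain ⟨i₂, hd₂⟩ : ∃ i₂ : Z.obj.fst ⟶ Z.obj.snd, i₂ = j.hom.snd := ⟨_, rfl⟩
  have hi₁ : IsIso i₁ := by rw [hd₁]; exact inferInstanceAs (IsIso j.hom.fst)
  have hi₂ : IsIso i₂ := by rw [hd₂]; exact inferInstanceAs (IsIso j.hom.snd)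
  have hw : F.map i₁ ≫ 𝟙 _ = 𝟙 _ ≫ F.map i₂ := by rw [hd₁, hd₂]; exact j.hom.w
  rw [Category.comp_id, Category.id_comp] at hw
  let α : Z.obj.fst ≅ Z.obj.fst := asIso i₁ ≪≫ (asIso i₂).symm
  have hα : F.map α.hom = 𝟙 _ := by
    change F.map (i₁ ≫ inv i₂) = 𝟙 _
    rw [F.toFunctor.map_comp, hw, ← F.toFunctor.map_comp, IsIso.hom_inv_id, F.toFunctor.map_id]
  let X : (FibCat.inertia F).obj := ⟨Z.obj.fst, α, hα⟩
  refine ⟨X, fpIsoMk (F := FibCat.diag F) (G := FibCat.diag F) (X := inertiaDiagObj F X) (Y := Z)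
    (Iso.refl _) (show Z.obj.fst ≅ Z.obj.snd from asIso i₂) ?_, ?_⟩
  · apply fp_hom_ext
    · change 𝟙 _ ≫ j.hom.fst = (i₁ ≫ inv i₂) ≫ i₂
      rw [Category.id_comp, Category.assoc, IsIso.inv_hom_id, Category.comp_id, hd₁]
    · change 𝟙 _ ≫ j.hom.snd = 𝟙 _ ≫ i₂
      rw [hd₂]
      rfl
  · rw [fp_isHomLift_iff]
    change 𝒳.p.IsHomLift (𝟙 (𝒳.p.obj Z.obj.fst)) (𝟙 Z.obj.fst)
    infer_instance

/-- the comparison `𝓘_{𝒳/𝒴} ⟶ 𝒳 ×_{Δ,Δ} 𝒳` is an equivalence over the base -/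
theorem inertiaDiag_isEquivOver : FibCat.IsEquivOver (inertiaDiag F) := by
  have := inertiaDiag_faithful F
  have := inertiaDiag_full F
  exact isEquivOver_of_hasPre (inertiaDiag F) (inertiaDiag_hasPre F)

/-- the comparison functor followed by the first projection is the structure functor -/
def inertiaDiagFst : BasedFunctor.comp (inertiaDiag F) (FibCat.fpFst _ _) ≅ FibCat.inertiaToBase F :=
  Iso.refl _

/-- the neutral section corresponds to the second diagonal -/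
def neutralDiagIso : BasedFunctor.comp (FibCat.inertiaNeutral F) (inertiaDiag F) ≅
    FibCat.diag (FibCat.diag F) :=
  BasedNatIso.mkNatIso
    (NatIso.ofComponents
      (fun x => fpIsoMk (F := FibCat.diag F) (G := FibCat.diag F)
        (X := (inertiaDiag F).obj ((FibCat.inertiaNeutral F).obj x))
        (Y := (FibCat.diag (FibCat.diag F)).obj x) (Iso.refl x) (Iso.refl x)
        (by apply fp_hom_ext <;> rfl))
      (by
        intro x x' φ
        apply fp_hom_ext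
        · change φ ≫ 𝟙 _ = 𝟙 _ ≫ φ
          rw [Category.comp_id, Category.id_comp]
        · change φ ≫ 𝟙 _ = 𝟙 _ ≫ φ
          rw [Category.comp_id, Category.id_comp]))
    (by
      intro x
      rw [fp_isHomLift_iff]
      change 𝒳.p.IsHomLift (𝟙 _) (𝟙 x)
      infer_instance)

/-- the neutral section is a section of the structure functor -/
def neutralSection : BasedFunctor.comp (FibCat.inertiaNeutral F) (FibCat.inertiaToBase F) ≅
    BasedFunctor.id 𝒳 := Iso.refl _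

end General

section AlgSt

variable {S : Scheme.{u}} {𝒳 𝒴 : AlgSt.Cat S} (f : 𝒳 ⥤ᵇ 𝒴)

/-- a property of the neutral section is a property of the second diagonal -/
theorem repByAlgSpWith_inertiaNeutral_iff (P : MorphismProperty (Sp S)) :
    AlgSt.RepByAlgSpWith P (FibCat.inertiaNeutral f) ↔
      AlgSt.RepByAlgSpWith P (FibCat.diag (FibCat.diag f)) := by
  let ε : BasedFunctor.comp (FibCat.inertiaNeutral f) (inertiaDiag f) ≅
      BasedFunctor.comp (BasedFunctor.id 𝒳) (FibCat.diag (FibCat.diag f)) := neutralDiagIso f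
  constructor
  · exact repByAlgSpWith_of_square' P (FibCat.diag (FibCat.diag f)) (FibCat.inertiaNeutral f)
      (BasedFunctor.id 𝒳) (inertiaDiag f) isEquivOver_id (inertiaDiag_isEquivOver f) ε
  · exact repByAlgSpWith_of_square P (FibCat.diag (FibCat.diag f)) (FibCat.inertiaNeutral f)
      (BasedFunctor.id 𝒳) (inertiaDiag f) isEquivOver_id (inertiaDiag_isEquivOver f) ε

/-- a property of the structure functor of the inertia is a property of the projection of
`𝒳 ×_{Δ,Δ} 𝒳` -/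
theorem repByAlgSpWith_inertiaToBase_iff (P : MorphismProperty (Sp S)) :
    AlgSt.RepByAlgSpWith P (FibCat.inertiaToBase f) ↔
      AlgSt.RepByAlgSpWith P (FibCat.fpFst (FibCat.diag f) (FibCat.diag f)) :=
  repByAlgSpWith_comp_equiv_iff P (inertiaDiag f) (inertiaDiag_isEquivOver f)
    (FibCat.fpFst (FibCat.diag f) (FibCat.diag f))

/-- the structure functor of the inertia is a base change of the diagonal -/
theorem repByAlgSpWith_inertiaToBase_of_diag (P : MorphismProperty (Sp S))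
    (h : AlgSt.RepByAlgSpWith P (FibCat.diag f)) :
    AlgSt.RepByAlgSpWith P (FibCat.inertiaToBase f) :=
  (repByAlgSpWith_inertiaToBase_iff f P).2 (repByAlgSpWith_fpFst P _ _ h)

/-- the neutral section is a base change of the diagonal of the structure functor -/
theorem repByAlgSpWith_inertiaNeutral_of_diag (P : MorphismProperty (Sp S))
    (h : AlgSt.RepByAlgSpWith P (FibCat.diag (FibCat.inertiaToBase f))) :
    AlgSt.RepByAlgSpWith P (FibCat.inertiaNeutral f) :=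
  repByAlgSpWith_of_isTwoCartOver _ (sectR (FibCat.inertiaToBase f) (FibCat.inertiaNeutral f)
      (neutralSection f)) (FibCat.diag (FibCat.inertiaToBase f)) (FibCat.inertiaNeutral f)
    (FibCat.inertiaNeutral f) (sectE _ _ _) (sect_isTwoCartOver _ _ _) h

lemma isFibGrpd_inertia (h𝒳 : FibCat.IsFibGrpd 𝒳.p) (h𝒴 : FibCat.IsFibGrpd 𝒴.p) :
    FibCat.IsFibGrpd (FibCat.inertia f).p :=
  (isFibGrpd_iff_of_isEquivOver (inertiaDiag f) (inertiaDiag_isEquivOver f)).2
    (X6401 _ _ h𝒳 h𝒳 (X6401 f f h𝒳 h𝒳 h𝒴))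

/-- the general pattern of the inertia statements: if for 1-morphisms representable by algebraic
spaces (and with `R`) `P` is equivalent to the diagonal having `Q`, then `P` for the inertia, `P` for
the diagonal and `Q` for the neutral section are equivalent -/
theorem inertia_tfae (P Q R : MorphismProperty (Sp S))
    (hPQ : ∀ {𝒜 ℬ : AlgSt.Cat S}, FibCat.IsFibGrpd 𝒜.p → FibCat.IsFibGrpd ℬ.p →
      ∀ g : 𝒜 ⥤ᵇ ℬ, AlgSt.RepByAlgSp1 g → AlgSt.RepByAlgSpWith R g →
        (AlgSt.RepByAlgSpWith P g ↔ AlgSt.RepByAlgSpWith Q (FibCat.diag g)))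
    (h𝒳 : FibCat.IsFibGrpd 𝒳.p) (h𝒴 : FibCat.IsFibGrpd 𝒴.p)
    (hΔ : AlgSt.RepByAlgSpWith R (FibCat.diag f)) :
    [AlgSt.RepByAlgSpWith P (FibCat.inertiaToBase f), AlgSt.RepByAlgSpWith P (FibCat.diag f),
      AlgSt.RepByAlgSpWith Q (FibCat.inertiaNeutral f)].TFAE := by
  have hF := X6401 f f h𝒳 h𝒳 h𝒴
  have hI := isFibGrpd_inertia f h𝒳 h𝒴
  have hΔ1 : AlgSt.RepByAlgSp1 (FibCat.diag f) := repByAlgSp1_of_repByAlgSpWith hΔ
  have hπ : AlgSt.RepByAlgSpWith R (FibCat.inertiaToBase f) :=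
    repByAlgSpWith_inertiaToBase_of_diag f R hΔ
  tfae_have 2 → 1 := repByAlgSpWith_inertiaToBase_of_diag f P
  tfae_have 2 ↔ 3 := by
    rw [repByAlgSpWith_inertiaNeutral_iff]
    exact hPQ h𝒳 hF (FibCat.diag f) hΔ1 hΔ
  tfae_have 1 → 3 := by
    intro h
    apply repByAlgSpWith_inertiaNeutral_of_diag
    exact (hPQ hI h𝒳 (FibCat.inertiaToBase f) (repByAlgSp1_of_repByAlgSpWith hπ) hπ).1 h
  tfae_finish

end AlgSt

end Groth.Agent.H3.AlgStInertia
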