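import Mathlib
import Groth.Agent.Lib.Helper3.AlgSt.Inertia
import Groth.Agent.Lib.Helper3.TwoCartGraph

/-!
# Second diagonals, graphs and comparison of fibre products (helper3)
-/

set_option autoImplicit false
universe u
open CategoryTheory CategoryTheory.Functor CategoryTheory.Limits Opposite AlgebraicGeometry

namespace Groth.Agent.H3.AlgStDiagMore

open Groth.Agent.H3.FibCatAux Groth.Agent.H3.GerbAux Groth.Agent.H3.FpCalc Groth.Agent.H3.TwoCart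
  Groth.Agent.H3.AlgStAux Groth.Agent.H3.BaseChangeSp Groth.Agent.H3.AlgStComp
  Groth.Agent.H3.AlgStProps Groth.Agent.H3.AlgStBridge2 Groth.Agent.H3.AlgStDiagProp
  Groth.Agent.H3.AlgSpCov Groth.Agent.H3.AlgStCharts Groth.Agent.H3.AlgStLES
  Groth.Agent.H3.AlgStDescent Groth.Agent.H3.AlgStCancel Groth.Agent.H3.AlgStDiagFacts
  Groth.Agent.H3.RepBridge Groth.Agent.H3.AlgStDiagLft Groth.Agent.H3.AlgStDiagRep
  Groth.Agent.H3.AlgStDiagIff Groth.Agent.H3.AlgStInertia Groth.Agent.H3.AlgStSourceLocal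
open AlgSp

variable {S : Scheme.{u}} {𝒳 𝒴 𝒵 𝒯 : AlgSt.Cat S}

/-- **S12979** -/
theorem isSeparatedMor_of_univClosed_diag_diag (h𝒳 : AlgSt.IsAlgStack Scheme.fppfPrecoverage 𝒳)
    (h𝒴 : AlgSt.IsAlgStack Scheme.fppfPrecoverage 𝒴) (f : 𝒳 ⥤ᵇ 𝒴)
    (h1 : AlgSt.RepByAlgSpWith IsUnivClosedMor (FibCat.diag f))
    (h2 : AlgSt.RepByAlgSpWith IsUnivClosedMor (FibCat.diag (FibCat.diag f))) :
    AlgSt.IsSeparatedMor f := by
  have hX := h𝒳.isStack.1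
  have hY := h𝒴.isStack.1
  have hF := X6401 f f hX hX hY
  have hΔ1 := repByAlgSp1_diag_of_algStack h𝒳 h𝒴 f
  have hs : AlgSt.RepByAlgSpWith IsSeparatedMor (FibCat.diag f) :=
    ((separated_tfae hX hF (FibCat.diag f) hΔ1).out 3 0).1 h2
  have hl := diag_lft_of_algStack h𝒳 h𝒴 f
  unfold AlgSt.IsSeparatedMor
  rw [repByAlgSpWith_iff_forall' _ hΔ1 _ good_isProperMor.bc good_isProperMor.toC.charts]
  intro U y G e he
  have a1 := (repByAlgSpWith_iff_forall' _ hΔ1 _ good_isSeparatedMor.bc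
    good_isSeparatedMor.toC.charts).1 hs U y G e he
  have a2 := (repByAlgSpWith_iff_forall' _ hΔ1 _ good_lft.bc good_lft.toC.charts).1 hl U y G e he
  have a3 := (repByAlgSpWith_iff_forall' _ hΔ1 _ good_isUnivClosedMor.bc
    good_isUnivClosedMor.toC.charts).1 h1 U y G e he
  exact ⟨a1, ⟨a2, Groth.Agent.H5.AlgSp.isQuasiCompactMor_of_isUnivClosedMor G.property
    (IsAlgSpace.yon_obj U) a3⟩, a3⟩

/-- **S12980** -/
theorem isQuasiSeparatedMor_iff_diag_diag (h𝒳 : AlgSt.IsAlgStack Scheme.fppfPrecoverage 𝒳)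
    (h𝒴 : AlgSt.IsAlgStack Scheme.fppfPrecoverage 𝒴) (f : 𝒳 ⥤ᵇ 𝒴) :
    AlgSt.IsQuasiSeparatedMor f ↔
      AlgSt.RepByAlgSpWith IsQuasiCompactMor (FibCat.diag f) ∧
        AlgSt.RepByAlgSpWith IsQuasiCompactMor (FibCat.diag (FibCat.diag f)) := by
  have hX := h𝒳.isStack.1
  have hY := h𝒴.isStack.1
  have hF := X6401 f f hX hX hY
  have hΔ1 := repByAlgSp1_diag_of_algStack h𝒳 h𝒴 f
  rw [← qs_iff_diag_qc hX hF (FibCat.diag f) hΔ1]
  unfold AlgSt.IsQuasiSeparatedMor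
  constructor
  · intro h
    exact ⟨repByAlgSpWith_and_left _ _ _ h, repByAlgSpWith_and_right _ _ _ h⟩
  · rintro ⟨h1, h2⟩
    exact repByAlgSpWith_and _ _ good_isQuasiSeparatedMor.bc good_isQuasiSeparatedMor.toC.charts _
      h1 h2

/-- the graph of a morphism over `𝒯` is a base change of the diagonal -/
theorem repByAlgSpWith_graph (P : MorphismProperty (Sp S)) (p : 𝒳 ⥤ᵇ 𝒯) (q : 𝒴 ⥤ᵇ 𝒯)
    (g : 𝒳 ⥤ᵇ 𝒴) (e : BasedFunctor.comp (BasedFunctor.id 𝒳) p ≅ BasedFunctor.comp g q)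
    (h : AlgSt.RepByAlgSpWith P (FibCat.diag q)) :
    AlgSt.RepByAlgSpWith P (FibCat.fpLift (BasedFunctor.id 𝒳) g e) :=
  repByAlgSpWith_of_isTwoCartOver P (graphR p q g e) (FibCat.diag q) (graphΓ p q g e) g
    (graphE p q g e) (graph_isTwoCartOver p q g e) h

/-- the comparison `𝒳 ×_𝒵 𝒴 ⟶ 𝒳 ×_𝒯 𝒴` is a base change of the diagonal of `𝒵 ⟶ 𝒯` -/
theorem repByAlgSpWith_fpComparison (P : MorphismProperty (Sp S)) (f : 𝒳 ⥤ᵇ 𝒵) (g : 𝒴 ⥤ᵇ 𝒵)
    (t : 𝒵 ⥤ᵇ 𝒯)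
    (e : BasedFunctor.comp (FibCat.fpFst f g) (BasedFunctor.comp f t) ≅
      BasedFunctor.comp (FibCat.fpSnd f g) (BasedFunctor.comp g t))
    (he : ∀ x, e.hom.toNatTrans.app x = t.map x.obj.iso.hom)
    (h : AlgSt.RepByAlgSpWith P (FibCat.diag t)) :
    AlgSt.RepByAlgSpWith P (FibCat.fpLift (FibCat.fpFst f g) (FibCat.fpSnd f g) e) :=
  repByAlgSpWith_of_isTwoCartOver P (magicR f g t) (FibCat.diag t) (magicI f g t e) (magicL f g)
    (magicE f g t e he) (magic_isTwoCartOver f g t e he) h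

end Groth.Agent.H3.AlgStDiagMore
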