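import Mathlib
import Groth.Agent.Lib.Helper3.AlgSt.NoethImm
import Groth.Agent.Lib.Helper3.AlgSt.DiagMore
import Groth.Agent.Lib.Helper5.AlgSp.IntegralMor
import Groth.Agent.Lib.Helper5.AlgSp.AffineMor
import Groth.Agent.Lib.Helper5.AlgSp.ZarLocalRep

/-!
# Affine, integral and finite morphisms of algebraic stacks: composition (helper3)
-/

set_option autoImplicit false
universe u
open CategoryTheory CategoryTheory.Functor CategoryTheory.Limits Opposite AlgebraicGeometry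

noncomputable section

namespace Groth.Agent.H3.AlgStAffine

open Groth.Agent.H3.FibCatAux Groth.Agent.H3.GerbAux Groth.Agent.H3.FpCalc Groth.Agent.H3.TwoCart
  Groth.Agent.H3.StackPsh Groth.Agent.H3.PshBridge Groth.Agent.H3.AlgStAux Groth.Agent.H3.RepBridge
  Groth.Agent.H3.SetoidPsh Groth.Agent.H3.BaseChangeSp Groth.Agent.H3.AlgStComp
  Groth.Agent.H3.AlgStProps Groth.Agent.H3.AlgStBridge2 Groth.Agent.H3.AlgStCharts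
  Groth.Agent.H3.AlgStDescent Groth.Agent.H3.Whisker Groth.Agent.H3.AlgStLES
  Groth.Agent.H3.FPtRel Groth.Agent.H3.AlgStStackRep Groth.Agent.H3.TwoYoneda
  Groth.Agent.H3.AlgStPoints Groth.Agent.H3.AlgStAlgebraic Groth.Agent.H3.AlgStQCMor

variable {S : Scheme.{u}} {𝒳 𝒴 𝒵 : AlgSt.Cat S}

theorem rep_isAffineMor_iff (f : 𝒳 ⥤ᵇ 𝒴) :
    AlgSt.RepByAlgSpWith AlgSp.IsAffineMor f ↔
      AlgSt.RepByAlgSpWith (AlgSp.RepWith @IsAffineHom) f :=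
  ⟨AlgStDiagLft.repByAlgSpWith_mono
      (fun _ _ _ ha => Groth.Agent.H5.AlgSp.repWith_isAffineHom_of_isAffineMor ha),
    AlgStDiagLft.repByAlgSpWith_mono
      (fun _ _ _ ha => Groth.Agent.H5.AlgSp.isAffineMor_of_repWith ha)⟩

theorem rep_isIntegralMor_iff (f : 𝒳 ⥤ᵇ 𝒴) :
    AlgSt.RepByAlgSpWith AlgSp.IsIntegralMor f ↔
      AlgSt.RepByAlgSpWith (AlgSp.RepWith @IsIntegralHom) f :=
  ⟨AlgStDiagLft.repByAlgSpWith_mono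
      (fun _ _ _ ha => Groth.Agent.H5.AlgSp.isIntegralMor_iff_repWith.1 ha),
    AlgStDiagLft.repByAlgSpWith_mono
      (fun _ _ _ ha => Groth.Agent.H5.AlgSp.isIntegralMor_iff_repWith.2 ha)⟩

theorem rep_isFiniteMor_iff (f : 𝒳 ⥤ᵇ 𝒴) :
    AlgSt.RepByAlgSpWith AlgSp.IsFiniteMor f ↔
      AlgSt.RepByAlgSpWith (AlgSp.RepWith @IsFinite) f :=
  ⟨AlgStDiagLft.repByAlgSpWith_mono
      (fun _ _ _ ha => Groth.Agent.H5.AlgSp.isFiniteMor_iff_repWith.1 ha),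
    AlgStDiagLft.repByAlgSpWith_mono
      (fun _ _ _ ha => Groth.Agent.H5.AlgSp.isFiniteMor_iff_repWith.2 ha)⟩

/-- **S13011** -/
theorem rep_isAffineMor_comp (h𝒳 : FibCat.IsFibGrpd 𝒳.p) (h𝒴 : FibCat.IsFibGrpd 𝒴.p)
    (f : 𝒳 ⥤ᵇ 𝒴) (g : 𝒴 ⥤ᵇ 𝒵) (hf : AlgSt.RepByAlgSpWith AlgSp.IsAffineMor f)
    (hg : AlgSt.RepByAlgSpWith AlgSp.IsAffineMor g) :
    AlgSt.RepByAlgSpWith AlgSp.IsAffineMor (BasedFunctor.comp f g) :=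
  (rep_isAffineMor_iff _).2 ((goodC_repWith @IsAffineHom).repComp h𝒳 h𝒴 f g
    ((rep_isAffineMor_iff f).1 hf) ((rep_isAffineMor_iff g).1 hg))

/-- **S13013** -/
theorem rep_isIntegralMor_comp (h𝒳 : FibCat.IsFibGrpd 𝒳.p) (h𝒴 : FibCat.IsFibGrpd 𝒴.p)
    (f : 𝒳 ⥤ᵇ 𝒴) (g : 𝒴 ⥤ᵇ 𝒵) (hf : AlgSt.RepByAlgSpWith AlgSp.IsIntegralMor f)
    (hg : AlgSt.RepByAlgSpWith AlgSp.IsIntegralMor g) :
    AlgSt.RepByAlgSpWith AlgSp.IsIntegralMor (BasedFunctor.comp f g) :=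
  (rep_isIntegralMor_iff _).2 ((goodC_repWith @IsIntegralHom).repComp h𝒳 h𝒴 f g
    ((rep_isIntegralMor_iff f).1 hf) ((rep_isIntegralMor_iff g).1 hg))

/-- **S13015** -/
theorem rep_isFiniteMor_comp (h𝒳 : FibCat.IsFibGrpd 𝒳.p) (h𝒴 : FibCat.IsFibGrpd 𝒴.p)
    (f : 𝒳 ⥤ᵇ 𝒴) (g : 𝒴 ⥤ᵇ 𝒵) (hf : AlgSt.RepByAlgSpWith AlgSp.IsFiniteMor f)
    (hg : AlgSt.RepByAlgSpWith AlgSp.IsFiniteMor g) :
    AlgSt.RepByAlgSpWith AlgSp.IsFiniteMor (BasedFunctor.comp f g) :=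
  (rep_isFiniteMor_iff _).2 ((goodC_repWith @IsFinite).repComp h𝒳 h𝒴 f g
    ((rep_isFiniteMor_iff f).1 hf) ((rep_isFiniteMor_iff g).1 hg))

/-- cancellation for a property `P` stable under base change and composition: in a triangle
`f ≫ b ≅ a`, if `a` and the diagonal of `b` have `P` then so does `f` -/
theorem rep_of_triangle {P : MorphismProperty (AlgSp.Sp S)} (hP : GoodC P)
    (h𝒳 : FibCat.IsFibGrpd 𝒳.p) (h𝒴 : FibCat.IsFibGrpd 𝒴.p) (h𝒵 : FibCat.IsFibGrpd 𝒵.p)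
    (f : 𝒳 ⥤ᵇ 𝒴) (a : 𝒳 ⥤ᵇ 𝒵) (b : 𝒴 ⥤ᵇ 𝒵) (e : BasedFunctor.comp f b ≅ a)
    (ha : AlgSt.RepByAlgSpWith P a) (hb : AlgSt.RepByAlgSpWith P (FibCat.diag b)) :
    AlgSt.RepByAlgSpWith P f := by
  have e' : BasedFunctor.comp (BasedFunctor.id 𝒳) a ≅ BasedFunctor.comp f b := e.symm
  have h1 : AlgSt.RepByAlgSpWith P (FibCat.fpLift (BasedFunctor.id 𝒳) f e') :=
    Groth.Agent.H3.AlgStDiagMore.repByAlgSpWith_graph P a b f e' hb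
  have h2 : AlgSt.RepByAlgSpWith P (FibCat.fpSnd a b) := repByAlgSpWith_fpSnd P a b ha
  have h3 := hP.repComp h𝒳 (X6401 a b h𝒳 h𝒴 h𝒵) _ _ h1 h2
  have h4 : BasedFunctor.comp (FibCat.fpLift (BasedFunctor.id 𝒳) f e') (FibCat.fpSnd a b) = f := by
    apply basedFunctor_ext; rfl
  rw [h4] at h3
  exact h3

/-- **S13016** -/
theorem rep_isAffineMor_of_triangle (h𝒳 : FibCat.IsFibGrpd 𝒳.p) (h𝒴 : FibCat.IsFibGrpd 𝒴.p)
    (h𝒵 : FibCat.IsFibGrpd 𝒵.p) (f : 𝒳 ⥤ᵇ 𝒴) (a : 𝒳 ⥤ᵇ 𝒵) (b : 𝒴 ⥤ᵇ 𝒵)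
    (e : BasedFunctor.comp f b ≅ a) (ha : AlgSt.RepByAlgSpWith AlgSp.IsAffineMor a)
    (hb : AlgSt.RepByAlgSpWith AlgSp.IsAffineMor (FibCat.diag b)) :
    AlgSt.RepByAlgSpWith AlgSp.IsAffineMor f :=
  (rep_isAffineMor_iff _).2 (rep_of_triangle (goodC_repWith @IsAffineHom) h𝒳 h𝒴 h𝒵 f a b e
    ((rep_isAffineMor_iff a).1 ha) ((rep_isAffineMor_iff _).1 hb))

end Groth.Agent.H3.AlgStAffine
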