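import Mathlib
import Groth.Agent.Lib.Helper3.AlgSt.OpenSub
import Groth.Agent.Lib.Helper3.AlgSt.AffineComp
import Groth.Agent.Lib.Helper5.AlgSp.OpenSub
import Groth.Agent.Lib.Helper5.AlgSp.SchematicLocus

set_option autoImplicit false
universe u
open CategoryTheory CategoryTheory.Functor CategoryTheory.Limits Opposite AlgebraicGeometry

noncomputable section

namespace Groth.Agent.H3.OpenSub

open Groth.Agent.H3.FibCatAux Groth.Agent.H3.GerbAux Groth.Agent.H3.FpCalc Groth.Agent.H3.TwoCart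
  Groth.Agent.H3.StackPsh Groth.Agent.H3.PshBridge Groth.Agent.H3.AlgStAux Groth.Agent.H3.RepBridge
  Groth.Agent.H3.SetoidPsh Groth.Agent.H3.BaseChangeSp Groth.Agent.H3.AlgStComp
  Groth.Agent.H3.AlgStProps Groth.Agent.H3.AlgStBridge2 Groth.Agent.H3.AlgStCharts
  Groth.Agent.H3.AlgStDescent Groth.Agent.H3.Whisker Groth.Agent.H3.AlgStLES
  Groth.Agent.H3.FPtRel Groth.Agent.H3.AlgStStackRep Groth.Agent.H3.TwoYoneda
  Groth.Agent.H3.AlgStPoints Groth.Agent.H3.AlgStAlgebraic Groth.Agent.H3.AlgStQCMor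
  Groth.Agent.H3.AlgStSmoothLoc Groth.Agent.H3.SmSrc Groth.Agent.H3.AlgStLocQ
  Groth.Agent.H3.AlgStAffine

variable {S : Scheme.{u}} {𝒳 𝒴 𝒵 : AlgSt.Cat S}

/-- a strictly full subcategory fibred in groupoids is closed under precomposition -/
theorem of_hom_of_isFibGrpd (h𝒳 : FibCat.IsFibGrpd 𝒳.p) (Q : 𝒳.obj → Prop)
    (hQi : ObjectProperty.IsClosedUnderIsomorphisms Q)
    (hfib : FibCat.IsFibGrpd (AlgSt.fullSub 𝒳 Q).p) {x y : 𝒳.obj} (m : x ⟶ y) (hy : Q y) : Q x := by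
  obtain ⟨y', φ, hφ⟩ := hfib.exists_lift (x := (⟨y, hy⟩ : (AlgSt.fullSub 𝒳 Q).obj)) (𝒳.p.map m)
  have hφ' : 𝒳.p.IsHomLift (𝒳.p.map m) φ.hom :=
    (Groth.Agent.H3.StackMore.sub_isHomLift_iff Q (𝒳.p.map m) φ).1 hφ
  have hcart : 𝒳.p.IsStronglyCartesian (𝒳.p.map m) φ.hom :=
    isStronglyCartesian_of_isHomLift 𝒳.p h𝒳 _ _
  have hm : 𝒳.p.IsHomLift (𝟙 (𝒳.p.obj x) ≫ 𝒳.p.map m) m := by
    rw [Category.id_comp]; exact IsHomLift.map 𝒳.p m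
  let χ : x ⟶ y'.obj := IsStronglyCartesian.map 𝒳.p (𝒳.p.map m) φ.hom (f' := 𝟙 _ ≫ 𝒳.p.map m) rfl m
  have hχ : 𝒳.p.IsHomLift (𝟙 (𝒳.p.obj x)) χ :=
    IsStronglyCartesian.map_isHomLift 𝒳.p (𝒳.p.map m) φ.hom (f' := 𝟙 _ ≫ 𝒳.p.map m) rfl m
  have : IsIso χ := isIso_of_isHomLift_id 𝒳.p h𝒳 (U := 𝒳.p.obj x) χ
  exact hQi.of_iso (asIso χ).symm y'.property

/-- a surjective open immersion is essentially surjective -/
theorem exists_obj_iso_of_openImm_surj (h𝒵 : FibCat.IsFibGrpd 𝒵.p) (h𝒴 : FibCat.IsFibGrpd 𝒴.p)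
    (f : 𝒵 ⥤ᵇ 𝒴) (hf : AlgSt.IsOpenImm f) (hs : AlgSt.IsSurjective f) (x : 𝒴.obj) :
    ∃ z : 𝒵.obj, Nonempty (f.obj z ≅ x) := by
  obtain ⟨F, e, he, hφ⟩ := hf (𝒴.p.obj x) (yBased h𝒴 x)
  have hsurj : AlgSp.IsSurjectiveMor (AlgSt.spMapOfOver
      (BasedFunctor.comp e (FibCat.fpFst (yBased h𝒴 x) f))) :=
    fst_prop _ good_isSurjectiveMor.bc good_isSurjectiveMor.toC.charts f
      (rep_of_isSurjective h𝒵 h𝒴 f (repByAlgSp1_of_repByAlgSpWith hf) hs) _ _ F e he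
  have hiso := Groth.Agent.H5.AlgSp.isIso_of_isOpenImmersion_of_points_surjective hφ hsurj
  obtain ⟨ι⟩ := projIso (BasedFunctor.comp e (FibCat.fpFst (yBased h𝒴 x) f))
  obtain ⟨φ, hφdef⟩ : ∃ φ, φ = AlgSt.spMapOfOver
    (BasedFunctor.comp e (FibCat.fpFst (yBased h𝒴 x) f)) := ⟨_, rfl⟩
  rw [← hφdef] at ι hiso
  have hiso' : IsIso φ.hom := inferInstanceAs (IsIso ((ObjectProperty.ι _).map φ))
  have h1 : FibCat.IsEquivOver (projOf φ.hom) :=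
    isEquivOver_comp _ _ (isEquivOver_ofPshMap φ.hom) (isEquivOver_toOver _)
  have h2 : FibCat.IsEquivOver (BasedFunctor.comp e (FibCat.fpFst (yBased h𝒴 x) f)) :=
    isEquivOver_of_iso ι.symm h1
  obtain ⟨a, i, -⟩ := ((X5139 _).1 h2).2 (Over.mk (𝟙 (𝒴.p.obj x)))
  let w := e.obj a
  have i' : (yBased h𝒴 x).obj w.obj.fst ≅ x := (yBased h𝒴 x).toFunctor.mapIso i ≪≫ yIso h𝒴 x
  exact ⟨w.obj.snd, ⟨w.obj.iso.symm ≪≫ i'⟩⟩

/-- open immersions are étale, hence smooth, flat, locally of finite presentation -/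
theorem rep_locP_of_isOpenImm {P₀ : MorphismProperty Scheme.{u}} [P₀.IsStableUnderComposition]
    (hle : (@Etale : MorphismProperty Scheme.{u}) ≤ P₀) (f : 𝒵 ⥤ᵇ 𝒴) (hf : AlgSt.IsOpenImm f) :
    AlgSt.RepByAlgSpWith (AlgSp.LocP P₀) f :=
  AlgStDiagLft.repByAlgSpWith_mono (fun _ _ _ ha => Groth.Agent.H5.AlgSp.locP_of_repWith hle
    (Groth.Agent.H5.AlgSp.repWith_mono
      (Groth.Agent.H5.AlgSp.isOpenImmersion_le_etale.trans hle) ha)) hf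

/-- an open immersion of algebraic stacks is open on points -/
theorem isOpenMor_of_isOpenImm (h𝒵 : AlgSt.IsAlgStack Scheme.fppfPrecoverage 𝒵)
    (h𝒴 : AlgSt.IsAlgStack Scheme.fppfPrecoverage 𝒴) (f : 𝒵 ⥤ᵇ 𝒴) (hf : AlgSt.IsOpenImm f) :
    AlgSt.IsOpenMor f :=
  isOpenMor_of_locQ h𝒵 h𝒴 f
    (locQ_of_rep isSmoothLocalST_flat h𝒴 f
      (rep_locP_of_isOpenImm Groth.Agent.H5.AlgSp.etale_le_flat f hf))
    (locQ_of_rep isSmoothLocalST_lfp h𝒴 f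
      (rep_locP_of_isOpenImm Groth.Agent.H5.AlgSp.etale_le_lfp f hf))

/-- the points of an open substack form an open subset -/
theorem isOpen_range_subIncl (h𝒳 : AlgSt.IsAlgStack Scheme.fppfPrecoverage 𝒳) (Q : 𝒳.obj → Prop)
    (hQ : AlgSt.IsOpenSubstack 𝒳 Q Scheme.fppfPrecoverage) :
    IsOpen (Set.range (AlgSt.Points.map (AlgSt.subIncl 𝒳 Q))) := by
  rw [← Set.image_univ]
  exact isOpenMor_of_isOpenImm hQ.2.1 h𝒳 _ hQ.2.2 _ isOpen_univ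

/-- the inclusion of a full subcategory is a monomorphism: its diagonal is an equivalence -/
theorem rep_diag_subIncl (h𝒳 : FibCat.IsFibGrpd 𝒳.p) (Q : 𝒳.obj → Prop)
    (hfib : FibCat.IsFibGrpd (AlgSt.fullSub 𝒳 Q).p) (P : MorphismProperty (AlgSp.Sp S))
    (hP : ∀ X : AlgSp.Sp S, P (𝟙 X)) :
    AlgSt.RepByAlgSpWith P (FibCat.diag (AlgSt.subIncl 𝒳 Q)) := by
  have h1 : FibCat.IsEquivOver (FibCat.diag (AlgSt.subIncl 𝒳 Q)) :=
    (X6399 (AlgSt.subIncl 𝒳 Q) hfib h𝒳).1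
      ⟨inferInstanceAs (ObjectProperty.ι Q).Full, inferInstanceAs (ObjectProperty.ι Q).Faithful⟩
  exact repByAlgSpWith_of_isEquivOver P hP _ h1

/-- inclusion of substacks: an immersion of the same kind as the smaller one -/
theorem rep_liftSub_subIncl (h𝒳 : FibCat.IsFibGrpd 𝒳.p) (Q Q' : 𝒳.obj → Prop)
    (hfib : FibCat.IsFibGrpd (AlgSt.fullSub 𝒳 Q).p)
    (hfib' : FibCat.IsFibGrpd (AlgSt.fullSub 𝒳 Q').p) (hle : ∀ x, Q x → Q' x)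
    (P₀ : MorphismProperty Scheme.{u}) [P₀.IsStableUnderBaseChange] [P₀.IsMultiplicative]
    (hQ : AlgSt.RepByAlgSpWith (AlgSp.RepWith P₀) (AlgSt.subIncl 𝒳 Q)) :
    AlgSt.RepByAlgSpWith (AlgSp.RepWith P₀)
      (liftSub Q' (AlgSt.subIncl 𝒳 Q) (fun z => hle _ z.property)) :=
  rep_of_triangle (goodC_repWith P₀) hfib hfib' h𝒳 _ (AlgSt.subIncl 𝒳 Q) (AlgSt.subIncl 𝒳 Q')
    (Iso.refl _) hQ (rep_diag_subIncl h𝒳 Q' hfib' _ (fun X => MorphismProperty.id_mem _ X))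

/-- inclusion of substacks with the same points is surjective on points -/
theorem isSurjective_liftSub_subIncl (h𝒳 : FibCat.IsFibGrpd 𝒳.p) (Q Q' : 𝒳.obj → Prop)
    (hQh : ∀ ⦃x y : 𝒳.obj⦄ (_ : x ⟶ y), Q y → Q x) (hle : ∀ x, Q x → Q' x)
    (hpts : Set.range (AlgSt.Points.map (AlgSt.subIncl 𝒳 Q')) ⊆
      Set.range (AlgSt.Points.map (AlgSt.subIncl 𝒳 Q))) :
    AlgSt.IsSurjective (liftSub Q' (AlgSt.subIncl 𝒳 Q) (fun z => hle _ z.property)) := by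
  intro w
  obtain ⟨p', rfl⟩ := AlgSt.Points.mk_surjective w
  have h1 : AlgSt.Points.mk (p'.map (AlgSt.subIncl 𝒳 Q')) ∈
      Set.range (AlgSt.Points.map (AlgSt.subIncl 𝒳 Q)) := hpts ⟨AlgSt.Points.mk p', rfl⟩
  rw [mem_range_subIncl_iff] at h1
  obtain ⟨q, hq, hQq⟩ := h1
  rw [mk_eq_mk_iff h𝒳] at hq
  obtain ⟨r, a, b, -⟩ := hq
  have hr : Q r.obj := hQh a hQq
  refine ⟨AlgSt.Points.mk ⟨r.K, r.str, ⟨r.obj, hr⟩, r.lies⟩, ?_⟩
  rw [AlgSt.Points.map_mk]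
  apply AlgSt.Points.sound
  exact rel_of_hom (p := AlgSt.FPt.map _ _) (q := p') (ObjectProperty.homMk b)

/-- an open substack inside a full subcategory fibred in groupoids with no more points is the
whole subcategory -/
theorem le_of_openSubstack_of_points (h𝒳 : FibCat.IsFibGrpd 𝒳.p) (Q Q' : 𝒳.obj → Prop)
    (hQ : AlgSt.IsOpenSubstack 𝒳 Q Scheme.fppfPrecoverage)
    (hfib' : FibCat.IsFibGrpd (AlgSt.fullSub 𝒳 Q').p) (hle : ∀ x, Q x → Q' x)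
    (hpts : Set.range (AlgSt.Points.map (AlgSt.subIncl 𝒳 Q')) ⊆
      Set.range (AlgSt.Points.map (AlgSt.subIncl 𝒳 Q))) (x : 𝒳.obj) (hx : Q' x) : Q x := by
  have hfib := hQ.2.1.isStack.1
  have hQh : ∀ ⦃x y : 𝒳.obj⦄ (_ : x ⟶ y), Q y → Q x :=
    fun _ _ m hy => of_hom_of_isFibGrpd h𝒳 Q hQ.1 hfib m hy
  obtain ⟨z, ⟨i⟩⟩ := exists_obj_iso_of_openImm_surj hfib hfib' _
    (rep_liftSub_subIncl h𝒳 Q Q' hfib hfib' hle @IsOpenImmersion hQ.2.2)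
    (isSurjective_liftSub_subIncl h𝒳 Q Q' hQh hle hpts) ⟨x, hx⟩
  exact hQ.1.of_iso ((ObjectProperty.ι Q').mapIso i) z.property

/-- an open substack is determined by its points -/
theorem eq_subOf_range (h𝒳 : AlgSt.IsAlgStack Scheme.fppfPrecoverage 𝒳) (Q : 𝒳.obj → Prop)
    (hQ : AlgSt.IsOpenSubstack 𝒳 Q Scheme.fppfPrecoverage) :
    Q = subOf (Set.range (AlgSt.Points.map (AlgSt.subIncl 𝒳 Q))) := by
  have hQh : ∀ ⦃x y : 𝒳.obj⦄ (_ : x ⟶ y), Q y → Q x :=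
    fun _ _ m hy => of_hom_of_isFibGrpd h𝒳.isStack.1 Q hQ.1 hQ.2.1.isStack.1 m hy
  have hle : ∀ x, Q x → subOf (Set.range (AlgSt.Points.map (AlgSt.subIncl 𝒳 Q))) x := by
    intro x hx p ⟨m⟩
    rw [mem_range_subIncl_iff]
    exact ⟨p, rfl, hQh m hx⟩
  funext x
  apply propext
  refine ⟨hle x, le_of_openSubstack_of_points h𝒳.isStack.1 Q _ hQ
    (isFibGrpd_fullSub h𝒳.isStack.1 _ (fun _ _ m hy => subOf_of_hom m hy)) hle ?_ x⟩
  rw [range_subIncl_subOf]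


end Groth.Agent.H3.OpenSub
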