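import Mathlib
import Groth.Agent.Lib.Helper3.AlgSt.OpenSub2

set_option autoImplicit false
universe w u
open CategoryTheory CategoryTheory.Functor CategoryTheory.Limits Opposite AlgebraicGeometry

noncomputable section

namespace Groth.Agent.H3.OpenSub

open Groth.Agent.H3.FibCatAux Groth.Agent.H3.GerbAux Groth.Agent.H3.FpCalc Groth.Agent.H3.TwoCart
  Groth.Agent.H3.StackPsh Groth.Agent.H3.PshBridge Groth.Agent.H3.AlgStAux Groth.Agent.H3.RepBridge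
  Groth.Agent.H3.SetoidPsh Groth.Agent.H3.BaseChangeSp Groth.Agent.H3.AlgStComp
  Groth.Agent.H3.AlgStProps Groth.Agent.H3.AlgStBridge2 Groth.Agent.H3.AlgStCharts
  Groth.Agent.H3.AlgStDescent Groth.Agent.H3.Whisker Groth.Agent.H3.AlgStLES
  Groth.Agent.H3.FPtRel Groth.Agent.H3.AlgStStackRep Groth.Agent.H3.TwoYoneda
  Groth.Agent.H3.AlgStPoints Groth.Agent.H3.AlgStAlgebraic Groth.Agent.H3.AlgStQCMor
  Groth.Agent.H3.AlgStSmoothLoc Groth.Agent.H3.SmSrc Groth.Agent.H3.AlgStLocQ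
  Groth.Agent.H3.AlgStAffine

variable {S : Scheme.{u}} {𝒳 𝒴 𝒵 : AlgSt.Cat S}

/-- containment of open substacks is containment of their points -/
theorem le_iff_range_subset (h𝒳 : AlgSt.IsAlgStack Scheme.fppfPrecoverage 𝒳) (Q Q' : 𝒳.obj → Prop)
    (hQ : AlgSt.IsOpenSubstack 𝒳 Q Scheme.fppfPrecoverage)
    (hQ' : AlgSt.IsOpenSubstack 𝒳 Q' Scheme.fppfPrecoverage) :
    (∀ y, Q y → Q' y) ↔ Set.range (AlgSt.Points.map (AlgSt.subIncl 𝒳 Q)) ⊆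
      Set.range (AlgSt.Points.map (AlgSt.subIncl 𝒳 Q')) := by
  constructor
  · intro h t ht
    rw [mem_range_subIncl_iff] at ht ⊢
    obtain ⟨p, hp, hQp⟩ := ht
    exact ⟨p, hp, h _ hQp⟩
  · intro h y hy
    rw [eq_subOf_range h𝒳 Q hQ] at hy
    rw [eq_subOf_range h𝒳 Q' hQ']
    exact subOf_mono h y hy

/-- **S12859** -/
theorem bijOn_openSubstack (h𝒳 : AlgSt.IsAlgStack Scheme.fppfPrecoverage 𝒳) :
    Set.BijOn (fun Q : 𝒳.obj → Prop => Set.range (AlgSt.Points.map (AlgSt.subIncl 𝒳 Q)))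
        {Q | AlgSt.IsOpenSubstack 𝒳 Q Scheme.fppfPrecoverage} {T | IsOpen T} := by
  refine ⟨fun Q hQ => isOpen_range_subIncl h𝒳 Q hQ, ?_, ?_⟩
  · intro Q hQ Q' hQ' h
    rw [eq_subOf_range h𝒳 Q hQ, eq_subOf_range h𝒳 Q' hQ']
    exact congrArg subOf h
  · intro T hT
    exact ⟨subOf T, isOpenSubstack_subOf h𝒳 T hT, range_subIncl_subOf T⟩

/-- **S12861** -/
theorem exists_union (h𝒳 : AlgSt.IsAlgStack Scheme.fppfPrecoverage 𝒳) {ι : Type w}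
    (Q : ι → 𝒳.obj → Prop)
    (hQ : ∀ i, AlgSt.IsOpenSubstack 𝒳 (Q i) Scheme.fppfPrecoverage) :
    ∃ Q' : 𝒳.obj → Prop, AlgSt.IsOpenSubstack 𝒳 Q' Scheme.fppfPrecoverage ∧
      (∀ i y, Q i y → Q' y) ∧
      Set.range (AlgSt.Points.map (AlgSt.subIncl 𝒳 Q')) =
        ⋃ i, Set.range (AlgSt.Points.map (AlgSt.subIncl 𝒳 (Q i))) := by
  refine ⟨subOf (⋃ i, Set.range (AlgSt.Points.map (AlgSt.subIncl 𝒳 (Q i)))),
    isOpenSubstack_subOf h𝒳 _ (isOpen_iUnion fun i => isOpen_range_subIncl h𝒳 _ (hQ i)), ?_,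
    range_subIncl_subOf _⟩
  intro i y hy
  rw [eq_subOf_range h𝒳 (Q i) (hQ i)] at hy
  exact subOf_mono (Set.subset_iUnion _ i) y hy

/-- **S12862** -/
theorem exists_finset_subcover (h𝒳 : AlgSt.IsAlgStack Scheme.fppfPrecoverage 𝒳)
    (Q' : 𝒳.obj → Prop) (hQ' : AlgSt.IsOpenSubstack 𝒳 Q' Scheme.fppfPrecoverage)
    (hqc : AlgSt.IsQuasiCompact (AlgSt.fullSub 𝒳 Q'))
    {ι : Type w} (Q : ι → 𝒳.obj → Prop)
    (hQ : ∀ i, AlgSt.IsOpenSubstack 𝒳 (Q i) Scheme.fppfPrecoverage)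
    (hcov : Set.range (AlgSt.Points.map (AlgSt.subIncl 𝒳 Q')) ⊆
      ⋃ i, Set.range (AlgSt.Points.map (AlgSt.subIncl 𝒳 (Q i)))) :
    ∃ I' : Finset ι, Set.range (AlgSt.Points.map (AlgSt.subIncl 𝒳 Q')) ⊆
      ⋃ i ∈ I', Set.range (AlgSt.Points.map (AlgSt.subIncl 𝒳 (Q i))) := by
  have hc : CompactSpace (AlgSt.Points (AlgSt.fullSub 𝒳 Q')) :=
    (isQuasiCompact_iff_compactSpace hQ'.2.1).1 hqc
  have hcomp : IsCompact (Set.range (AlgSt.Points.map (AlgSt.subIncl 𝒳 Q'))) :=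
    isCompact_range (continuous_points_map h𝒳 _)
  exact hcomp.elim_finite_subcover _ (fun i => isOpen_range_subIncl h𝒳 _ (hQ i)) hcov

end Groth.Agent.H3.OpenSub
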