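import Mathlib
import Groth.Agent.Lib.Helper3.AlgSt.OpenSub3

set_option autoImplicit false
universe w u
open CategoryTheory CategoryTheory.Functor CategoryTheory.Limits Opposite AlgebraicGeometry

noncomputable section

namespace Groth.Agent.H3.OpenSub

open Groth.Agent.H3.FibCatAux Groth.Agent.H3.GerbAux Groth.Agent.H3.FpCalc Groth.Agent.H3.TwoCart
  Groth.Agent.H3.StackPsh Groth.Agent.H3.PshBridge Groth.Agent.H3.AlgStAux Groth.Agent.H3.RepBridge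
  Groth.Agent.H3.SetoidPsh Groth.Agent.H3.BaseChangeSp Groth.Agent.H3.AlgStComp
  Groth.Agent.H3.AlgStProps Groth.Agent.H3.AlgStBridge2 Groth.Agent.H3.AlgStCharts
  Groth.Agent.H3.AlgStDescent Groth.Agent.H3.Whisker Groth.Agent.H3.AlgStLES
  Groth.Agent.H3.FPtRel Groth.Agent.H3.AlgStStackRep Groth.Agent.H3.TwoYoneda
  Groth.Agent.H3.AlgStPoints Groth.Agent.H3.AlgStAlgebraic Groth.Agent.H3.AlgStQCMor
  Groth.Agent.H3.AlgStSmoothLoc Groth.Agent.H3.SmSrc Groth.Agent.H3.AlgStLocQ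
  Groth.Agent.H3.AlgStAffine

variable {S : Scheme.{u}} {𝒳 𝒴 𝒵 𝒱 : AlgSt.Cat S}

/-- the largest open subscheme of the source on which a Zariski-source-local property holds -/
theorem exists_largest_open_source (P : MorphismProperty Scheme.{u}) [IsZariskiLocalAtSource P]
    {X Y : Scheme.{u}} (f : X ⟶ Y) :
    ∃ W : X.Opens, P (W.ι ≫ f) ∧ ∀ N : X.Opens, P (N.ι ≫ f) → N ≤ W := by
  refine ⟨⨆ N : {N : X.Opens // P (N.ι ≫ f)}, N.1, ?_,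
    fun N hN => le_iSup (fun N : {N : X.Opens // P (N.ι ≫ f)} => N.1) ⟨N, hN⟩⟩
  apply IsZariskiLocalAtSource.of_openCover
    (Scheme.Opens.iSupOpenCover (fun N : {N : X.Opens // P (N.ι ≫ f)} => N.1))
  intro N
  have h1 : (Scheme.Opens.iSupOpenCover (fun N : {N : X.Opens // P (N.ι ≫ f)} => N.1)).f N =
      X.homOfLE (le_iSup (fun N : {N : X.Opens // P (N.ι ≫ f)} => N.1) N) := rfl
  have h2 := Scheme.homOfLE_ι_assoc X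
    (le_iSup (fun N : {N : X.Opens // P (N.ι ≫ f)} => N.1) N) f
  rw [h1]
  exact h2 ▸ N.2

/-- the inclusion of a full subcategory closed under precomposition is injective on points -/
theorem points_map_subIncl_injective (h𝒳 : FibCat.IsFibGrpd 𝒳.p) (Q : 𝒳.obj → Prop)
    (hQh : ∀ ⦃x y : 𝒳.obj⦄ (_ : x ⟶ y), Q y → Q x) :
    Function.Injective (AlgSt.Points.map (AlgSt.subIncl 𝒳 Q)) := by
  intro w w' h
  obtain ⟨p, rfl⟩ := AlgSt.Points.mk_surjective w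
  obtain ⟨p', rfl⟩ := AlgSt.Points.mk_surjective w'
  rw [AlgSt.Points.map_mk, AlgSt.Points.map_mk, mk_eq_mk_iff h𝒳] at h
  obtain ⟨r, a, b, -⟩ := h
  have hr : Q r.obj := hQh a p.obj.property
  apply AlgSt.Points.sound
  exact ⟨⟨r.K, r.str, ⟨r.obj, hr⟩, r.lies⟩, ObjectProperty.homMk a, ObjectProperty.homMk b, trivial⟩

/-- lifting a functor with values in `Q`: representability passes to the lift -/
theorem rep_liftSub {P : MorphismProperty (AlgSp.Sp S)} (hP : GoodC P)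
    (hPid : ∀ X : AlgSp.Sp S, P (𝟙 X)) (h𝒵 : FibCat.IsFibGrpd 𝒵.p) (h𝒳 : FibCat.IsFibGrpd 𝒳.p)
    (Q : 𝒳.obj → Prop) (hfib : FibCat.IsFibGrpd (AlgSt.fullSub 𝒳 Q).p) (a : 𝒵 ⥤ᵇ 𝒳)
    (ha : ∀ z, Q (a.obj z)) (hrep : AlgSt.RepByAlgSpWith P a) :
    AlgSt.RepByAlgSpWith P (liftSub Q a ha) :=
  rep_of_triangle hP h𝒵 hfib h𝒳 _ a (AlgSt.subIncl 𝒳 Q) (Iso.refl _) hrep
    (rep_diag_subIncl h𝒳 Q hfib P hPid)

/-- lifting a functor with values in `Q`: surjectivity on points -/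
theorem isSurjective_liftSub (h𝒳 : FibCat.IsFibGrpd 𝒳.p) (Q : 𝒳.obj → Prop)
    (hQh : ∀ ⦃x y : 𝒳.obj⦄ (_ : x ⟶ y), Q y → Q x) (a : 𝒵 ⥤ᵇ 𝒳) (ha : ∀ z, Q (a.obj z))
    (hpts : Set.range (AlgSt.Points.map (AlgSt.subIncl 𝒳 Q)) ⊆ Set.range (AlgSt.Points.map a)) :
    AlgSt.IsSurjective (liftSub Q a ha) := by
  intro w
  obtain ⟨z, hz⟩ := hpts ⟨w, rfl⟩
  refine ⟨z, points_map_subIncl_injective h𝒳 Q hQh ?_⟩
  rw [← hz, ← points_map_comp]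
  rfl

/-- the comparison `𝒳' ×_𝒴 𝒱 ⟶ 𝒳 ×_𝒴 𝒱` for a full subcategory `𝒳'` of `𝒳` -/
def subFp (Q : 𝒳.obj → Prop) (f : 𝒳 ⥤ᵇ 𝒴) (y : 𝒱 ⥤ᵇ 𝒴) :
    FibCat.fp (BasedFunctor.comp (AlgSt.subIncl 𝒳 Q) f) y ⥤ᵇ FibCat.fp f y :=
  fpMap (F' := BasedFunctor.comp (AlgSt.subIncl 𝒳 Q) f) (G' := y) (F := f) (G := y)
    (AlgSt.subIncl 𝒳 Q) (BasedFunctor.id 𝒱) (BasedFunctor.id 𝒴) (Iso.refl _) (Iso.refl _)

lemma subFp_full (Q : 𝒳.obj → Prop) (f : 𝒳 ⥤ᵇ 𝒴) (y : 𝒱 ⥤ᵇ 𝒴) :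
    (subFp Q f y).toFunctor.Full := by
  have h1 : (AlgSt.subIncl 𝒳 Q).toFunctor.Full := inferInstanceAs (ObjectProperty.ι Q).Full
  have h2 : (BasedFunctor.id 𝒱).toFunctor.Full := Functor.Full.id
  have h3 : (BasedFunctor.id 𝒴).toFunctor.Faithful := Functor.Faithful.id
  exact fpMap_full _ _ _ _ _

lemma subFp_faithful (Q : 𝒳.obj → Prop) (f : 𝒳 ⥤ᵇ 𝒴) (y : 𝒱 ⥤ᵇ 𝒴) :
    (subFp Q f y).toFunctor.Faithful := by
  have h1 : (AlgSt.subIncl 𝒳 Q).toFunctor.Faithful := inferInstanceAs (ObjectProperty.ι Q).Faithful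
  have h2 : (BasedFunctor.id 𝒱).toFunctor.Faithful := Functor.Faithful.id
  exact fpMap_faithful _ _ _ _ _

/-- the lift of a functor into `𝒳 ×_𝒴 𝒱` with first components in `Q` -/
def fpLiftSub (Q : 𝒳.obj → Prop) (f : 𝒳 ⥤ᵇ 𝒴) (y : 𝒱 ⥤ᵇ 𝒴) (d : 𝒵 ⥤ᵇ FibCat.fp f y)
    (hQ : ∀ z, Q ((BasedFunctor.comp d (FibCat.fpFst f y)).obj z)) :
    𝒵 ⥤ᵇ FibCat.fp (BasedFunctor.comp (AlgSt.subIncl 𝒳 Q) f) y :=
  FibCat.fpLift (liftSub Q (BasedFunctor.comp d (FibCat.fpFst f y)) hQ)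
    (BasedFunctor.comp d (FibCat.fpSnd f y)) (whiskerL d (FibCat.fpIso f y))

lemma fpLiftSub_comp_fpSnd (Q : 𝒳.obj → Prop) (f : 𝒳 ⥤ᵇ 𝒴) (y : 𝒱 ⥤ᵇ 𝒴) (d : 𝒵 ⥤ᵇ FibCat.fp f y)
    (hQ : ∀ z, Q ((BasedFunctor.comp d (FibCat.fpFst f y)).obj z)) :
    BasedFunctor.comp (fpLiftSub Q f y d hQ) (FibCat.fpSnd _ y) =
      BasedFunctor.comp d (FibCat.fpSnd f y) := by
  apply basedFunctor_ext; rfl

lemma fpLiftSub_comp_fpFst (Q : 𝒳.obj → Prop) (f : 𝒳 ⥤ᵇ 𝒴) (y : 𝒱 ⥤ᵇ 𝒴) (d : 𝒵 ⥤ᵇ FibCat.fp f y)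
    (hQ : ∀ z, Q ((BasedFunctor.comp d (FibCat.fpFst f y)).obj z)) :
    BasedFunctor.comp (fpLiftSub Q f y d hQ) (FibCat.fpFst _ y) =
      liftSub Q (BasedFunctor.comp d (FibCat.fpFst f y)) hQ := by
  apply basedFunctor_ext; rfl

/-- the lift composed with the comparison is the original functor -/
def fpLiftSubIso (Q : 𝒳.obj → Prop) (f : 𝒳 ⥤ᵇ 𝒴) (y : 𝒱 ⥤ᵇ 𝒴) (d : 𝒵 ⥤ᵇ FibCat.fp f y)
    (hQ : ∀ z, Q ((BasedFunctor.comp d (FibCat.fpFst f y)).obj z)) :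
    BasedFunctor.comp (fpLiftSub Q f y d hQ) (subFp Q f y) ≅ d :=
  BasedNatIso.mkNatIso
    (NatIso.ofComponents
      (fun z => fpIsoMk (Iso.refl _) (Iso.refl _) (by
        show f.map (𝟙 _) ≫ (d.obj z).obj.iso.hom =
          (𝟙 _ ≫ (d.obj z).obj.iso.hom ≫ 𝟙 _) ≫ y.map (𝟙 _)
        simp))
      (fun {z z'} g => by
        apply fp_hom_ext
        · show (d.map g).hom.fst ≫ 𝟙 _ = 𝟙 _ ≫ (d.map g).hom.fst
          simp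
        · show (d.map g).hom.snd ≫ 𝟙 _ = 𝟙 _ ≫ (d.map g).hom.snd
          simp))
    (fun z => by
      rw [fp_isHomLift_iff]
      show 𝒳.p.IsHomLift (𝟙 (𝒵.p.obj z)) (𝟙 ((d.obj z).obj.fst))
      have h1 : 𝒳.p.obj ((d.obj z).obj.fst) = 𝒵.p.obj z := d.w_obj z
      rw [← h1]
      infer_instance)


/-- representability passes to the lift into `𝒳' ×_𝒴 𝒱` -/
theorem rep_fpLiftSub {P : MorphismProperty (AlgSp.Sp S)} (hP : GoodC P)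
    (hPid : ∀ X : AlgSp.Sp S, P (𝟙 X)) (h𝒵 : FibCat.IsFibGrpd 𝒵.p) (h𝒳 : FibCat.IsFibGrpd 𝒳.p)
    (h𝒴 : FibCat.IsFibGrpd 𝒴.p) (h𝒱 : FibCat.IsFibGrpd 𝒱.p) (Q : 𝒳.obj → Prop)
    (hfib : FibCat.IsFibGrpd (AlgSt.fullSub 𝒳 Q).p) (f : 𝒳 ⥤ᵇ 𝒴) (y : 𝒱 ⥤ᵇ 𝒴)
    (d : 𝒵 ⥤ᵇ FibCat.fp f y) (hQ : ∀ z, Q ((BasedFunctor.comp d (FibCat.fpFst f y)).obj z))
    (hd : AlgSt.RepByAlgSpWith P d) : AlgSt.RepByAlgSpWith P (fpLiftSub Q f y d hQ) := by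
  have hfp' := X6401 (BasedFunctor.comp (AlgSt.subIncl 𝒳 Q) f) y hfib h𝒱 h𝒴
  have hfp := X6401 f y h𝒳 h𝒱 h𝒴
  exact rep_of_triangle hP h𝒵 hfp' hfp _ d (subFp Q f y) (fpLiftSubIso Q f y d hQ) hd
    (repByAlgSpWith_of_isEquivOver P hPid _
      ((X6399 (subFp Q f y) hfp' hfp).1 ⟨subFp_full Q f y, subFp_faithful Q f y⟩))

end Groth.Agent.H3.OpenSub
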