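import Mathlib
import Groth.Agent.Lib.Helper3.AlgSt.OpenSub4
import Groth.Agent.Lib.Helper3.AlgSt.Points.Homeo
import Groth.Agent.Lib.Helper3.AlgSt.LocQ10

set_option autoImplicit false
universe w u
open CategoryTheory CategoryTheory.Functor CategoryTheory.Limits Opposite AlgebraicGeometry

noncomputable section

namespace Groth.Agent.H3.OpenSub

open Groth.Agent.H3.FibCatAux Groth.Agent.H3.GerbAux Groth.Agent.H3.FpCalc Groth.Agent.H3.TwoCart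
  Groth.Agent.H3.StackPsh Groth.Agent.H3.PshBridge Groth.Agent.H3.AlgStAux Groth.Agent.H3.RepBridge
  Groth.Agent.H3.SetoidPsh Groth.Agent.H3.BaseChangeSp Groth.Agent.H3.AlgStComp
  Groth.Agent.H3.AlgStProps Groth.Agent.H3.AlgStBridge2 Groth.Agent.H3.AlgStCharts
  Groth.Agent.H3.AlgStDescent Groth.Agent.H3.Whisker Groth.Agent.H3.AlgStLES
  Groth.Agent.H3.FPtRel Groth.Agent.H3.AlgStStackRep Groth.Agent.H3.TwoYoneda
  Groth.Agent.H3.AlgStPoints Groth.Agent.H3.AlgStAlgebraic Groth.Agent.H3.AlgStQCMor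
  Groth.Agent.H3.AlgStSmoothLoc Groth.Agent.H3.SmSrc Groth.Agent.H3.AlgStLocQ
  Groth.Agent.H3.AlgStAffine

variable {S : Scheme.{u}} {𝒳 𝒴 𝒵 : AlgSt.Cat S}

/-- the values of a 1-morphism lie in the substack of its image on points -/
theorem subOf_range_obj (h𝒵 : FibCat.IsFibGrpd 𝒵.p) (h𝒳 : FibCat.IsFibGrpd 𝒳.p) (G : 𝒵 ⥤ᵇ 𝒳)
    (z : 𝒵.obj) : subOf (Set.range (AlgSt.Points.map G)) (G.obj z) := by
  rintro p ⟨m⟩
  obtain ⟨f, hf⟩ : ∃ f : 𝒳.p.obj p.obj ⟶ 𝒵.p.obj z, f = 𝒳.p.map m ≫ eqToHom (G.w_obj z) :=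
    ⟨_, rfl⟩
  obtain ⟨z', φ, hφ⟩ := h𝒵.exists_lift (x := z) f
  have hGφ : 𝒳.p.IsHomLift f (G.map φ) := BasedFunctor.preserves_isHomLift G f φ
  have hcart : 𝒳.p.IsStronglyCartesian f (G.map φ) :=
    isStronglyCartesian_of_isHomLift 𝒳.p h𝒳 _ _
  have hm : 𝒳.p.IsHomLift (𝟙 (𝒳.p.obj p.obj) ≫ f) m := by
    rw [Category.id_comp, hf]
    have : 𝒳.p.IsHomLift (𝒳.p.map m) m := IsHomLift.map 𝒳.p m
    infer_instance
  let χ : p.obj ⟶ G.obj z' := IsStronglyCartesian.map 𝒳.p f (G.map φ) (f' := 𝟙 _ ≫ f) rfl m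
  have hz' : 𝒵.p.obj z' = Over.mk p.str := (IsHomLift.domain_eq 𝒵.p f φ).trans p.lies
  refine ⟨AlgSt.Points.mk ⟨p.K, p.str, z', hz'⟩, ?_⟩
  rw [AlgSt.Points.map_mk]
  apply AlgSt.Points.sound
  exact ⟨p, χ, 𝟙 _, trivial⟩


/-- the image of a smooth 1-morphism of algebraic stacks is an open substack, onto which the
1-morphism is smooth and surjective -/
theorem exists_image_openSubstack (h𝒵 : AlgSt.IsAlgStack Scheme.fppfPrecoverage 𝒵)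
    (h𝒳 : AlgSt.IsAlgStack Scheme.fppfPrecoverage 𝒳) (a : 𝒵 ⥤ᵇ 𝒳)
    (ha : AlgSt.RepByAlgSpWith (AlgSp.LocP @Smooth) a) :
    ∃ (Q : 𝒳.obj → Prop) (hval : ∀ z, Q (a.obj z)),
      AlgSt.IsOpenSubstack 𝒳 Q Scheme.fppfPrecoverage ∧
      AlgSt.RepByAlgSpWith (AlgSp.LocP @Smooth) (liftSub Q a hval) ∧
      AlgSt.RepByAlgSpWith AlgSp.IsSurjectiveMor (liftSub Q a hval) := by
  have h𝒵g := h𝒵.isStack.1
  have h𝒳g := h𝒳.isStack.1
  have hfl : AlgSt.RepByAlgSpWith (AlgSp.LocP @Flat) a :=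
    AlgStDiagLft.repByAlgSpWith_mono (AlgStDiagLft.locP_mono AlgStDiagLft.smooth_le_flat) ha
  have hfp : AlgSt.RepByAlgSpWith (AlgSp.LocP @LocallyOfFinitePresentation) a :=
    AlgStDiagLft.repByAlgSpWith_mono (AlgStDiagLft.locP_mono AlgStDiagLft.smooth_le_lfp) ha
  have hopen : AlgSt.IsOpenMor a := isOpenMor_of_locQ h𝒵 h𝒳 a
    (locQ_of_rep isSmoothLocalST_flat h𝒳 a hfl) (locQ_of_rep isSmoothLocalST_lfp h𝒳 a hfp)
  have hT : IsOpen (Set.range (AlgSt.Points.map a)) := by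
    rw [← Set.image_univ]
    exact hopen _ isOpen_univ
  have hQ := isOpenSubstack_subOf h𝒳 _ hT
  have hQhom : ∀ ⦃x y : 𝒳.obj⦄ (_ : x ⟶ y), subOf (Set.range (AlgSt.Points.map a)) y →
      subOf (Set.range (AlgSt.Points.map a)) x := fun _ _ m hb => subOf_of_hom m hb
  have hsm := rep_liftSub good_smooth.toC (fun X => Groth.Agent.H3.AlgSpCov.locP_smooth_id X) h𝒵g
    h𝒳g _ hQ.2.1.isStack.1 a (subOf_range_obj h𝒵g h𝒳g a) ha
  refine ⟨subOf (Set.range (AlgSt.Points.map a)), subOf_range_obj h𝒵g h𝒳g a, hQ, hsm, ?_⟩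
  apply rep_of_isSurjective h𝒵g hQ.2.1.isStack.1 _ (repByAlgSp1_of_repByAlgSpWith hsm)
  apply isSurjective_liftSub h𝒳g _ hQhom
  rw [range_subIncl_subOf]

/-- **S12860** -/
theorem exists_openSubstack_of_open_chart (h𝒳 : AlgSt.IsAlgStack Scheme.fppfPrecoverage 𝒳)
    (U : AlgSp.Space S) (u : AlgSt.ofSp U.obj ⥤ᵇ 𝒳)
    (hu₁ : AlgSt.RepByAlgSpWith (AlgSp.LocP @Smooth) u)
    (V : AlgSp.Space S) (j : V ⟶ U) (hj : AlgSp.RepWith @IsOpenImmersion j.hom) :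
    ∃ (𝒴 : AlgSt.Cat S) (i : 𝒴 ⥤ᵇ 𝒳) (g : AlgSt.ofSp V.obj ⥤ᵇ 𝒴),
      AlgSt.IsAlgStack Scheme.fppfPrecoverage 𝒴 ∧ AlgSt.IsOpenImm i ∧
        AlgSt.RepByAlgSpWith (AlgSp.LocP @Smooth) g ∧
        AlgSt.RepByAlgSpWith AlgSp.IsSurjectiveMor g ∧
          Nonempty (BasedFunctor.comp g i ≅ BasedFunctor.comp (AlgSt.ofSpMap j.hom) u) := by
  have hVs := isAlgStack_ofSp V
  have hUs := isAlgStack_ofSp U
  have hj1 : AlgSp.LocP @Smooth j.hom :=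
    Groth.Agent.H5.AlgSp.locP_of_repWith Groth.Agent.H3.AlgSpCov.etale_le_smooth
      (Groth.Agent.H5.AlgSp.repWith_mono (Groth.Agent.H5.AlgSp.isOpenImmersion_le_etale.trans
        Groth.Agent.H3.AlgSpCov.etale_le_smooth) hj)
  have hj2 : AlgSt.RepByAlgSpWith (AlgSp.LocP @Smooth) (AlgSt.ofSpMap j.hom) :=
    (repByAlgSpWith_ofPshMap_iff _ good_smooth.bc good_smooth.toC.charts V.property U.property
      j.hom).2 hj1
  have ha : AlgSt.RepByAlgSpWith (AlgSp.LocP @Smooth)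
      (BasedFunctor.comp (AlgSt.ofSpMap j.hom) u) :=
    good_smooth.toC.repComp hVs.isStack.1 hUs.isStack.1 _ _ hj2 hu₁
  obtain ⟨Q, hval, hQ, hg₁, hg₂⟩ := exists_image_openSubstack hVs h𝒳 _ ha
  exact ⟨AlgSt.fullSub 𝒳 Q, AlgSt.subIncl 𝒳 Q, liftSub Q _ hval, hQ.2.1, hQ.2.2, hg₁, hg₂,
    ⟨eqToIso (liftSub_comp Q _ hval)⟩⟩

end Groth.Agent.H3.OpenSub
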