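import Mathlib
import Groth.Agent.Lib.Helper3.AlgSt.OpenSub4
import Groth.Agent.Lib.Helper3.AlgSt.OpenSub3
import Groth.Agent.Lib.Helper3.SmSrc.Smooth

set_option autoImplicit false
universe w u
open CategoryTheory CategoryTheory.Functor CategoryTheory.Limits Opposite AlgebraicGeometry

noncomputable section

namespace Groth.Agent.H3.OpenSub

open Groth.Agent.H3.FibCatAux Groth.Agent.H3.GerbAux Groth.Agent.H3.FpCalc Groth.Agent.H3.TwoCart
  Groth.Agent.H3.StackPsh Groth.Agent.H3.PshBridge Groth.Agent.H3.AlgStAux Groth.Agent.H3.RepBridge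
  Groth.Agent.H3.SetoidPsh Groth.Agent.H3.BaseChangeSp Groth.Agent.H3.AlgStComp
  Groth.Agent.H3.AlgStProps Groth.Agent.H3.AlgStBridge2 Groth.Agent.H3.AlgStCharts
  Groth.Agent.H3.AlgStDescent Groth.Agent.H3.Whisker Groth.Agent.H3.AlgStLES
  Groth.Agent.H3.FPtRel Groth.Agent.H3.AlgStStackRep Groth.Agent.H3.TwoYoneda
  Groth.Agent.H3.AlgStPoints Groth.Agent.H3.AlgStAlgebraic Groth.Agent.H3.AlgStQCMor
  Groth.Agent.H3.AlgStSmoothLoc Groth.Agent.H3.SmSrc Groth.Agent.H3.AlgStLocQ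
  Groth.Agent.H3.AlgStAffine

variable {S : Scheme.{u}} {𝒳 𝒴 𝒵 𝒱 : AlgSt.Cat S}

/-- the open subscheme of a chart as a scheme over the base -/
abbrev opensOver (U : Over S) (W : U.left.Opens) : Over S := Over.mk (W.ι ≫ U.hom)

/-- its inclusion -/
abbrev opensOverι (U : Over S) (W : U.left.Opens) : opensOver U W ⟶ U := Over.homMk W.ι rfl

/-- restricting a smooth chart to an open subscheme -/
theorem rep_smooth_overMap_opens {U : Over S} (W : U.left.Opens)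
    (c : FibCat.overCat U ⥤ᵇ 𝒵) (hc : AlgSt.RepByAlgSpWith (AlgSp.LocP @Smooth) c) :
    AlgSt.RepByAlgSpWith (AlgSp.LocP @Smooth)
      (BasedFunctor.comp (AlgSt.overMap (opensOverι U W)) c) :=
  good_smooth.toC.repComp (isFibGrpd_overCat _) (isFibGrpd_overCat U) _ _
    (rep_overMap Groth.Agent.H3.AlgSpCov.etale_le_smooth good_smooth (opensOverι U W)
      (inferInstanceAs (Smooth W.ι))) hc

/-- values of the restriction of a chart to the preimage of `T` lie in `subOf T` -/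
theorem subOf_restrict (h𝒳 : FibCat.IsFibGrpd 𝒳.p) (T : Set (AlgSt.Points 𝒳)) {U : Over S}
    (x : FibCat.overCat U ⥤ᵇ 𝒳) (W : U.left.Opens)
    (hW : ∀ u ∈ W, AlgSt.Points.ofChart x u ∈ T) (z : (FibCat.overCat (opensOver U W)).obj) :
    subOf T (x.obj ((AlgSt.overMap (opensOverι U W)).obj z)) := by
  rw [subOf_chart_iff h𝒳]
  intro v
  exact hW _ (z.hom.left v).2


/-- the restricted chart of the substack `subOf T`, over the preimage `W` of `T` -/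
theorem chart_fp_sub (h𝒳 : AlgSt.IsAlgStack Scheme.fppfPrecoverage 𝒳)
    (h𝒴 : AlgSt.IsAlgStack Scheme.fppfPrecoverage 𝒴) (f : 𝒳 ⥤ᵇ 𝒴) {U V : Over S}
    (y : FibCat.overCat V ⥤ᵇ 𝒴) (c : FibCat.overCat U ⥤ᵇ FibCat.fp f y)
    (hc : AlgSt.RepByAlgSpWith (AlgSp.LocP @Smooth) c) (h : U ⟶ V)
    (ιh : BasedFunctor.comp c (FibCat.fpSnd f y) ≅ AlgSt.overMap h)
    (Q : 𝒳.obj → Prop) (hQ : AlgSt.IsOpenSubstack 𝒳 Q Scheme.fppfPrecoverage)
    (W : U.left.Opens)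
    (hW : ∀ z, Q ((BasedFunctor.comp (BasedFunctor.comp (AlgSt.overMap (opensOverι U W)) c)
      (FibCat.fpFst f y)).obj z)) :
    ∃ (c' : FibCat.overCat (opensOver U W) ⥤ᵇ
        FibCat.fp (BasedFunctor.comp (AlgSt.subIncl 𝒳 Q) f) y),
      AlgSt.RepByAlgSpWith (AlgSp.LocP @Smooth) c' ∧
      Nonempty (BasedFunctor.comp c' (FibCat.fpSnd _ y) ≅ AlgSt.overMap (opensOverι U W ≫ h)) ∧
      BasedFunctor.comp c' (FibCat.fpFst _ y) =
        liftSub Q (BasedFunctor.comp (BasedFunctor.comp (AlgSt.overMap (opensOverι U W)) c)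
          (FibCat.fpFst f y)) hW := by
  have hUW := isFibGrpd_overCat (opensOver U W)
  have hVg := isFibGrpd_overCat V
  have hd := rep_smooth_overMap_opens W c hc
  refine ⟨fpLiftSub Q f y _ hW,
    rep_fpLiftSub good_smooth.toC (fun X => Groth.Agent.H3.AlgSpCov.locP_smooth_id X) hUW
      h𝒳.isStack.1 h𝒴.isStack.1 hVg Q hQ.2.1.isStack.1 f y _ hW hd, ?_,
    fpLiftSub_comp_fpFst Q f y _ hW⟩
  obtain ⟨κ⟩ := overMapComp (opensOverι U W) h
  rw [fpLiftSub_comp_fpSnd]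
  exact ⟨whiskerL (AlgSt.overMap (opensOverι U W)) ιh ≪≫ κ⟩

/-- **S13037** -/
theorem exists_largest_locQ_smooth (h𝒳 : AlgSt.IsAlgStack Scheme.fppfPrecoverage 𝒳)
    (h𝒴 : AlgSt.IsAlgStack Scheme.fppfPrecoverage 𝒴) (f : 𝒳 ⥤ᵇ 𝒴) :
    ∃ Q : 𝒳.obj → Prop, AlgSt.IsOpenSubstack 𝒳 Q Scheme.fppfPrecoverage ∧
      AlgSt.LocQ (AlgSp.LocP @Smooth) (BasedFunctor.comp (AlgSt.subIncl 𝒳 Q) f) ∧
      ∀ Q' : 𝒳.obj → Prop, AlgSt.IsOpenSubstack 𝒳 Q' Scheme.fppfPrecoverage →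
        AlgSt.LocQ (AlgSp.LocP @Smooth) (BasedFunctor.comp (AlgSt.subIncl 𝒳 Q') f) →
        ∀ a, Q' a → Q a := by
  have h𝒳g := h𝒳.isStack.1
  obtain ⟨V, y, hy₁, hy₂⟩ := h𝒴.atlas
  obtain ⟨U, c, h, hc₁, hc₂, ⟨ιh⟩⟩ := exists_chart_fp h𝒳 h𝒴 f y
  have hUg := isFibGrpd_overCat U
  have hfp : AlgSt.IsAlgStack Scheme.fppfPrecoverage (FibCat.fp f y) :=
    isAlgStack_fp h𝒴.isStack h𝒴.diag h𝒳 (isAlgStack_overCat V) f y
  obtain ⟨x, hx⟩ : ∃ x : FibCat.overCat U ⥤ᵇ 𝒳, x = BasedFunctor.comp c (FibCat.fpFst f y) :=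
    ⟨_, rfl⟩
  have hx₁ : AlgSt.RepByAlgSpWith (AlgSp.LocP @Smooth) x := by
    rw [hx]
    exact good_smooth.toC.repComp hUg hfp.isStack.1 _ _ hc₁ (repByAlgSpWith_fpFst _ y f hy₁)
  have hx₂ : AlgSt.RepByAlgSpWith AlgSp.IsSurjectiveMor x := by
    rw [hx]
    exact good_isSurjectiveMor.toC.repComp hUg hfp.isStack.1 _ _ hc₂
      (repByAlgSpWith_fpFst _ y f hy₂)
  have hxfl : AlgSt.RepByAlgSpWith (AlgSp.LocP @Flat) x :=
    AlgStDiagLft.repByAlgSpWith_mono (AlgStDiagLft.locP_mono AlgStDiagLft.smooth_le_flat) hx₁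
  have hxfp : AlgSt.RepByAlgSpWith (AlgSp.LocP @LocallyOfFinitePresentation) x :=
    AlgStDiagLft.repByAlgSpWith_mono (AlgStDiagLft.locP_mono AlgStDiagLft.smooth_le_lfp) hx₁
  obtain ⟨W, hW, hWmax⟩ := exists_largest_open_source @Smooth h.left
  obtain ⟨T, hT⟩ : ∃ T : Set (AlgSt.Points 𝒳), T = AlgSt.Points.ofChart x '' (W : Set U.left) :=
    ⟨_, rfl⟩
  have hTopen : IsOpen T := by
    rw [hT]
    exact isOpenMap_ofChart h𝒳g U x hxfl hxfp _ W.2
  have hQ := isOpenSubstack_subOf h𝒳 T hTopen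
  have hQhom : ∀ ⦃a b : 𝒳.obj⦄ (_ : a ⟶ b), subOf T b → subOf T a :=
    fun _ _ m hb => subOf_of_hom m hb
  have α : BasedFunctor.comp x f ≅ BasedFunctor.comp (AlgSt.overMap h) y := by
    rw [hx]
    exact whiskerL c (FibCat.fpIso f y) ≪≫ whiskerR ιh y
  refine ⟨subOf T, hQ, ?_, ?_⟩
  · have hUWg := isFibGrpd_overCat (opensOver U W)
    have hval : ∀ z, subOf T ((BasedFunctor.comp (AlgSt.overMap (opensOverι U W)) x).obj z) :=
      fun z => subOf_restrict h𝒳g T x W (fun u hu => hT ▸ ⟨u, hu, rfl⟩) z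
    obtain ⟨κ⟩ := overMapComp (opensOverι U W) h
    refine ⟨opensOver U W, V, liftSub (subOf T) _ hval, y, opensOverι U W ≫ h,
      whiskerL (AlgSt.overMap (opensOverι U W)) α ≪≫ whiskerR κ y, ?_, ?_, hy₁, ?_⟩
    · exact rep_liftSub good_smooth.toC (fun X => Groth.Agent.H3.AlgSpCov.locP_smooth_id X) hUWg
        h𝒳g _ hQ.2.1.isStack.1 _ hval (rep_smooth_overMap_opens W x hx₁)
    · apply rep_of_isSurjective hUWg hQ.2.1.isStack.1
      · exact repByAlgSp1_of_repByAlgSpWith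
          (rep_liftSub good_smooth.toC (fun X => Groth.Agent.H3.AlgSpCov.locP_smooth_id X) hUWg
            h𝒳g _ hQ.2.1.isStack.1 _ hval (rep_smooth_overMap_opens W x hx₁))
      · apply isSurjective_liftSub h𝒳g _ hQhom
        rw [range_subIncl_subOf, hT]
        rintro _ ⟨u, hu, rfl⟩
        refine ⟨chartPt (opensOver U W) ⟨u, hu⟩, ?_⟩
        rw [← ofChart_eq_map, ofChart_overMap]
        rfl
    · exact (Groth.Agent.H5.AlgSp.locP_yon_map_iff Groth.Agent.H3.AlgSpCov.etale_le_smooth _).2 hW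
  · intro Q' hQ' hL
    obtain ⟨T', hT'⟩ : ∃ T' : Set (AlgSt.Points 𝒳),
      T' = Set.range (AlgSt.Points.map (AlgSt.subIncl 𝒳 Q')) := ⟨_, rfl⟩
    have hT'open : IsOpen T' := hT' ▸ isOpen_range_subIncl h𝒳 Q' hQ'
    have hQ'eq : Q' = subOf T' := hT' ▸ eq_subOf_range h𝒳 Q' hQ'
    subst hQ'eq
    let W' : U.left.Opens :=
      ⟨AlgSt.Points.ofChart x ⁻¹' T', (continuous_ofChart h𝒳 U x).isOpen_preimage T' hT'open⟩
    have hval : ∀ z, subOf T' ((BasedFunctor.comp (BasedFunctor.comp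
        (AlgSt.overMap (opensOverι U W')) c) (FibCat.fpFst f y)).obj z) := by
      intro z
      have := subOf_restrict h𝒳g T' x W' (fun u hu => hu) z
      rw [hx] at this
      exact this
    obtain ⟨c'', hc'', ⟨ι''⟩, -⟩ := chart_fp_sub h𝒳 h𝒴 f y c hc₁ h ιh (subOf T') hQ' W' hval
    have hsm := prop_of_locQ isSmoothLocalST_smooth hQ'.2.1 h𝒴 _ hL y hy₁ c'' hc''
      (opensOverι U W' ≫ h) ι''
    have hsm' : Smooth (W'.ι ≫ h.left) :=
      (Groth.Agent.H5.AlgSp.locP_yon_map_iff Groth.Agent.H3.AlgSpCov.etale_le_smooth _).1 hsm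
    have hle : W' ≤ W := hWmax W' hsm'
    have hTT : T' ⊆ T := by
      intro t ht
      obtain ⟨u, rfl⟩ := ofChart_surjective h𝒳g x hx₂ t
      rw [hT]
      exact ⟨u, hle (show u ∈ W' from ht), rfl⟩
    intro a ha
    exact subOf_mono hTT a ha

end Groth.Agent.H3.OpenSub
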