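import Mathlib
import Groth.Agent.Lib.Helper3.AlgSt.DiagCancel
import Groth.Agent.Lib.Helper3.AlgSt.Algebraic

/-!
# Diagonals of 1-morphisms of algebraic stacks: base change, composition, charts; étale versions
(helper3)
-/

set_option autoImplicit false
universe u
open CategoryTheory CategoryTheory.Functor CategoryTheory.Limits Opposite AlgebraicGeometry

namespace Groth.Agent.H3.AlgStDiagEt

open Groth.Agent.H3.FibCatAux Groth.Agent.H3.GerbAux Groth.Agent.H3.FpCalc Groth.Agent.H3.TwoCart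
  Groth.Agent.H3.AlgStAux Groth.Agent.H3.BaseChangeSp Groth.Agent.H3.AlgStComp
  Groth.Agent.H3.AlgStProps Groth.Agent.H3.AlgStBridge2 Groth.Agent.H3.AlgStDiagProp
  Groth.Agent.H3.AlgSpCov Groth.Agent.H3.AlgStCharts Groth.Agent.H3.AlgStProd
  Groth.Agent.H3.AlgStDiag Groth.Agent.H3.AlgStProdMap Groth.Agent.H3.AlgStLES
  Groth.Agent.H3.AlgStDescent Groth.Agent.H3.AlgStCancel Groth.Agent.H3.AlgStDiagFacts
  Groth.Agent.H3.RepBridge Groth.Agent.H3.AlgStDiagLft Groth.Agent.H3.AlgStDiagRep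
  Groth.Agent.H3.AlgStDiagCancel Groth.Agent.H3.AlgStAlgebraic Groth.Agent.H3.StackMore
open AlgSp

variable {S : Scheme.{u}}

section Covers

open Groth.Agent.H5.AlgSp

lemma isEtCover_atlas {Y : Sp S} {V : Over S} (a : (yon S).obj V ⟶ Y) (hae : RepWith @Etale a)
    (has : RepWith @Surjective a) :
    IsEtCover (fun _ : PUnit.{u + 1} => (yon S).obj V) (fun _ => a) :=
  ⟨fun _ => fun _ _ hφ => (RepWith (S := S) @Etale).comp_mem _ _ hφ hae,
    fun x => ⟨PUnit.unit, points_map_surjective_of_repWith has x⟩⟩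

/-- a morphism of algebraic spaces all of whose base changes to schemes have `P` has `P`, for `P`
étale local on the base -/
theorem of_repBySpWith_et (P : MorphismProperty (Sp S)) (hP : IsLocalOnBase IsEtCover P)
    {X Y : Sp S} (hX : IsAlgSpace X) (hY : IsAlgSpace Y) (b : X ⟶ Y) (h : RepBySpWith P b.hom) :
    P b := by
  obtain ⟨V, a, hae, has⟩ := hY.atlas
  have sq := IsPullback.of_hasPullback b a
  obtain ⟨hF', hPs⟩ := (repBySpWith_hom_iff P b).1 h a _ _ sq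
  exact (hP (fun _ : PUnit.{u + 1} => (yon S).obj V) (fun _ => a) hY
    (fun _ => IsAlgSpace.yon_obj V) (isEtCover_atlas a hae has) b hX
    (fun _ => pullback b a) (fun _ => pullback.snd b a) (fun _ => pullback.fst b a)
    (fun _ => hF') (fun _ => sq)).2 (fun _ => hPs)

theorem ofCharts_of_isLocalOnBase_et (P : MorphismProperty (Sp S))
    (hP : IsLocalOnBase IsEtCover P) : OfCharts P :=
  fun _ _ hX hY b h => of_repBySpWith_et P hP hX hY b h

theorem goodC_of_et (P : MorphismProperty (Sp S)) (hPb : BaseChangeSp P) (hPc : CompSp P)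
    (hP : IsLocalOnBase IsEtCover P) : GoodC P :=
  ⟨hPb, hPc, ofCharts_of_isLocalOnBase_et P hP⟩

end Covers

section Diag

variable {𝒳 𝒴 𝒵 𝒴' : AlgSt.Cat S}

/-- **S17269**: the diagonal of a base change is a base change of the diagonal -/
theorem repByAlgSpWith_diag_fpFst (P : MorphismProperty (Sp S)) (f : 𝒳 ⥤ᵇ 𝒴) (g : 𝒴' ⥤ᵇ 𝒴)
    (h : AlgSt.RepByAlgSpWith P (FibCat.diag f)) :
    AlgSt.RepByAlgSpWith P (FibCat.diag (FibCat.fpFst g f)) :=
  repByAlgSpWith_of_isTwoCartOver P (dbcM f g) (FibCat.diag f) _ (FibCat.fpSnd g f) (dbcE f g)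
    (dbc_isTwoCartOver f g) h

/-- the diagonal of a composite, for `GoodC` properties (**S17270**) -/
theorem repByAlgSpWith_diag_comp_C (P : MorphismProperty (Sp S)) (hP : GoodC P)
    (h𝒳 : FibCat.IsFibGrpd 𝒳.p) (h𝒴 : FibCat.IsFibGrpd 𝒴.p) (j : 𝒳 ⥤ᵇ 𝒴) (t : 𝒴 ⥤ᵇ 𝒵)
    (hj : AlgSt.RepByAlgSpWith P (FibCat.diag j)) (ht : AlgSt.RepByAlgSpWith P (FibCat.diag t)) :
    AlgSt.RepByAlgSpWith P (FibCat.diag (BasedFunctor.comp j t)) := by
  have h1 := repByAlgSpWith_magicI j t P ht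
  have h2 := hP.repComp h𝒳 (X6401 j j h𝒳 h𝒳 h𝒴) _ _ hj h1
  let e : BasedFunctor.comp (FibCat.diag (BasedFunctor.comp j t)) (BasedFunctor.id _) ≅
      BasedFunctor.comp (BasedFunctor.id 𝒳)
        (BasedFunctor.comp (FibCat.diag j) (magicI j j t (magicIso j j t))) := diagCompIso j t
  exact repByAlgSpWith_of_square P
    (BasedFunctor.comp (FibCat.diag j) (magicI j j t (magicIso j j t)))
    (FibCat.diag (BasedFunctor.comp j t)) (BasedFunctor.id _)
    (BasedFunctor.id _) isEquivOver_id isEquivOver_id e h2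

/-- **S17271**, the converse direction: the diagonal has `P` if the diagonals of all base changes
to schemes do -/
theorem repByAlgSpWith_diag_of_forall_chart (P : MorphismProperty (Sp S)) (f : 𝒳 ⥤ᵇ 𝒴)
    (H : ∀ (T : Over S) (y : FibCat.overCat T ⥤ᵇ 𝒴),
      AlgSt.RepByAlgSpWith P (FibCat.diag (FibCat.fpFst y f))) :
    AlgSt.RepByAlgSpWith P (FibCat.diag f) := by
  intro U T
  have hπ := H U (cg f T)
  have h1 : AlgSt.RepByAlgSpWith P (FibCat.fpFst (dbcM f (cg f T)) (FibCat.diag f)) := by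
    let ε : BasedFunctor.comp (FibCat.diag (FibCat.fpFst (cg f T) f)) (BasedFunctor.id _) ≅
        BasedFunctor.comp
          (FibCat.fpLift (FibCat.diag (FibCat.fpFst (cg f T) f)) (FibCat.fpSnd (cg f T) f)
            (dbcE f (cg f T)))
          (FibCat.fpFst (dbcM f (cg f T)) (FibCat.diag f)) := Iso.refl _
    exact repByAlgSpWith_of_square' P _ _ _ (BasedFunctor.id _) (dbc_isTwoCartOver f (cg f T))
      isEquivOver_id ε hπ
  have h2 := h1 U (secPair f T)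
  -- transfer along `pasteL`
  have h3 := repWith_transfer' P
    (FibCat.fpFst (secPair f T) (FibCat.fpFst (dbcM f (cg f T)) (FibCat.diag f)))
    (FibCat.fpFst (BasedFunctor.comp (secPair f T) (dbcM f (cg f T))) (FibCat.diag f))
    (pasteL (secPair f T) (dbcM f (cg f T)) (FibCat.diag f))
    (isEquivOver_pasteL _ _ _) (fun x => ⟨𝟙 _, IsHomLift.id rfl⟩) h2
  -- transfer along the isomorphism of charts
  let α : BasedFunctor.comp (BasedFunctor.comp (secPair f T) (dbcM f (cg f T)))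
        (BasedFunctor.id (FibCat.fp f f)) ≅
      BasedFunctor.comp (BasedFunctor.id (FibCat.overCat U)) T := (chartIso f T).symm
  let N := fpMap (F' := BasedFunctor.comp (secPair f T) (dbcM f (cg f T))) (G' := FibCat.diag f)
    (F := T) (G := FibCat.diag f) (BasedFunctor.id (FibCat.overCat U)) (BasedFunctor.id 𝒳)
    (BasedFunctor.id (FibCat.fp f f)) α (idSq (FibCat.diag f))
  have hN : FibCat.IsEquivOver N := by
    have : (BasedFunctor.id (FibCat.fp f f)).toFunctor.Full := Functor.Full.id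
    have : (BasedFunctor.id (FibCat.fp f f)).toFunctor.Faithful := Functor.Faithful.id
    exact isEquivOver_fpMap _ _ _ _ _ isEquivOver_id isEquivOver_id
  exact repWith_transfer' P
    (FibCat.fpFst (BasedFunctor.comp (secPair f T) (dbcM f (cg f T))) (FibCat.diag f))
    (FibCat.fpFst T (FibCat.diag f)) N hN (fun x => ⟨𝟙 _, IsHomLift.id rfl⟩) h3

end Diag

section Etale

variable {𝒳 𝒴 𝒵 : AlgSt.Cat S}

/-- **S19914**: 2-fibre products of algebraic stacks for the étale topology -/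
theorem isAlgStack_fp_et (h𝒵 : Stk.IsStack (QuotSh.J Scheme.etalePrecoverage S) 𝒵)
    (hΔ : AlgSt.RepByAlgSp1 (FibCat.diag (FibCat.toSelf 𝒵)))
    (h𝒳 : AlgSt.IsAlgStack Scheme.etalePrecoverage 𝒳) (h𝒴 : AlgSt.IsAlgStack Scheme.etalePrecoverage 𝒴)
    (f : 𝒳 ⥤ᵇ 𝒵) (g : 𝒴 ⥤ᵇ 𝒵) :
    AlgSt.IsAlgStack Scheme.etalePrecoverage (FibCat.fp f g) where
  isStack := isStack_fp f g _ h𝒳.isStack h𝒴.isStack (isPrestack_of_isStack _ h𝒵)
  diag := by
    have hfp : FibCat.IsFibGrpd (FibCat.fp f g).p := X6401 f g h𝒳.isStack.1 h𝒴.isStack.1 h𝒵.1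
    have hpr : FibCat.IsFibGrpd (FibCat.fp (BasedFunctor.comp f (FibCat.toSelf 𝒵))
        (BasedFunctor.comp g (FibCat.toSelf 𝒵))).p :=
      X6401 _ _ h𝒳.isStack.1 h𝒴.isStack.1 isFibGrpd_id
    have hI : AlgSt.RepByAlgSp1 (magicI f g (FibCat.toSelf 𝒵) (magicIso f g _)) := by
      rw [← repByAlgSpWith_top_iff] at hΔ ⊢
      exact repByAlgSpWith_magicI' ⊤ f g (FibCat.toSelf 𝒵) hΔ
    exact repByAlgSp1_diag_toSelf_of_repByAlgSp1 hfp hpr _ hI
      (repByAlgSp1_diag_prod h𝒳.isStack.1 h𝒴.isStack.1 h𝒳.diag h𝒴.diag _ _)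
  atlas := hasAtlas_fp _ good_smooth etaleImplies_smooth h𝒴.isStack.1 h𝒵.1 f g h𝒳.atlas
    h𝒴.atlas (fun U V u v => repByAlgSp_fp_of_diag h𝒵.1 hΔ _ _
      ⟨⟨(yon S).obj U, IsAlgSpace.yon_obj U⟩, toOver U, isEquivOver_toOver U⟩
      ⟨⟨(yon S).obj V, IsAlgSpace.yon_obj V⟩, toOver V, isEquivOver_toOver V⟩)

/-- **S17273**: 2-fibre products of Deligne–Mumford stacks for the étale topology -/
theorem isDM_fp_et (h𝒳 : AlgSt.IsDM Scheme.etalePrecoverage 𝒳)
    (h𝒴 : AlgSt.IsDM Scheme.etalePrecoverage 𝒴) (h𝒵 : AlgSt.IsDM Scheme.etalePrecoverage 𝒵)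
    (f : 𝒳 ⥤ᵇ 𝒵) (g : 𝒴 ⥤ᵇ 𝒵) : AlgSt.IsDM Scheme.etalePrecoverage (FibCat.fp f g) :=
  ⟨isAlgStack_fp_et h𝒵.1.isStack h𝒵.1.diag h𝒳.1 h𝒴.1 f g,
    hasAtlas_fp _ good_isEtaleMor etaleImplies_isEtaleMor h𝒴.1.isStack.1 h𝒵.1.isStack.1 f g h𝒳.2
      h𝒴.2 (fun U V u v => repByAlgSp_fp_of_diag h𝒵.1.isStack.1 h𝒵.1.diag _ _
        ⟨⟨(yon S).obj U, IsAlgSpace.yon_obj U⟩, toOver U, isEquivOver_toOver U⟩
        ⟨⟨(yon S).obj V, IsAlgSpace.yon_obj V⟩, toOver V, isEquivOver_toOver V⟩)⟩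

end Etale

end Groth.Agent.H3.AlgStDiagEt
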