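import Mathlib
import Groth.Agent.Lib.Helper3.AlgSt.DiagEt

/-!
# Cancellation for functors representable by algebraic spaces, from cancellation on spaces
(helper3)
-/

set_option autoImplicit false
universe u
open CategoryTheory CategoryTheory.Functor CategoryTheory.Limits Opposite AlgebraicGeometry

namespace Groth.Agent.H3.AlgStCancelSp

open Groth.Agent.H3.FibCatAux Groth.Agent.H3.GerbAux Groth.Agent.H3.FpCalc Groth.Agent.H3.TwoCart
  Groth.Agent.H3.AlgStAux Groth.Agent.H3.BaseChangeSp Groth.Agent.H3.AlgStComp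
  Groth.Agent.H3.AlgStProps Groth.Agent.H3.AlgStBridge2 Groth.Agent.H3.AlgStDiagProp
  Groth.Agent.H3.AlgSpCov Groth.Agent.H3.AlgStCharts Groth.Agent.H3.AlgStProd
  Groth.Agent.H3.AlgStDiag Groth.Agent.H3.AlgStProdMap Groth.Agent.H3.AlgStLES
  Groth.Agent.H3.AlgStDescent Groth.Agent.H3.AlgStCancel Groth.Agent.H3.AlgStDiagFacts
  Groth.Agent.H3.RepBridge Groth.Agent.H3.AlgStDiagLft Groth.Agent.H3.AlgStDiagRep
  Groth.Agent.H3.AlgStDiagCancel Groth.Agent.H3.AlgStAlgebraic Groth.Agent.H3.StackMore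
  Groth.Agent.H3.AlgStDiagEt Groth.Agent.H3.PshBridge Groth.Agent.H3.Whisker
open AlgSp

variable {S : Scheme.{u}} {𝒜 ℬ 𝒞 : AlgSt.Cat S}

/-- **Cancellation**: if `b` and `b ∘ a` are representable by algebraic spaces with `P`, and `P`
is stable under base change and has the cancellation property on algebraic spaces, then `a` is
representable by algebraic spaces with `P`. -/
theorem repByAlgSpWith_cancel_sp (P : MorphismProperty (Sp S)) (hPb : BaseChangeSp P)
    (hcancel : ∀ ⦃X Y Z : Sp S⦄, IsAlgSpace X → IsAlgSpace Y → IsAlgSpace Z →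
      ∀ (a : X ⟶ Y) (b : Y ⟶ Z), P b → P (a ≫ b) → P a)
    (a : 𝒜 ⥤ᵇ ℬ) (b : ℬ ⥤ᵇ 𝒞) (hb : AlgSt.RepByAlgSpWith P b)
    (hab : AlgSt.RepByAlgSpWith P (BasedFunctor.comp a b)) : AlgSt.RepByAlgSpWith P a := by
  intro U y
  obtain ⟨G', e', he', hβ⟩ := hb U (BasedFunctor.comp y b)
  obtain ⟨GV, eV, heV, hγ⟩ := hab U (BasedFunctor.comp y b)
  obtain ⟨e'', he'', ⟨ε₁⟩, ⟨ε₂⟩⟩ := isEquivOver_symm he'
  have hR := isEquivOver_pasteR (BasedFunctor.comp y b) b a
  obtain ⟨R', hR', ⟨ρ₁⟩, ⟨ρ₂⟩⟩ := isEquivOver_symm hR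
  let aU := FibCat.fpFst (FibCat.fpSnd (BasedFunctor.comp y b) b) a
  let A := BasedFunctor.comp eV R'
  have hA : FibCat.IsEquivOver A := isEquivOver_comp eV R' heV hR'
  let Φ : AlgSt.ofSp GV.obj ⥤ᵇ AlgSt.ofSp G'.obj :=
    BasedFunctor.comp (BasedFunctor.comp A aU) e''
  obtain ⟨ι⟩ := iso_ofPshMap_pshMapOf Φ
  let μ : GV.obj ⟶ G'.obj := ObjectProperty.homMk (pshMapOf Φ)
  -- the square relating `μ` and `aU`
  let e₁ : BasedFunctor.comp (AlgSt.ofSpMap μ) e' ≅ BasedFunctor.comp Φ e' := whiskerR ι.symm e'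
  let e₂ : BasedFunctor.comp Φ e' ≅
      BasedFunctor.comp (BasedFunctor.comp A aU) (BasedFunctor.comp e'' e') := Iso.refl _
  let e₃ : BasedFunctor.comp (BasedFunctor.comp A aU) (BasedFunctor.comp e'' e') ≅
      BasedFunctor.comp (BasedFunctor.comp A aU) (BasedFunctor.id _) :=
    whiskerL (BasedFunctor.comp A aU) ε₂
  let e₄ : BasedFunctor.comp (BasedFunctor.comp A aU) (BasedFunctor.id _) ≅
      BasedFunctor.comp A aU := Iso.refl _
  let e : BasedFunctor.comp (AlgSt.ofSpMap μ) e' ≅ BasedFunctor.comp A aU :=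
    e₁ ≪≫ e₂ ≪≫ e₃ ≪≫ e₄
  -- `μ` followed by the projection of `G'` is the projection of `GV`
  have hμβ : μ ≫ AlgSt.spMapOfOver (BasedFunctor.comp e' (FibCat.fpFst (BasedFunctor.comp y b) b)) =
      AlgSt.spMapOfOver (BasedFunctor.comp eV
        (FibCat.fpFst (BasedFunctor.comp y b) (BasedFunctor.comp a b))) := by
    rw [← spMapOfOver_ofSpMap_comp]
    apply spMapOfOver_eq_of_pointwise
    intro x
    have h1 : (FibCat.fp (BasedFunctor.comp y b) b).p.IsHomLift (𝟙 x.base) (appIso e x).hom :=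
      appIso_hom_isHomLift e x rfl
    have h2 : (FibCat.fp (BasedFunctor.comp y b) (BasedFunctor.comp a b)).p.IsHomLift (𝟙 x.base)
        (appIso ρ₂ (eV.obj x)).hom := appIso_hom_isHomLift ρ₂ (eV.obj x) (eV.w_obj x)
    have h3 : (Over.forget U).IsHomLift (𝟙 x.base)
        ((FibCat.fpFst (BasedFunctor.comp y b) b).map (appIso e x).hom) :=
      BasedFunctor.preserves_isHomLift (FibCat.fpFst (BasedFunctor.comp y b) b) (𝟙 x.base)
        (appIso e x).hom
    have h4 : (Over.forget U).IsHomLift (𝟙 x.base)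
        ((FibCat.fpFst (BasedFunctor.comp y b) (BasedFunctor.comp a b)).map
          (appIso ρ₂ (eV.obj x)).hom) :=
      BasedFunctor.preserves_isHomLift
        (FibCat.fpFst (BasedFunctor.comp y b) (BasedFunctor.comp a b)) (𝟙 x.base)
        (appIso ρ₂ (eV.obj x)).hom
    let i₁ : (BasedFunctor.comp (AlgSt.ofSpMap μ)
          (BasedFunctor.comp e' (FibCat.fpFst (BasedFunctor.comp y b) b))).obj x ⟶
        (FibCat.fpFst (BasedFunctor.comp y b) (BasedFunctor.comp a b)).obj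
          ((pasteR (BasedFunctor.comp y b) b a).obj (R'.obj (eV.obj x))) :=
      (FibCat.fpFst (BasedFunctor.comp y b) b).map (appIso e x).hom
    have h3' : (Over.forget U).IsHomLift (𝟙 x.base) i₁ := h3
    let i₂ : (FibCat.fpFst (BasedFunctor.comp y b) (BasedFunctor.comp a b)).obj
          ((pasteR (BasedFunctor.comp y b) b a).obj (R'.obj (eV.obj x))) ⟶
        (BasedFunctor.comp eV
          (FibCat.fpFst (BasedFunctor.comp y b) (BasedFunctor.comp a b))).obj x :=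
      (FibCat.fpFst (BasedFunctor.comp y b) (BasedFunctor.comp a b)).map
        (appIso ρ₂ (eV.obj x)).hom
    have h4' : (Over.forget U).IsHomLift (𝟙 x.base) i₂ := h4
    exact ⟨i₁ ≫ i₂, @IsHomLift.comp_of_lift_id _ _ _ _ (Over.forget U) x.base _ _ _ i₁ i₂ h3' h4'⟩
  have hμ : P μ := by
    refine hcancel GV.property G'.property (IsAlgSpace.yon_obj U) μ _ hβ ?_
    rw [hμβ]
    exact hγ
  have hμrep : AlgSt.RepByAlgSpWith P (AlgSt.ofSpMap μ) :=
    repByAlgSpWith_ofPshMap_of_repBySpWith μ.hom P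
      (repBySpWith_of_baseChangeSp P hPb GV.property G'.property μ hμ)
  have haU : AlgSt.RepByAlgSpWith P aU :=
    repByAlgSpWith_of_square' P aU (AlgSt.ofSpMap μ) A e' hA he' e hμrep
  -- the section of `fp (y ≫ b) b ⟶ (Sch/U)` given by `y`
  let ρ : BasedFunctor.comp (BasedFunctor.id (FibCat.overCat U)) (BasedFunctor.comp y b) ≅
      BasedFunctor.comp y b := Iso.refl _
  let σ : FibCat.overCat U ⥤ᵇ FibCat.fp (BasedFunctor.comp y b) b :=
    FibCat.fpLift (BasedFunctor.id (FibCat.overCat U)) y ρ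
  let y' := BasedFunctor.comp σ (FibCat.fpSnd (BasedFunctor.comp y b) b)
  let θ₄ : BasedFunctor.comp y' (BasedFunctor.id ℬ) ≅
      BasedFunctor.comp (BasedFunctor.id (FibCat.overCat U)) y := Iso.refl _
  let M₄ := fpMap (F' := y') (G' := a) (F := y) (G := a) (BasedFunctor.id (FibCat.overCat U))
    (BasedFunctor.id 𝒜) (BasedFunctor.id ℬ) θ₄ (idSq a)
  have hM₄ : FibCat.IsEquivOver M₄ := by
    have : (BasedFunctor.id ℬ).toFunctor.Full := Functor.Full.id
    have : (BasedFunctor.id ℬ).toFunctor.Faithful := Functor.Faithful.id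
    exact isEquivOver_fpMap _ _ _ _ _ isEquivOver_id isEquivOver_id
  let M₃ := pasteL σ (FibCat.fpSnd (BasedFunctor.comp y b) b) a
  have hM₃ : FibCat.IsEquivOver M₃ := isEquivOver_pasteL σ (FibCat.fpSnd (BasedFunctor.comp y b) b) a
  refine repWith_transfer' P (FibCat.fpFst σ aU) (FibCat.fpFst y a) (BasedFunctor.comp M₃ M₄)
    (isEquivOver_comp M₃ M₄ hM₃ hM₄) ?_ (haU U σ)
  intro X
  exact ⟨𝟙 _, IsHomLift.id rfl⟩

section Diag

variable {𝒳 𝒴 𝒵 : AlgSt.Cat S}

/-- **S17272**: cancellation for diagonals -/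
theorem main17272 (P : MorphismProperty (Sp S)) (hPb : BaseChangeSp P)
    (hcancel : ∀ ⦃X Y Z : Sp S⦄, IsAlgSpace X → IsAlgSpace Y → IsAlgSpace Z →
      ∀ (a : X ⟶ Y) (b : Y ⟶ Z), P b → P (a ≫ b) → P a)
    (f : 𝒳 ⥤ᵇ 𝒴) (g : 𝒴 ⥤ᵇ 𝒵) (hg : AlgSt.RepByAlgSpWith P (FibCat.diag g))
    (hfg : AlgSt.RepByAlgSpWith P (FibCat.diag (BasedFunctor.comp f g))) :
    AlgSt.RepByAlgSpWith P (FibCat.diag f) := by
  have h1 := repByAlgSpWith_magicI f g P hg
  have h4 := repByAlgSpWith_of_iso P (diagCompIso f g) hfg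
  exact repByAlgSpWith_cancel_sp P hPb hcancel (FibCat.diag f) (magicI f f g (magicIso f f g)) h1 h4

end Diag

end Groth.Agent.H3.AlgStCancelSp
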