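import Mathlib
import Groth.Agent.Lib.Helper3.AlgSt.OpenSub6
import Groth.Agent.Lib.Helper3.AlgSt.Points.FpChart

set_option autoImplicit false
universe w u
open CategoryTheory CategoryTheory.Functor CategoryTheory.Limits Opposite AlgebraicGeometry

noncomputable section

namespace Groth.Agent.H3.OpenSub

open Groth.Agent.H3.FibCatAux Groth.Agent.H3.GerbAux Groth.Agent.H3.FpCalc Groth.Agent.H3.TwoCart
  Groth.Agent.H3.StackPsh Groth.Agent.H3.PshBridge Groth.Agent.H3.AlgStAux Groth.Agent.H3.RepBridge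
  Groth.Agent.H3.SetoidPsh Groth.Agent.H3.BaseChangeSp Groth.Agent.H3.AlgStComp
  Groth.Agent.H3.AlgStProps Groth.Agent.H3.AlgStBridge2 Groth.Agent.H3.AlgStCharts
  Groth.Agent.H3.AlgStDescent Groth.Agent.H3.Whisker Groth.Agent.H3.AlgStLES
  Groth.Agent.H3.FPtRel Groth.Agent.H3.AlgStStackRep Groth.Agent.H3.TwoYoneda
  Groth.Agent.H3.AlgStPoints Groth.Agent.H3.AlgStAlgebraic Groth.Agent.H3.AlgStQCMor
  Groth.Agent.H3.AlgStSmoothLoc Groth.Agent.H3.SmSrc Groth.Agent.H3.AlgStLocQ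
  Groth.Agent.H3.AlgStAffine

variable {S : Scheme.{u}} {𝒳 𝒴 𝒵 : AlgSt.Cat S}

/-- a closed immersion through which a flat surjective morphism factors is an isomorphism -/
theorem isIso_of_isClosedImmersion_of_flat_factor {Z U T : Scheme.{u}} (ι : Z ⟶ U)
    [IsClosedImmersion ι] (t : T ⟶ U) [Flat t] [Surjective t] (l : T ⟶ Z) (h : l ≫ ι = t) :
    IsIso ι := by
  subst h
  have hsurj : Function.Surjective ι := by
    intro u
    obtain ⟨τ, hτ⟩ := (l ≫ ι).surjective u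
    exact ⟨l τ, hτ⟩
  have hinj : Function.Injective ι := ι.isClosedEmbedding.injective
  have hemb : Topology.IsOpenEmbedding ι :=
    (ι.isClosedEmbedding.isEmbedding.toHomeomorphOfSurjective hsurj).isOpenEmbedding
  have hst : ∀ z, IsIso (ι.stalkMap z) := by
    intro z
    obtain ⟨τ, hτ⟩ := (l ≫ ι).surjective (ι z)
    have hz : l τ = z := hinj hτ
    subst hz
    have h1 : Function.Surjective (ι.stalkMap (l τ)) := ι.stalkMap_surjective (l τ)
    have h2 : Function.Injective ((l ≫ ι).stalkMap τ) := by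
      algebraize [((l ≫ ι).stalkMap τ).hom]
      have : Module.FaithfullyFlat (U.presheaf.stalk ((l ≫ ι) τ)) (T.presheaf.stalk τ) :=
        @Module.FaithfullyFlat.of_flat_of_isLocalHom _ _ _ _ _ _ _
          (Flat.stalkMap (l ≫ ι) τ) ((l ≫ ι).toLRSHom.prop τ)
      exact ‹RingHom.FaithfullyFlat _›.injective
    rw [Scheme.Hom.stalkMap_comp] at h2
    have h3 : Function.Injective (ι.stalkMap (l τ)) := by
      have : Function.Injective ((l.stalkMap τ) ∘ (ι.stalkMap (l τ))) := by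
        intro a b hab
        exact h2 hab
      exact Function.Injective.of_comp this
    exact (ConcreteCategory.isIso_iff_bijective _).2 ⟨h3, h1⟩
  have hoi : IsOpenImmersion ι := IsOpenImmersion.of_isIso_stalkMap ι hemb
  have : Surjective ι := ⟨hsurj⟩
  exact (isIso_iff_isOpenImmersion_and_surjective ι).2 ⟨hoi, this⟩


/-- a substack whose inclusion is representable by schemes with `P₀` pulls back to a subscheme
with `P₀` of every chart, with its universal property (converse of `rep_subIncl_of_charts`) -/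
theorem charts_of_rep_subIncl (P₀ : MorphismProperty Scheme.{u}) (Q : 𝒳.obj → Prop)
    (hQi : ObjectProperty.IsClosedUnderIsomorphisms Q)
    (hrep : AlgSt.RepByAlgSpWith (AlgSp.RepWith P₀) (AlgSt.subIncl 𝒳 Q)) (U : Over S)
    (y : FibCat.overCat U ⥤ᵇ 𝒳) :
    ∃ (U' : Over S) (ι : U' ⟶ U), P₀ ι.left ∧
      (∀ c, Q ((BasedFunctor.comp (AlgSt.overMap ι) y).obj c)) ∧
      ∀ x : (FibCat.overCat U).obj, Q (y.obj x) → ∃ l : x.left ⟶ U', l ≫ ι = x.hom := by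
  obtain ⟨F, e, he, hφ⟩ := hrep U y
  obtain ⟨φ, hφdef⟩ : ∃ φ, φ = AlgSt.spMapOfOver
    (BasedFunctor.comp e (FibCat.fpFst y (AlgSt.subIncl 𝒳 Q))) := ⟨_, rfl⟩
  rw [← hφdef] at hφ
  have hr := hφ.rep
  have sq := hr.isPullback (𝟙 _)
  have hP : P₀ (hr.snd (𝟙 ((AlgSp.yon S).obj U))).left := hφ.property_snd _
  have hiso : IsIso (hr.fst (𝟙 ((AlgSp.yon S).obj U))) := sq.isIso_fst_of_isIso
  obtain ⟨U', hU'⟩ : ∃ U' : Over S, U' = hr.pullback (𝟙 ((AlgSp.yon S).obj U)) := ⟨_, rfl⟩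
  obtain ⟨ι, hι⟩ : ∃ ι : hr.pullback (𝟙 ((AlgSp.yon S).obj U)) ⟶ U,
    ι = hr.snd (𝟙 ((AlgSp.yon S).obj U)) := ⟨_, rfl⟩
  obtain ⟨κ, hκ⟩ : ∃ κ : (AlgSp.yon S).obj (hr.pullback (𝟙 ((AlgSp.yon S).obj U))) ⟶ F.obj,
    κ = hr.fst (𝟙 ((AlgSp.yon S).obj U)) := ⟨_, rfl⟩
  rw [← hι] at hP
  rw [← hκ] at hiso
  have hc : (AlgSp.yon S).map ι = κ ≫ AlgSt.spMapOfOver
      (BasedFunctor.comp e (FibCat.fpFst y (AlgSt.subIncl 𝒳 Q))) := by
    rw [hι, hκ, ← hφdef, sq.w, Category.comp_id]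
  obtain ⟨i2⟩ := chart_proj_iso κ (BasedFunctor.comp e (FibCat.fpFst y (AlgSt.subIncl 𝒳 Q))) ι hc
  obtain ⟨E, hE⟩ : ∃ E : FibCat.overCat (hr.pullback (𝟙 ((AlgSp.yon S).obj U))) ⥤ᵇ
      FibCat.fp y (AlgSt.subIncl 𝒳 Q),
    E = BasedFunctor.comp (ofOver _) (BasedFunctor.comp (AlgSt.ofSpMap κ) e) := ⟨_, rfl⟩
  have hEeq : FibCat.IsEquivOver E := by
    rw [hE]
    have hκ' : IsIso κ.hom := inferInstanceAs (IsIso ((ObjectProperty.ι _).map κ))
    exact isEquivOver_comp _ _ (isEquivOver_ofOver _)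
      (isEquivOver_comp _ _ (isEquivOver_ofPshMap κ.hom) he)
  have i2' : BasedFunctor.comp E (FibCat.fpFst y (AlgSt.subIncl 𝒳 Q)) ≅ AlgSt.overMap ι := by
    rw [hE]; exact i2
  let I2 := (BasedNatTrans.forgetful _ _).mapIso i2'
  refine ⟨_, ι, hP, ?_, ?_⟩
  · intro c
    have j1 : (E.obj c).obj.fst ≅ (AlgSt.overMap ι).obj c := I2.app c
    exact hQi.of_iso ((E.obj c).obj.iso.symm ≪≫ y.toFunctor.mapIso j1) (E.obj c).obj.snd.property
  · intro x hx
    have hid : 𝒳.p.IsHomLift (𝟙 ((FibCat.overCat U).p.obj x)) (Iso.refl (y.obj x)).hom :=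
      IsHomLift.id (y.w_obj x)
    let w : (FibCat.fp y (AlgSt.subIncl 𝒳 Q)).obj :=
      fpMk y (AlgSt.subIncl 𝒳 Q) x ⟨y.obj x, hx⟩ (Iso.refl _) hid
    obtain ⟨c, ε, -⟩ := ((X5139 E).1 hEeq).2 w
    have j1 : (AlgSt.overMap ι).obj c ≅ x :=
      (I2.app c).symm ≪≫ (FibCat.fpFst y (AlgSt.subIncl 𝒳 Q)).toFunctor.mapIso ε
    refine ⟨j1.inv.left ≫ c.hom, ?_⟩
    rw [Category.assoc]
    exact Over.w j1.inv


/-- a point of a chart whose image lies in a substack is the image of an object of the chart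
whose value lies in the substack -/
theorem exists_obj_of_mem_range_subIncl (h𝒳 : FibCat.IsFibGrpd 𝒳.p) (Q : 𝒳.obj → Prop)
    (hQi : ObjectProperty.IsClosedUnderIsomorphisms Q)
    (hQhom : ∀ ⦃x y : 𝒳.obj⦄ (_ : x ⟶ y), Q y → Q x) {V : Over S}
    (y : FibCat.overCat V ⥤ᵇ 𝒳) (v : ↥V.left)
    (hv : AlgSt.Points.ofChart y v ∈ Set.range (AlgSt.Points.map (AlgSt.subIncl 𝒳 Q))) :
    ∃ x : (FibCat.overCat V).obj, Q (y.obj x) ∧ v ∈ Set.range x.hom.left := by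
  rw [mem_range_subIncl_iff] at hv
  obtain ⟨p, hp, hQp⟩ := hv
  change AlgSt.Points.mk p = AlgSt.Points.mk _ at hp
  rw [mk_eq_mk_iff h𝒳] at hp
  obtain ⟨r, a, b, -⟩ := hp
  have hr : Q r.obj := hQhom a hQp
  change r.obj ⟶ y.obj (resObj V v) at b
  have hc : 𝒳.p.obj (y.obj (resObj V v)) = (resObj V v).left := y.w_obj _
  obtain ⟨g, hg⟩ : ∃ g : Over.mk r.str ⟶ (resObj V v).left,
    g = eqToHom r.lies.symm ≫ 𝒳.p.map b ≫ eqToHom hc := ⟨_, rfl⟩
  have hb : 𝒳.p.IsHomLift g b := IsHomLift.of_fac' 𝒳.p g b r.lies hc (by simp [hg])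
  let x' : (FibCat.overCat V).obj := (AlgSt.overMap (resObj V v).hom).obj (Over.mk g)
  let β : x' ⟶ resObj V v := Over.homMk g rfl
  have hβ : 𝒳.p.IsHomLift g (y.map β) := by
    have h1 : (FibCat.overCat V).p.IsHomLift g β := by
      apply IsHomLift.of_fac' (FibCat.overCat V).p g β rfl rfl
      change (FibCat.overCat V).p.map β = 𝟙 _ ≫ g ≫ 𝟙 _
      rw [Category.id_comp, Category.comp_id]
      rfl
    exact (BasedFunctor.isHomLift_iff y g β).mpr h1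
  have hcart : 𝒳.p.IsStronglyCartesian g (y.map β) :=
    isStronglyCartesian_of_isHomLift 𝒳.p h𝒳 _ _
  have hb' : 𝒳.p.IsHomLift (𝟙 (Over.mk r.str) ≫ g) b := by rw [Category.id_comp]; exact hb
  let χ : r.obj ⟶ y.obj x' := IsStronglyCartesian.map 𝒳.p g (y.map β) (f' := 𝟙 _ ≫ g) rfl b
  have hχ : 𝒳.p.IsHomLift (𝟙 (Over.mk r.str)) χ :=
    IsStronglyCartesian.map_isHomLift 𝒳.p g (y.map β) (f' := 𝟙 _ ≫ g) rfl b
  have : IsIso χ := isIso_of_isHomLift_id 𝒳.p h𝒳 (U := Over.mk r.str) χ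
  refine ⟨x', hQi.of_iso (asIso χ) hr, ?_⟩
  have hne : Nonempty ↥(Spec (CommRingCat.of r.K)) := ⟨IsLocalRing.closedPoint r.K⟩
  obtain ⟨pt⟩ := hne
  refine ⟨pt, ?_⟩
  have h2 : x'.hom.left pt = V.left.fromSpecResidueField v (g.left pt) := rfl
  have h3 : V.left.fromSpecResidueField v (g.left pt) ∈
      Set.range (V.left.fromSpecResidueField v) := ⟨_, rfl⟩
  rw [Scheme.range_fromSpecResidueField] at h3
  rw [h2]
  exact h3


end Groth.Agent.H3.OpenSub
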