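import Mathlib
import Groth.Agent.Lib.Helper3.AlgSt.ClosedSub

set_option autoImplicit false
universe w u
open CategoryTheory CategoryTheory.Functor CategoryTheory.Limits Opposite AlgebraicGeometry

noncomputable section

namespace Groth.Agent.H3.OpenSub

open Groth.Agent.H3.FibCatAux Groth.Agent.H3.GerbAux Groth.Agent.H3.FpCalc Groth.Agent.H3.TwoCart
  Groth.Agent.H3.StackPsh Groth.Agent.H3.PshBridge Groth.Agent.H3.AlgStAux Groth.Agent.H3.RepBridge
  Groth.Agent.H3.SetoidPsh Groth.Agent.H3.BaseChangeSp Groth.Agent.H3.AlgStComp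
  Groth.Agent.H3.AlgStProps Groth.Agent.H3.AlgStBridge2 Groth.Agent.H3.AlgStCharts
  Groth.Agent.H3.AlgStDescent Groth.Agent.H3.Whisker Groth.Agent.H3.AlgStLES
  Groth.Agent.H3.FPtRel Groth.Agent.H3.AlgStStackRep Groth.Agent.H3.TwoYoneda
  Groth.Agent.H3.AlgStPoints Groth.Agent.H3.AlgStAlgebraic Groth.Agent.H3.AlgStQCMor
  Groth.Agent.H3.AlgStSmoothLoc Groth.Agent.H3.SmSrc Groth.Agent.H3.AlgStLocQ
  Groth.Agent.H3.AlgStAffine

variable {S : Scheme.{u}} {𝒳 𝒴 𝒵 : AlgSt.Cat S}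

/-- if the subscheme cut out by a substack in a chart is all of the chart, all values of the
chart lie in the substack -/
lemma forall_of_isIso_chart (Q : 𝒳.obj → Prop)
    (hQi : ObjectProperty.IsClosedUnderIsomorphisms Q) {U U' : Over S}
    (y : FibCat.overCat U ⥤ᵇ 𝒳) (ι : U' ⟶ U) (hι : IsIso ι.left)
    (h1 : ∀ c, Q ((BasedFunctor.comp (AlgSt.overMap ι) y).obj c)) (x : (FibCat.overCat U).obj) :
    Q (y.obj x) := by
  have h0 : IsIso ((Over.forget S).map ι) := hι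
  have : IsIso ι := isIso_of_reflects_iso ι (Over.forget S)
  have h2 := h1 (Over.mk (x.hom ≫ inv ι))
  have i : (AlgSt.overMap ι).obj (Over.mk (x.hom ≫ inv ι)) ≅ x :=
    Over.isoMk (Iso.refl _) (by
      change 𝟙 _ ≫ x.hom = (x.hom ≫ inv ι) ≫ ι
      rw [Category.id_comp, Category.assoc, IsIso.inv_hom_id, Category.comp_id])
  exact hQi.of_iso (y.toFunctor.mapIso i) h2

/-- a closed substack containing the value of a chart at a flat surjective morphism contains all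
values of the chart -/
theorem closedSub_forall_of_flat_cover (Q : 𝒳.obj → Prop)
    (hQ : AlgSt.IsClosedSubstack 𝒳 Q Scheme.fppfPrecoverage) {U T : Over S}
    (y : FibCat.overCat U ⥤ᵇ 𝒳) (c : T ⟶ U) (hc1 : Flat c.left) (hc2 : Surjective c.left)
    (hQc : Q (y.obj (Over.mk c))) (x : (FibCat.overCat U).obj) : Q (y.obj x) := by
  obtain ⟨Z₀, ι₀, hι₀, h1, h2⟩ := charts_of_rep_subIncl @IsClosedImmersion Q hQ.1 hQ.2.2 U y
  obtain ⟨l, hl⟩ := h2 (Over.mk c) hQc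
  have : IsClosedImmersion ι₀.left := hι₀
  have hiso : IsIso ι₀.left := isIso_of_isClosedImmersion_of_flat_factor ι₀.left c.left l.left
    (by rw [← Over.comp_left]; exact congrArg (fun a => a.left) hl)
  exact forall_of_isIso_chart Q hQ.1 y ι₀ hiso h1 x

/-- a closed substack containing all points of a reduced chart contains all values of the
chart -/
theorem closedSub_forall_of_reduced_chart (h𝒳 : AlgSt.IsAlgStack Scheme.fppfPrecoverage 𝒳)
    (Q : 𝒳.obj → Prop) (hQ : AlgSt.IsClosedSubstack 𝒳 Q Scheme.fppfPrecoverage) {V : Over S}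
    [IsReduced V.left] (y : FibCat.overCat V ⥤ᵇ 𝒳)
    (hpts : ∀ v : ↥V.left, AlgSt.Points.ofChart y v ∈
      Set.range (AlgSt.Points.map (AlgSt.subIncl 𝒳 Q))) (x : (FibCat.overCat V).obj) :
    Q (y.obj x) := by
  have h𝒳g := h𝒳.isStack.1
  have hQhom : ∀ ⦃a b : 𝒳.obj⦄ (_ : a ⟶ b), Q b → Q a :=
    fun _ _ m hb => of_hom_of_isFibGrpd h𝒳g Q hQ.1 hQ.2.1.isStack.1 m hb
  obtain ⟨Z₀, ι₀, hι₀, h1, h2⟩ := charts_of_rep_subIncl @IsClosedImmersion Q hQ.1 hQ.2.2 V y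
  have : IsClosedImmersion ι₀.left := hι₀
  have hsurj : Surjective ι₀.left := by
    refine ⟨fun v => ?_⟩
    obtain ⟨x', hx', pt, hpt⟩ := exists_obj_of_mem_range_subIncl h𝒳g Q hQ.1 hQhom y v (hpts v)
    obtain ⟨l, hl⟩ := h2 x' hx'
    refine ⟨l.left pt, ?_⟩
    rw [← hpt, ← hl]
    rfl
  have hiso : IsIso ι₀.left := isIso_of_isClosedImmersion_of_surjective ι₀.left
  exact forall_of_isIso_chart Q hQ.1 y ι₀ hiso h1 x


/-- a property of objects of an algebraic stack which holds on an atlas and descends along smooth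
surjective morphisms of charts holds everywhere -/
theorem forall_of_atlas (h𝒴 : AlgSt.IsAlgStack Scheme.fppfPrecoverage 𝒴) (R : 𝒴.obj → Prop)
    (hRi : ObjectProperty.IsClosedUnderIsomorphisms R)
    (hdesc : ∀ (U : Over S) (yb : FibCat.overCat U ⥤ᵇ 𝒴) (T : Over S) (c : T ⟶ U),
      Smooth c.left → Surjective c.left → R (yb.obj (Over.mk c)) → R (yb.obj (Over.mk (𝟙 U))))
    {W : Over S} (w : FibCat.overCat W ⥤ᵇ 𝒴)
    (hw₁ : AlgSt.RepByAlgSpWith (AlgSp.LocP @Smooth) w)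
    (hw₂ : AlgSt.RepByAlgSpWith AlgSp.IsSurjectiveMor w) (hw : ∀ x, R (w.obj x)) (y₀ : 𝒴.obj) :
    R y₀ := by
  have h𝒴g := h𝒴.isStack.1
  obtain ⟨yb, hyb⟩ : ∃ yb : FibCat.overCat (𝒴.p.obj y₀) ⥤ᵇ 𝒴, yb = yBased h𝒴g y₀ := ⟨_, rfl⟩
  obtain ⟨G, e, he, hb1⟩ := hw₁ (𝒴.p.obj y₀) yb
  have hb2 := fst_prop _ good_isSurjectiveMor.bc good_isSurjectiveMor.toC.charts w hw₂
    (𝒴.p.obj y₀) yb G e he
  obtain ⟨T, q, c, t, hqe, hqs, hc, ht, ⟨κ⟩, -⟩ :=
    exists_scheme_chart_fp_scheme h𝒴g W w (𝒴.p.obj y₀) yb G e he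
  have hc1 : Smooth c.left := prop_of_chart q _ c hc hqe hb1
  have hc2 : Surjective c.left := ⟨surjective_of_chart q _ c hc hqs hb2⟩
  have hRc : R (yb.obj (Over.mk c)) := by
    let K := (BasedNatTrans.forgetful _ _).mapIso κ
    have i1 : (BasedFunctor.comp (AlgSt.overMap t) w).obj (Over.mk (𝟙 T)) ≅
        (BasedFunctor.comp (AlgSt.overMap c) yb).obj (Over.mk (𝟙 T)) := K.app (Over.mk (𝟙 T))
    have i2 : (AlgSt.overMap c).obj (Over.mk (𝟙 T)) ≅ Over.mk c :=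
      Over.isoMk (Iso.refl _) (by
        change 𝟙 _ ≫ c = 𝟙 T ≫ c
        rfl)
    exact hRi.of_iso (i1 ≪≫ yb.toFunctor.mapIso i2) (hw _)
  have h1 := hdesc (𝒴.p.obj y₀) yb T c hc1 hc2 hRc
  rw [hyb] at h1
  exact hRi.of_iso (yIso h𝒴g y₀) h1

/-- **S12866** -/
theorem factors_closedSub_iff_points (h𝒳 : AlgSt.IsAlgStack Scheme.fppfPrecoverage 𝒳)
    (h𝒴 : AlgSt.IsAlgStack Scheme.fppfPrecoverage 𝒴)
    (hred : AlgSt.SmoothLocally (fun X => IsReduced X) 𝒴) (Q : 𝒳.obj → Prop)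
    (hQ : AlgSt.IsClosedSubstack 𝒳 Q Scheme.fppfPrecoverage) (f : 𝒴 ⥤ᵇ 𝒳) :
    (∀ y : 𝒴.obj, Q (f.obj y)) ↔
      Set.range (AlgSt.Points.map f) ⊆ Set.range (AlgSt.Points.map (AlgSt.subIncl 𝒳 Q)) := by
  constructor
  · rintro h _ ⟨z, rfl⟩
    obtain ⟨p, rfl⟩ := AlgSt.Points.mk_surjective z
    rw [AlgSt.Points.map_mk, mem_range_subIncl_iff]
    exact ⟨p.map f, rfl, h p.obj⟩
  · intro h
    obtain ⟨W, w, hw₁, hw₂⟩ := h𝒴.atlas
    have hWred : IsReduced W.left := hred W w hw₁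
    have hRi : ObjectProperty.IsClosedUnderIsomorphisms (fun y : 𝒴.obj => Q (f.obj y)) :=
      ⟨fun e hx => hQ.1.of_iso (f.toFunctor.mapIso e) hx⟩
    refine forall_of_atlas h𝒴 (fun y => Q (f.obj y)) hRi ?_ w hw₁ hw₂ ?_
    · intro U yb T c hc1 hc2 hRc
      exact closedSub_forall_of_flat_cover Q hQ (BasedFunctor.comp yb f) c inferInstance hc2 hRc _
    · intro x
      refine closedSub_forall_of_reduced_chart h𝒳 Q hQ (BasedFunctor.comp w f) (fun v => ?_) x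
      exact h ⟨AlgSt.Points.ofChart w v, rfl⟩

/-- **S12865** -/
theorem closedSub_eq_of_reduced (h𝒳 : AlgSt.IsAlgStack Scheme.fppfPrecoverage 𝒳)
    (hred : AlgSt.SmoothLocally (fun X => IsReduced X) 𝒳) (Q : 𝒳.obj → Prop)
    (hQ : AlgSt.IsClosedSubstack 𝒳 Q Scheme.fppfPrecoverage)
    (hpts : Set.range (AlgSt.Points.map (AlgSt.subIncl 𝒳 Q)) = Set.univ) (y : 𝒳.obj) : Q y := by
  have h := (factors_closedSub_iff_points h𝒳 h𝒳 hred Q hQ (BasedFunctor.id 𝒳)).2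
    (by rw [hpts]; exact Set.subset_univ _)
  exact h y

end Groth.Agent.H3.OpenSub
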