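import Mathlib
import Groth.Agent.Lib.Helper3.AlgSt.Descent
import Groth.Agent.Lib.Helper3.Whisker
import Groth.Agent.Lib.Helper5.AlgSp.KPoints
import Groth.Prelude.Def_StCoarse
import Groth.Prelude.Def_StGerb

/-!
# Coarse moduli spaces and gerbes (helper3)

* every fppf covering sieve of a geometric point is the maximal sieve;
* a gerbe is bijective on isomorphism classes of geometric points;
* coarse moduli spaces pass up and down a gerbe through which all maps to algebraic spaces factor.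
-/

set_option autoImplicit false
universe v₂ u₂ v₃ u₃ u
open CategoryTheory CategoryTheory.Functor CategoryTheory.Limits Opposite AlgebraicGeometry

namespace Groth.Agent.H3.CoarseGerbe

open Groth.Agent.H3.FibCatAux Groth.Agent.H3.GerbAux Groth.Agent.H3.FpCalc
  Groth.Agent.H3.PshBridge Groth.Agent.H3.AlgStDescent Groth.Agent.H3.Whisker Groth.Agent.H3.StkAux

variable {S : Scheme.{u}}

section Top

/-- every fppf covering sieve of a geometric point is the maximal sieve -/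
theorem top_mem_of_geometric (Ω : Type u) [Field Ω] [IsAlgClosed Ω]
    (t : Spec (CommRingCat.of Ω) ⟶ S) (R : Sieve (Over.mk t)) (hR : R ∈ AlgSp.J S (Over.mk t)) :
    R (𝟙 (Over.mk t)) := by
  obtain ⟨V, h, hRh, -, hlfp, hrange⟩ := exists_family_of_mem_J R hR
  obtain ⟨t₀⟩ : Nonempty ↥(Spec (CommRingCat.of Ω)) := inferInstance
  obtain ⟨v, -⟩ := hrange t₀
  haveI := hlfp t₀
  haveI : Nonempty ↥(V t₀).left := ⟨v⟩
  obtain ⟨p, hp⟩ := Groth.Agent.H5.AlgSp.exists_section_of_nonempty (K := Ω) (U := (V t₀).left)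
    (h t₀).left
  have hw : p ≫ (V t₀).hom = t := by
    have h1 : (h t₀).left ≫ t = (V t₀).hom := Over.w (h t₀)
    rw [← h1, ← Category.assoc, hp, Category.id_comp]
  have hs : (Over.homMk p hw : Over.mk t ⟶ V t₀) ≫ h t₀ = 𝟙 (Over.mk t) := by
    apply Over.OverMorphism.ext
    exact hp
  have h2 := R.downward_closed (hRh t₀) (Over.homMk p hw : Over.mk t ⟶ V t₀)
  rw [hs] at h2
  exact h2

end Top

section Sec

variable {𝒵 : BasedCategory.{v₂, u₂} (Over S)} {N : AlgSp.Sp S}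

/-- isomorphic functors into the category of a sheaf give the same sections -/
lemma secAt_eq_of_iso {a b : 𝒵 ⥤ᵇ AlgSt.ofSp N} (α : a ≅ b) (z : 𝒵.obj) {T : Over S}
    (hz : 𝒵.p.obj z = T) :
    secAt (a.obj z) ((a.w_obj z).trans hz) = secAt (b.obj z) ((b.w_obj z).trans hz) := by
  subst hz
  haveI := appIso_hom_isHomLift α z rfl
  exact secAt_eq_of_hom (T := 𝒵.p.obj z) (appIso α z).hom

lemma fibSec_eq (π : 𝒵 ⥤ᵇ AlgSt.ofSp N) {T : Over S} (x : 𝒵.p.Fiber T) :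
    AlgSt.fibSec π x = secAt (π.obj x.1) ((π.w_obj x.1).trans x.2) := rfl

lemma fibSec_eq_of_iso {a b : 𝒵 ⥤ᵇ AlgSt.ofSp N} (α : a ≅ b) {T : Over S} (x : 𝒵.p.Fiber T) :
    AlgSt.fibSec a x = AlgSt.fibSec b x :=
  secAt_eq_of_iso α x.1 x.2

/-- objects of a fibre related by a morphism over the identity have the same section -/
lemma fibSec_eq_of_hom (π : 𝒵 ⥤ᵇ AlgSt.ofSp N) {T : Over S} (x y : 𝒵.p.Fiber T) (φ : x.1 ⟶ y.1)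
    (hφ : 𝒵.p.IsHomLift (𝟙 T) φ) : AlgSt.fibSec π x = AlgSt.fibSec π y := by
  have h2 : (Stk.EltObj.forget N.obj).IsHomLift (𝟙 T) (π.map φ) :=
    BasedFunctor.preserves_isHomLift π (𝟙 T) φ
  exact secAt_eq_of_hom (T := T) (π.map φ)

end Sec

section Fib

variable {𝒳 : BasedCategory.{v₂, u₂} (Over S)}

/-- an isomorphism of a fibre category from an isomorphism over the identity -/
noncomputable def fiberIso {T : Over S} {x y : 𝒳.p.Fiber T} (φ : x.1 ⟶ y.1) [IsIso φ]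
    [hφ : 𝒳.p.IsHomLift (𝟙 T) φ] : x ≅ y where
  hom := ⟨φ, hφ⟩
  inv := ⟨inv φ, inferInstance⟩
  hom_inv_id := Subtype.ext (IsIso.hom_inv_id φ)
  inv_hom_id := Subtype.ext (IsIso.inv_hom_id φ)

end Fib

section Lift

variable {𝒳 : BasedCategory.{v₂, u₂} (Over S)} {𝒴 : BasedCategory.{v₃, u₃} (Over S)}

/-- objects over a geometric point lift along a functor whose objects lift locally -/
theorem exists_lift_obj (F : 𝒳 ⥤ᵇ 𝒴) (hF : Gerb.LocSurjObj (AlgSp.J S) F) (Ω : Type u) [Field Ω]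
    [IsAlgClosed Ω] (t : Spec (CommRingCat.of Ω) ⟶ S) (y : 𝒴.obj) (hy : 𝒴.p.obj y = Over.mk t) :
    ∃ (x : 𝒳.obj) (_ : 𝒳.p.obj x = Over.mk t) (g : F.obj x ⟶ y),
      𝒴.p.IsHomLift (𝟙 (Over.mk t)) g := by
  rw [locSurjObj_iff] at hF
  obtain ⟨R, hR, h3⟩ := hF (Over.mk t) y hy
  obtain ⟨x, g, hg⟩ := h3 (𝟙 _) (top_mem_of_geometric Ω t R hR)
  exact ⟨x, (F.w_obj x).symm.trans (IsHomLift.domain_eq 𝒴.p (𝟙 _) g), g, hg⟩

/-- morphisms over a geometric point lift along a functor whose morphisms lift locally -/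
theorem exists_lift_hom (h𝒳 : FibCat.IsFibGrpd 𝒳.p) (F : 𝒳 ⥤ᵇ 𝒴)
    (hF : Gerb.LocSurjHom (AlgSp.J S) F) (Ω : Type u) [Field Ω] [IsAlgClosed Ω]
    (t : Spec (CommRingCat.of Ω) ⟶ S) (x x' : 𝒳.obj) (b : F.obj x ⟶ F.obj x')
    (hb : 𝒴.p.IsHomLift (𝟙 (Over.mk t)) b) :
    ∃ ψ : x ⟶ x', 𝒳.p.IsHomLift (𝟙 (Over.mk t)) ψ := by
  rw [locSurjHom_iff] at hF
  obtain ⟨R, hR, h3⟩ := hF (Over.mk t) x x' b hb
  obtain ⟨x₀, φ, ψ, hφ, hψ, -⟩ := h3 (𝟙 _) (top_mem_of_geometric Ω t R hR)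
  haveI : IsIso φ := isIso_of_isHomLift_id 𝒳.p h𝒳 (U := Over.mk t) φ
  exact ⟨inv φ ≫ ψ, inferInstance⟩

end Lift

section Main

variable {𝒳 𝒴 : AlgSt.Cat S} {M : AlgSp.Sp S}

/-- a gerbe is bijective on geometric points: transfer along precomposition -/
theorem geomPtBij_comp (h𝒳 : FibCat.IsFibGrpd 𝒳.p) (F : 𝒳 ⥤ᵇ 𝒴)
    (hF : Gerb.IsGerbeOver (AlgSp.J S) F) (π : 𝒴 ⥤ᵇ AlgSt.ofSp M) (h : AlgSt.GeomPtBij π) :
    AlgSt.GeomPtBij (BasedFunctor.comp F π) := by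
  intro Ω _ _ t
  obtain ⟨h1, h2⟩ := h Ω t
  constructor
  · intro m
    obtain ⟨y, hy⟩ := h1 m
    obtain ⟨x, hx, g, hg⟩ := exists_lift_obj F hF.1 Ω t y.1 y.2
    refine ⟨⟨x, hx⟩, ?_⟩
    rw [← hy]
    exact fibSec_eq_of_hom π ⟨F.obj x, (F.w_obj x).trans hx⟩ y g hg
  · intro x x' hxx'
    obtain ⟨e⟩ := h2 ⟨F.obj x.1, (F.w_obj x.1).trans x.2⟩ ⟨F.obj x'.1, (F.w_obj x'.1).trans x'.2⟩
      hxx'
    obtain ⟨ψ, hψ⟩ := exists_lift_hom h𝒳 F hF.2 Ω t x.1 x'.1 e.hom.1 e.hom.2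
    haveI : IsIso ψ := isIso_of_isHomLift_id 𝒳.p h𝒳 (U := Over.mk t) ψ
    exact ⟨fiberIso ψ⟩

/-- geometric point bijectivity descends along a gerbe -/
theorem geomPtBij_of_comp (h𝒴 : FibCat.IsFibGrpd 𝒴.p) (F : 𝒳 ⥤ᵇ 𝒴)
    (hF : Gerb.IsGerbeOver (AlgSp.J S) F) (ψ₀ : 𝒴 ⥤ᵇ AlgSt.ofSp M) (π' : 𝒳 ⥤ᵇ AlgSt.ofSp M)
    (e0 : BasedFunctor.comp F ψ₀ ≅ π') (h : AlgSt.GeomPtBij π') : AlgSt.GeomPtBij ψ₀ := by
  intro Ω _ _ t
  obtain ⟨h1, h2⟩ := h Ω t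
  constructor
  · intro m
    obtain ⟨x, hx⟩ := h1 m
    refine ⟨⟨F.obj x.1, (F.w_obj x.1).trans x.2⟩, ?_⟩
    rw [← hx]
    exact fibSec_eq_of_iso e0 x
  · intro y y' hyy'
    obtain ⟨x, hx, g, hg⟩ := exists_lift_obj F hF.1 Ω t y.1 y.2
    obtain ⟨x', hx', g', hg'⟩ := exists_lift_obj F hF.1 Ω t y'.1 y'.2
    have k1 : AlgSt.fibSec π' ⟨x, hx⟩ = AlgSt.fibSec ψ₀ y :=
      (fibSec_eq_of_iso e0 ⟨x, hx⟩).symm.trans
        (fibSec_eq_of_hom ψ₀ ⟨F.obj x, (F.w_obj x).trans hx⟩ y g hg)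
    have k2 : AlgSt.fibSec π' ⟨x', hx'⟩ = AlgSt.fibSec ψ₀ y' :=
      (fibSec_eq_of_iso e0 ⟨x', hx'⟩).symm.trans
        (fibSec_eq_of_hom ψ₀ ⟨F.obj x', (F.w_obj x').trans hx'⟩ y' g' hg')
    obtain ⟨e⟩ := h2 ⟨x, hx⟩ ⟨x', hx'⟩ (k1.trans (hyy'.trans k2.symm))
    haveI : IsIso g := isIso_of_isHomLift_id 𝒴.p h𝒴 (U := Over.mk t) g
    have hm : 𝒴.p.IsHomLift (𝟙 (Over.mk t)) (F.map e.hom.1) := by
      have := e.hom.2
      exact BasedFunctor.preserves_isHomLift F (𝟙 (Over.mk t)) e.hom.1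
    have hl : 𝒴.p.IsHomLift (𝟙 (Over.mk t)) (inv g ≫ F.map e.hom.1 ≫ g') := inferInstance
    haveI : IsIso (inv g ≫ F.map e.hom.1 ≫ g') :=
      isIso_of_isHomLift_id 𝒴.p h𝒴 (U := Over.mk t) _
    exact ⟨fiberIso (inv g ≫ F.map e.hom.1 ≫ g')⟩

variable (F : 𝒳 ⥤ᵇ 𝒴)
  (huniv : ∀ (N : AlgSp.Sp S), AlgSp.IsAlgSpace N → ∀ φ : 𝒳 ⥤ᵇ AlgSt.ofSp N,
    ∃ ψ : 𝒴 ⥤ᵇ AlgSt.ofSp N, Nonempty (BasedFunctor.comp F ψ ≅ φ) ∧
      ∀ ψ' : 𝒴 ⥤ᵇ AlgSt.ofSp N, Nonempty (BasedFunctor.comp F ψ' ≅ φ) → Nonempty (ψ' ≅ ψ))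

include huniv

/-- categorical moduli spaces pass up along `F` -/
theorem isCatModuli_comp (π : 𝒴 ⥤ᵇ AlgSt.ofSp M) (h : AlgSt.IsCatModuli π) :
    AlgSt.IsCatModuli (BasedFunctor.comp F π) := by
  obtain ⟨hM, hπ⟩ := h
  refine ⟨hM, fun N hN φ => ?_⟩
  obtain ⟨ψ, ⟨e1⟩, huniq⟩ := huniv N hN φ
  obtain ⟨g, ⟨e2⟩, hg⟩ := hπ N hN ψ
  refine ⟨g, ⟨?_⟩, fun g' hg' => hg g' ?_⟩
  · have e2' : BasedFunctor.comp (BasedFunctor.comp F π) (AlgSt.ofSpMap g) ≅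
        BasedFunctor.comp F ψ := whiskerL F e2
    exact e2' ≪≫ e1
  · obtain ⟨e3⟩ := hg'
    have e3' : BasedFunctor.comp F (BasedFunctor.comp π (AlgSt.ofSpMap g')) ≅ φ := e3
    exact huniq _ ⟨e3'⟩

/-- categorical moduli spaces pass down along `F` -/
theorem isCatModuli_of_comp (ψ₀ : 𝒴 ⥤ᵇ AlgSt.ofSp M) (π' : 𝒳 ⥤ᵇ AlgSt.ofSp M)
    (e0 : BasedFunctor.comp F ψ₀ ≅ π') (h : AlgSt.IsCatModuli π') : AlgSt.IsCatModuli ψ₀ := by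
  obtain ⟨hM, hπ'⟩ := h
  refine ⟨hM, fun N hN φ => ?_⟩
  obtain ⟨g, ⟨e2⟩, hg⟩ := hπ' N hN (BasedFunctor.comp F φ)
  obtain ⟨ψ₁, -, huniq⟩ := huniv N hN (BasedFunctor.comp F φ)
  refine ⟨g, ?_, fun g' hg' => hg g' ?_⟩
  · have a1 : BasedFunctor.comp F (BasedFunctor.comp ψ₀ (AlgSt.ofSpMap g)) ≅
        BasedFunctor.comp π' (AlgSt.ofSpMap g) := whiskerR e0 (AlgSt.ofSpMap g)
    obtain ⟨b1⟩ := huniq (BasedFunctor.comp ψ₀ (AlgSt.ofSpMap g)) ⟨a1 ≪≫ e2⟩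
    obtain ⟨b2⟩ := huniq φ ⟨Iso.refl _⟩
    exact ⟨b1 ≪≫ b2.symm⟩
  · obtain ⟨e3⟩ := hg'
    have a1 : BasedFunctor.comp π' (AlgSt.ofSpMap g') ≅
        BasedFunctor.comp F (BasedFunctor.comp ψ₀ (AlgSt.ofSpMap g')) :=
      (whiskerR e0 (AlgSt.ofSpMap g')).symm
    exact ⟨a1 ≪≫ whiskerL F e3⟩

/-- coarse moduli spaces pass up along a gerbe `F` through which maps to algebraic spaces factor -/
theorem isCoarseModuli_comp (h𝒳 : FibCat.IsFibGrpd 𝒳.p) (hF : Gerb.IsGerbeOver (AlgSp.J S) F)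
    (π : 𝒴 ⥤ᵇ AlgSt.ofSp M) (h : AlgSt.IsCoarseModuli π) :
    AlgSt.IsCoarseModuli (BasedFunctor.comp F π) :=
  ⟨isCatModuli_comp F huniv π h.1, geomPtBij_comp h𝒳 F hF π h.2⟩

/-- coarse moduli spaces pass down along a gerbe `F` through which maps to algebraic spaces
factor -/
theorem isCoarseModuli_of_comp (h𝒴 : FibCat.IsFibGrpd 𝒴.p) (hF : Gerb.IsGerbeOver (AlgSp.J S) F)
    (ψ₀ : 𝒴 ⥤ᵇ AlgSt.ofSp M) (π' : 𝒳 ⥤ᵇ AlgSt.ofSp M) (e0 : BasedFunctor.comp F ψ₀ ≅ π')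
    (h : AlgSt.IsCoarseModuli π') : AlgSt.IsCoarseModuli ψ₀ :=
  ⟨isCatModuli_of_comp F huniv ψ₀ π' e0 h.1, geomPtBij_of_comp h𝒴 F hF ψ₀ π' e0 h.2⟩

end Main

end Groth.Agent.H3.CoarseGerbe
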