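import Mathlib
import Groth.Agent.Lib.Helper3.AlgSt.DiagEt
import Groth.Agent.Lib.Helper3.AlgSt.LocQ2

/-!
# Diagonals under equivalences; the diagonal of a product of 1-morphisms (helper3)
-/

set_option autoImplicit false
universe u
open CategoryTheory CategoryTheory.Functor CategoryTheory.Limits Opposite AlgebraicGeometry

namespace Groth.Agent.H3.AlgStDiagProdMap

open Groth.Agent.H3.FibCatAux Groth.Agent.H3.GerbAux Groth.Agent.H3.FpCalc Groth.Agent.H3.TwoCart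
  Groth.Agent.H3.AlgStAux Groth.Agent.H3.BaseChangeSp Groth.Agent.H3.AlgStComp
  Groth.Agent.H3.AlgStProps Groth.Agent.H3.AlgStBridge2 Groth.Agent.H3.AlgStDiagProp
  Groth.Agent.H3.AlgSpCov Groth.Agent.H3.AlgStCharts Groth.Agent.H3.AlgStProd
  Groth.Agent.H3.AlgStDiag Groth.Agent.H3.AlgStProdMap Groth.Agent.H3.AlgStLES
  Groth.Agent.H3.AlgStDescent Groth.Agent.H3.AlgStCancel Groth.Agent.H3.AlgStDiagFacts
  Groth.Agent.H3.RepBridge Groth.Agent.H3.AlgStDiagLft Groth.Agent.H3.AlgStDiagRep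
  Groth.Agent.H3.AlgStDiagCancel Groth.Agent.H3.AlgStAlgebraic Groth.Agent.H3.StackMore
  Groth.Agent.H3.AlgStDiagEt Groth.Agent.H3.AlgStLocQ
open AlgSp

variable {S : Scheme.{u}}

section Inv

variable {𝒳 𝒴 𝒳' 𝒴' : AlgSt.Cat S} (f : 𝒳 ⥤ᵇ 𝒴) (f' : 𝒳' ⥤ᵇ 𝒴') (a : 𝒳' ⥤ᵇ 𝒳) (b : 𝒴' ⥤ᵇ 𝒴)
  (e : BasedFunctor.comp f' b ≅ BasedFunctor.comp a f)

lemma diagSq_iso (x : 𝒳'.obj) :
    ((fpMap a a b e e).obj ((FibCat.diag f').obj x)).obj.iso.hom = 𝟙 _ := by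
  rw [fpMap_obj_iso_hom]
  have h2 : b.map (𝟙 (f'.obj x)) = 𝟙 _ := b.toFunctor.map_id _
  show (sqIso e x).inv ≫ b.map (𝟙 (f'.obj x)) ≫ (sqIso e x).hom = 𝟙 _
  rw [h2, Category.id_comp, Iso.inv_hom_id]

lemma diagSq_w (x : 𝒳'.obj) :
    f.map (Iso.refl (a.obj x)).hom ≫ ((BasedFunctor.comp a (FibCat.diag f)).obj x).obj.iso.hom =
      ((BasedFunctor.comp (FibCat.diag f') (fpMap a a b e e)).obj x).obj.iso.hom ≫
        f.map (Iso.refl (a.obj x)).hom := by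
  have b1 : f.map (Iso.refl (a.obj x)).hom = 𝟙 _ := f.toFunctor.map_id _
  have b2 : ((BasedFunctor.comp a (FibCat.diag f)).obj x).obj.iso.hom = 𝟙 _ := rfl
  have b3 : ((BasedFunctor.comp (FibCat.diag f') (fpMap a a b e e)).obj x).obj.iso.hom = 𝟙 _ :=
    diagSq_iso f f' a b e x
  exact three_id _ _ _ b1 b2 b3

/-- the diagonal is compatible with a square of functors -/
def diagSqIso : BasedFunctor.comp (FibCat.diag f') (fpMap a a b e e) ≅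
    BasedFunctor.comp a (FibCat.diag f) :=
  BasedNatIso.mkNatIso
    (NatIso.ofComponents
      (fun x => fpIsoMk (X := (BasedFunctor.comp (FibCat.diag f') (fpMap a a b e e)).obj x)
        (Y := (BasedFunctor.comp a (FibCat.diag f)).obj x)
        (Iso.refl (a.obj x)) (Iso.refl (a.obj x)) (diagSq_w f f' a b e x))
      (by
        intro x x' φ
        apply fp_hom_ext
        · show a.map φ ≫ 𝟙 _ = 𝟙 _ ≫ a.map φ
          rw [Category.comp_id, Category.id_comp]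
        · show a.map φ ≫ 𝟙 _ = 𝟙 _ ≫ a.map φ
          rw [Category.comp_id, Category.id_comp]))
    (by
      intro x
      rw [fp_isHomLift_iff]
      show 𝒳.p.IsHomLift (𝟙 _) (𝟙 (a.obj x))
      exact IsHomLift.id (a.w_obj x))

include e in
/-- the diagonal of `f'` has `P` if `f'` is equivalent to `f` whose diagonal has `P` -/
theorem repByAlgSpWith_diag_of_square (P : MorphismProperty (Sp S))
    (ha : FibCat.IsEquivOver a) (hb : FibCat.IsEquivOver b)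
    (h : AlgSt.RepByAlgSpWith P (FibCat.diag f)) : AlgSt.RepByAlgSpWith P (FibCat.diag f') := by
  obtain ⟨⟨hb1, hb2⟩, _⟩ := (X5139 b).1 hb
  exact repByAlgSpWith_of_square P (FibCat.diag f) (FibCat.diag f') a (fpMap a a b e e) ha
    (isEquivOver_fpMap a a b e e ha ha) (diagSqIso f f' a b e) h

include e in
theorem repByAlgSpWith_diag_of_square' (P : MorphismProperty (Sp S))
    (ha : FibCat.IsEquivOver a) (hb : FibCat.IsEquivOver b)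
    (h : AlgSt.RepByAlgSpWith P (FibCat.diag f')) : AlgSt.RepByAlgSpWith P (FibCat.diag f) := by
  obtain ⟨⟨hb1, hb2⟩, _⟩ := (X5139 b).1 hb
  exact repByAlgSpWith_of_square' P (FibCat.diag f) (FibCat.diag f') a (fpMap a a b e e) ha
    (isEquivOver_fpMap a a b e e ha ha) (diagSqIso f f' a b e) h

end Inv

section Prod

variable {𝒜 ℬ 𝒞 𝒮 : AlgSt.Cat S}

/-- the diagonal of the base change `𝒞 ×_ℬ 𝒜 ⟶ 𝒜` of `a : 𝒞 ⟶ ℬ` -/
theorem repByAlgSpWith_diag_fpSnd (P : MorphismProperty (Sp S)) (a : 𝒞 ⥤ᵇ ℬ) (h : 𝒜 ⥤ᵇ ℬ)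
    (hd : AlgSt.RepByAlgSpWith P (FibCat.diag a)) :
    AlgSt.RepByAlgSpWith P (FibCat.diag (FibCat.fpSnd a h)) := by
  have h1 : AlgSt.RepByAlgSpWith P (FibCat.diag (FibCat.fpFst h a)) :=
    repByAlgSpWith_diag_fpFst P a h hd
  let e : BasedFunctor.comp (FibCat.fpSnd a h) (BasedFunctor.id 𝒜) ≅
      BasedFunctor.comp (fpSwap a h) (FibCat.fpFst h a) := Iso.refl _
  exact repByAlgSpWith_diag_of_square (FibCat.fpFst h a) (FibCat.fpSnd a h) (fpSwap a h)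
    (BasedFunctor.id 𝒜) e P (isEquivOver_fpSwap a h) isEquivOver_id h1

theorem diag_prodR (P : MorphismProperty (Sp S)) (s : 𝒜 ⥤ᵇ 𝒮) (t : ℬ ⥤ᵇ 𝒮) (b : 𝒞 ⥤ᵇ ℬ)
    (hb : AlgSt.RepByAlgSpWith P (FibCat.diag b)) :
    AlgSt.RepByAlgSpWith P (FibCat.diag (prodR s t b)) :=
  repByAlgSpWith_diag_of_square' (prodR s t b) (FibCat.fpFst (FibCat.fpSnd s t) b) (pasteR s t b)
    (BasedFunctor.id _) (prodRIso s t b) P (isEquivOver_pasteR s t b) isEquivOver_id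
    (repByAlgSpWith_diag_fpFst P b (FibCat.fpSnd s t) hb)

theorem diag_prodL (P : MorphismProperty (Sp S)) (s : 𝒜 ⥤ᵇ 𝒮) (t : ℬ ⥤ᵇ 𝒮) (a : 𝒞 ⥤ᵇ 𝒜)
    (ha : AlgSt.RepByAlgSpWith P (FibCat.diag a)) :
    AlgSt.RepByAlgSpWith P (FibCat.diag (prodL s t a)) :=
  repByAlgSpWith_diag_of_square' (prodL s t a) (FibCat.fpSnd a (FibCat.fpFst s t)) (pasteL a s t)
    (BasedFunctor.id _) (prodLIso s t a) P (isEquivOver_pasteL a s t) isEquivOver_id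
    (repByAlgSpWith_diag_fpSnd P a (FibCat.fpFst s t) ha)

end Prod

section Main

variable {𝒳₁ 𝒳₂ 𝒴₁ 𝒴₂ 𝒮 : AlgSt.Cat S}

/-- the diagonal of `f₁ ×_𝒮 f₂` has `P` if the diagonals of `f₁`, `f₂` do -/
theorem diag_prodMap (P : MorphismProperty (Sp S)) (hP : GoodC P)
    (h𝒳₁ : FibCat.IsFibGrpd 𝒳₁.p) (h𝒳₂ : FibCat.IsFibGrpd 𝒳₂.p)
    (h𝒴₂ : FibCat.IsFibGrpd 𝒴₂.p) (h𝒮 : FibCat.IsFibGrpd 𝒮.p)
    (f₁ : 𝒳₁ ⥤ᵇ 𝒴₁) (f₂ : 𝒳₂ ⥤ᵇ 𝒴₂) (t₁ : 𝒴₁ ⥤ᵇ 𝒮) (t₂ : 𝒴₂ ⥤ᵇ 𝒮)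
    (h1 : AlgSt.RepByAlgSpWith P (FibCat.diag f₁)) (h2 : AlgSt.RepByAlgSpWith P (FibCat.diag f₂)) :
    AlgSt.RepByAlgSpWith P (FibCat.diag (prodMap f₁ f₂ t₁ t₂)) := by
  rw [prodMap_eq]
  exact repByAlgSpWith_diag_comp_C P hP (X6401 _ _ h𝒳₁ h𝒳₂ h𝒮) (X6401 _ _ h𝒳₁ h𝒴₂ h𝒮) _ _
    (diag_prodR P (BasedFunctor.comp f₁ t₁) t₂ f₂ h2) (diag_prodL P t₁ t₂ f₁ h1)

theorem main17274 (P : MorphismProperty (Sp S)) (hP : GoodC P)
    (h𝒳₁ : FibCat.IsFibGrpd 𝒳₁.p) (h𝒳₂ : FibCat.IsFibGrpd 𝒳₂.p)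
    (h𝒴₂ : FibCat.IsFibGrpd 𝒴₂.p) (h𝒮 : FibCat.IsFibGrpd 𝒮.p)
    (f₁ : 𝒳₁ ⥤ᵇ 𝒴₁) (f₂ : 𝒳₂ ⥤ᵇ 𝒴₂) (t₁ : 𝒴₁ ⥤ᵇ 𝒮) (t₂ : 𝒴₂ ⥤ᵇ 𝒮)
    (e : BasedFunctor.comp (BasedFunctor.comp
        (FibCat.fpFst (BasedFunctor.comp f₁ t₁) (BasedFunctor.comp f₂ t₂)) f₁) t₁ ≅
      BasedFunctor.comp (BasedFunctor.comp
        (FibCat.fpSnd (BasedFunctor.comp f₁ t₁) (BasedFunctor.comp f₂ t₂)) f₂) t₂)
    (he : ∀ x, e.hom.toNatTrans.app x = x.obj.iso.hom)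
    (h1 : AlgSt.RepByAlgSpWith P (FibCat.diag f₁)) (h2 : AlgSt.RepByAlgSpWith P (FibCat.diag f₂)) :
    AlgSt.RepByAlgSpWith P (FibCat.diag
      (FibCat.fpLift (BasedFunctor.comp
          (FibCat.fpFst (BasedFunctor.comp f₁ t₁) (BasedFunctor.comp f₂ t₂)) f₁)
        (BasedFunctor.comp (FibCat.fpSnd (BasedFunctor.comp f₁ t₁) (BasedFunctor.comp f₂ t₂)) f₂)
        e)) := by
  have he' : e = FibCat.fpIso (BasedFunctor.comp f₁ t₁) (BasedFunctor.comp f₂ t₂) := by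
    apply Iso.ext
    apply BasedNatTrans.ext
    apply NatTrans.ext
    funext x
    exact he x
  subst he'
  exact diag_prodMap P hP h𝒳₁ h𝒳₂ h𝒴₂ h𝒮 f₁ f₂ t₁ t₂ h1 h2

end Main

end Groth.Agent.H3.AlgStDiagProdMap
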