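import Mathlib

set_option autoImplicit false
universe u
open CategoryTheory CategoryTheory.Limits AlgebraicGeometry IsLocalRing

noncomputable section

namespace Groth.Agent.H3.ValLift

/-- a specialization `w₁ ⤳ w₀` in a scheme is realised by a valuation ring of the residue field
of `w₁` -/
theorem exists_valuationSubring_of_specializes {W : Scheme.{u}} {w₁ w₀ : W} (hspec : w₁ ⤳ w₀) :
    ∃ (A' : ValuationSubring (W.residueField w₁)) (s : Spec (CommRingCat.of A') ⟶ W),
      s (closedPoint A') = w₀ ∧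
      Spec.map (CommRingCat.ofHom (algebraMap A' (W.residueField w₁))) ≫ s =
        W.fromSpecResidueField w₁ := by
  let ψ : W.presheaf.stalk w₀ ⟶ W.residueField w₁ :=
    W.presheaf.stalkSpecializes hspec ≫ W.residue w₁
  obtain ⟨A', hA', hloc⟩ := exists_factor_valuationRing ψ.hom
  let ψ' : W.presheaf.stalk w₀ ⟶ .of A' := CommRingCat.ofHom (ψ.hom.codRestrict _ hA')
  refine ⟨A', Spec.map ψ' ≫ W.fromSpecStalk w₀, ?_, ?_⟩
  · have : Spec.map ψ' (closedPoint A') = closedPoint (W.presheaf.stalk w₀) :=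
      comap_closedPoint (S := A') (ψ.hom.codRestrict A'.toSubring hA')
    rw [Scheme.Hom.comp_apply, this, Scheme.fromSpecStalk_closedPoint]
  · rw [Scheme.fromSpecResidueField, ← Scheme.SpecMap_stalkSpecializes_fromSpecStalk hspec]
    simp_rw [← Spec.map_comp_assoc]
    rfl

/-- the image of the spectrum of a field in the spectrum of a subring is the generic point -/
lemma specMap_algebraMap_field {K : Type u} [Field K] (A' : ValuationSubring K)
    (x : Spec (CommRingCat.of K)) :
    Spec.map (CommRingCat.ofHom (algebraMap A' K)) x = (⟨⊥, Ideal.isPrime_bot⟩ : PrimeSpectrum A') := by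
  rw [Spec.map_apply]
  apply PrimeSpectrum.ext
  change Ideal.comap (algebraMap A' K) x.asIdeal = ⊥
  have hx : x.asIdeal = ⊥ := by
    have := x.isPrime
    exact (Ideal.eq_bot_or_top x.asIdeal).resolve_right this.ne_top
  rw [hx, ← RingHom.ker_eq_comap_bot]
  exact (RingHom.injective_iff_ker_eq_bot _).mp (FaithfulSMul.algebraMap_injective A' K)

/-- **Lifting along a flat morphism**: if `h : W ⟶ Spec A` is flat, `A` a valuation ring, and the
closed point is in the image, there are an extension of valuation rings `A → A'` and a lift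
`Spec A' ⟶ W`. -/
theorem exists_valuationRing_lift_of_flat {A : Type u} [CommRing A] [IsDomain A] [ValuationRing A]
    {W : Scheme.{u}} (h : W ⟶ Spec (CommRingCat.of A)) [Flat h] (w₀ : W)
    (hw₀ : h w₀ = closedPoint A) :
    ∃ (A' : Type u) (_ : CommRing A') (_ : IsDomain A') (_ : ValuationRing A') (φ : A →+* A')
      (s : Spec (CommRingCat.of A') ⟶ W),
      Function.Injective φ ∧ IsLocalHom φ ∧ s ≫ h = Spec.map (CommRingCat.ofHom φ) := by
  obtain ⟨η, hηd⟩ : ∃ η : Spec (CommRingCat.of A), η = (⟨⊥, Ideal.isPrime_bot⟩ : PrimeSpectrum A) :=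
    ⟨_, rfl⟩
  have hη : η ⤳ h w₀ := by rw [hw₀]; exact specializes_closedPoint η
  obtain ⟨w₁, hspec, hw₁⟩ := (Flat.generalizingMap h) hη
  obtain ⟨A', s, hs₀, hs₁⟩ := exists_valuationSubring_of_specializes hspec
  obtain ⟨φ', hφ'⟩ : ∃ φ' : CommRingCat.of A ⟶ CommRingCat.of A', Spec.map φ' = s ≫ h :=
    ⟨Spec.preimage (s ≫ h), Spec.map_preimage _⟩
  refine ⟨A', inferInstance, inferInstance, inferInstance, φ'.hom, s, ?_, ?_, hφ'.symm⟩
  · have h1 : s (⟨⊥, Ideal.isPrime_bot⟩ : PrimeSpectrum A') = w₁ := by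
      rw [← specMap_algebraMap_field A' (closedPoint (W.residueField w₁)), ← Scheme.Hom.comp_apply,
        hs₁, Scheme.fromSpecResidueField_apply]
    have h2 : Spec.map φ' (⟨⊥, Ideal.isPrime_bot⟩ : PrimeSpectrum A') = η := by
      rw [hφ', Scheme.Hom.comp_apply, h1, hw₁]
    rw [Spec.map_apply, hηd] at h2
    have h3 := congrArg PrimeSpectrum.asIdeal h2
    change Ideal.comap φ'.hom ⊥ = ⊥ at h3
    rw [← RingHom.ker_eq_comap_bot] at h3
    exact (RingHom.injective_iff_ker_eq_bot _).mpr h3
  · rw [isLocalHom_iff_comap_closedPoint]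
    have : Spec.map φ' (closedPoint A') = closedPoint A := by
      rw [hφ', Scheme.Hom.comp_apply, hs₀, hw₀]
    exact this

/-- a specialization `f x ⤳ y` is realised by a valuation ring of the residue field of `x` -/
theorem exists_valuationSubring_of_map_specializes {X Y : Scheme.{u}} (f : X ⟶ Y) {x : X} {y : Y}
    (hspec : f x ⤳ y) :
    ∃ (A : ValuationSubring (X.residueField x)) (s : Spec (CommRingCat.of A) ⟶ Y),
      s (closedPoint A) = y ∧
      Spec.map (CommRingCat.ofHom (algebraMap A (X.residueField x))) ≫ s =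
        X.fromSpecResidueField x ≫ f := by
  let ψ : Y.presheaf.stalk y ⟶ X.residueField x :=
    Y.presheaf.stalkSpecializes hspec ≫ f.stalkMap x ≫ X.residue x
  obtain ⟨A, hA, hloc⟩ := exists_factor_valuationRing ψ.hom
  let ψ' : Y.presheaf.stalk y ⟶ .of A := CommRingCat.ofHom (ψ.hom.codRestrict _ hA)
  refine ⟨A, Spec.map ψ' ≫ Y.fromSpecStalk y, ?_, ?_⟩
  · have : Spec.map ψ' (closedPoint A) = closedPoint (Y.presheaf.stalk y) :=
      comap_closedPoint (S := A) (ψ.hom.codRestrict A.toSubring hA)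
    rw [Scheme.Hom.comp_apply, this, Scheme.fromSpecStalk_closedPoint]
  · rw [Scheme.fromSpecResidueField, Category.assoc, ← Scheme.SpecMap_stalkMap_fromSpecStalk,
      ← Scheme.SpecMap_stalkSpecializes_fromSpecStalk hspec]
    simp_rw [← Spec.map_comp_assoc]
    rfl

/-- a point in the closure of the image of a morphism of affine schemes is a specialization of a
point of the image -/
theorem exists_specializes_of_mem_closure_range {R B : CommRingCat.{u}} (φ : R ⟶ B) (v : Spec R)
    (hv : v ∈ closure (Set.range (Spec.map φ))) : ∃ w : Spec B, Spec.map φ w ⤳ v := by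
  have h1 : closure (Set.range (Spec.map φ)) = PrimeSpectrum.zeroLocus (RingHom.ker φ.hom) :=
    PrimeSpectrum.closure_range_comap φ.hom
  rw [h1] at hv
  have hx : RingHom.ker φ.hom ≤ v.asIdeal := hv
  obtain ⟨q, hq₁, hq₂⟩ := Ideal.exists_minimalPrimes_le hx
  obtain ⟨p', hp', -, hp'q⟩ := Ideal.exists_comap_eq_of_mem_minimalPrimes φ.hom (I := ⊥) q hq₁
  refine ⟨⟨p', hp'⟩, ?_⟩
  rw [Spec.map_apply]
  apply (PrimeSpectrum.le_iff_specializes _ v).mp
  change Ideal.comap φ.hom p' ≤ v.asIdeal
  rw [hp'q]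
  exact hq₂

/-- the same for a morphism of affine schemes -/
theorem exists_specializes_of_mem_closure_range_of_isAffine {W V : Scheme.{u}} [IsAffine W]
    [IsAffine V] (h : W ⟶ V) (v : V) (hv : v ∈ closure (Set.range h)) : ∃ w : W, h w ⤳ v := by
  have nat := Scheme.isoSpec_hom_naturality h
  have hv₁ : V.isoSpec.hom v ∈ closure (Set.range (Spec.map h.appTop)) := by
    have h1 : V.isoSpec.hom v ∈ V.isoSpec.hom '' closure (Set.range h) := ⟨v, hv, rfl⟩
    have h2 := image_closure_subset_closure_image (V.isoSpec.hom.continuous) h1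
    refine closure_mono ?_ h2
    rintro _ ⟨_, ⟨w, rfl⟩, rfl⟩
    refine ⟨W.isoSpec.hom w, ?_⟩
    rw [← Scheme.Hom.comp_apply, nat, Scheme.Hom.comp_apply]
  obtain ⟨w₁, hw₁⟩ := exists_specializes_of_mem_closure_range h.appTop _ hv₁
  refine ⟨W.isoSpec.inv w₁, ?_⟩
  have h3 := hw₁.map V.isoSpec.inv.continuous
  have e1 : V.isoSpec.inv (V.isoSpec.hom v) = v := by
    rw [← Scheme.Hom.comp_apply, Iso.hom_inv_id]; rfl
  have e2 : V.isoSpec.inv (Spec.map h.appTop w₁) = h (W.isoSpec.inv w₁) := by
    rw [← Scheme.Hom.comp_apply, ← Scheme.Hom.comp_apply, ← Scheme.isoSpec_inv_naturality]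
  rw [e1, e2] at h3
  exact h3

end Groth.Agent.H3.ValLift
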