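import Mathlib
import Groth.Agent.Lib.Helper3.AlgSt.ValLift
import Groth.Agent.Lib.Helper3.AlgSt.OpenSub6
import Groth.Agent.Lib.Helper3.AlgSt.OpenSub5
import Groth.Agent.Lib.Helper3.AlgSt.LocQ13

set_option autoImplicit false
universe w u
open CategoryTheory CategoryTheory.Functor CategoryTheory.Limits Opposite AlgebraicGeometry

noncomputable section

namespace Groth.Agent.H3.ValLift

open Groth.Agent.H3.FibCatAux Groth.Agent.H3.GerbAux Groth.Agent.H3.FpCalc Groth.Agent.H3.TwoCart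
  Groth.Agent.H3.StackPsh Groth.Agent.H3.PshBridge Groth.Agent.H3.AlgStAux Groth.Agent.H3.RepBridge
  Groth.Agent.H3.SetoidPsh Groth.Agent.H3.BaseChangeSp Groth.Agent.H3.AlgStComp
  Groth.Agent.H3.AlgStProps Groth.Agent.H3.AlgStBridge2 Groth.Agent.H3.AlgStCharts
  Groth.Agent.H3.AlgStDescent Groth.Agent.H3.Whisker Groth.Agent.H3.AlgStLES
  Groth.Agent.H3.FPtRel Groth.Agent.H3.AlgStStackRep Groth.Agent.H3.TwoYoneda
  Groth.Agent.H3.AlgStPoints Groth.Agent.H3.AlgStAlgebraic Groth.Agent.H3.AlgStQCMor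
  Groth.Agent.H3.AlgStSmoothLoc Groth.Agent.H3.SmSrc Groth.Agent.H3.AlgStLocQ
  Groth.Agent.H3.AlgStAffine Groth.Agent.H3.OpenSub

variable {S : Scheme.{u}} {𝒳 𝒴 𝒵 : AlgSt.Cat S}

/-- a flat chart of the base change of a flat 1-morphism to a scheme, through a given point of
the scheme in the image -/
theorem exists_flat_chart_through (h𝒳 : AlgSt.IsAlgStack Scheme.fppfPrecoverage 𝒳)
    (h𝒴 : AlgSt.IsAlgStack Scheme.fppfPrecoverage 𝒴) (f : 𝒳 ⥤ᵇ 𝒴)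
    (hf : AlgSt.LocQ (AlgSp.LocP @Flat) f) (T : Over S) (a : FibCat.overCat T ⥤ᵇ 𝒴) (m : T.left)
    (ha : AlgSt.Points.ofChart a m ∈ Set.range (AlgSt.Points.map f)) :
    ∃ (W : Over S) (h : W ⟶ T) (x : FibCat.overCat W ⥤ᵇ 𝒳) (w₀ : W.left), Flat h.left ∧
      h.left w₀ = m ∧
      Nonempty (BasedFunctor.comp x f ≅ BasedFunctor.comp (AlgSt.overMap h) a) := by
  have hTs := isAlgStack_overCat T
  have hTg := isFibGrpd_overCat T
  have h𝒲 : AlgSt.IsAlgStack Scheme.fppfPrecoverage (FibCat.fp a f) :=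
    isAlgStack_fp h𝒴.isStack h𝒴.diag hTs h𝒳 a f
  have hφ : AlgSt.LocQ (AlgSp.LocP @Flat) (FibCat.fpFst a f) :=
    locQ_fpFst isSmoothLocalST_flat good_flat.bc h𝒳 h𝒴 hTs f a hf
  obtain ⟨W, c, hc₁, hc₂⟩ := h𝒲.atlas
  obtain ⟨h, ⟨ιh⟩⟩ := exists_overMap_iso (BasedFunctor.comp c (FibCat.fpFst a f))
  have hflat : AlgSp.LocP @Flat ((AlgSp.yon S).map h) :=
    prop_of_locQ_base isSmoothLocalST_flat h𝒲 (FibCat.fpFst a f) hφ c hc₁ h ιh
  rw [Groth.Agent.H5.AlgSp.locP_yon_map_iff Groth.Agent.H5.AlgSp.etale_le_flat] at hflat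
  obtain ⟨ξ, hξ⟩ := ha
  obtain ⟨w, hw, -⟩ := exists_point_fp h𝒳.isStack.1 h𝒴.isStack.1 hTg f a (chartPt T m) ξ hξ.symm
  obtain ⟨w₀, rfl⟩ := ofChart_surjective h𝒲.isStack.1 c hc₂ w
  have h1 : AlgSt.Points.ofChart (BasedFunctor.comp c (FibCat.fpFst a f)) w₀ = chartPt T m := hw
  rw [ofChart_congr ιh, ofChart_eq_map, chartPt_overMap] at h1
  refine ⟨W, h, BasedFunctor.comp c (FibCat.fpSnd a f), w₀, hflat, chartPt_injective T h1, ⟨?_⟩⟩
  exact whiskerL c (FibCat.fpIso a f).symm ≪≫ whiskerR ιh a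

/-- **S13035** -/
theorem exists_valuationRing_lift (h𝒳 : AlgSt.IsAlgStack Scheme.fppfPrecoverage 𝒳)
    (h𝒴 : AlgSt.IsAlgStack Scheme.fppfPrecoverage 𝒴) (f : 𝒳 ⥤ᵇ 𝒴)
    (hf : AlgSt.LocQ (AlgSp.LocP @Flat) f)
    (A : Type u) [CommRing A] [IsDomain A] [ValuationRing A] (sA : Spec (CommRingCat.of A) ⟶ S)
    (a : FibCat.overCat (Over.mk sA) ⥤ᵇ 𝒴)
    (ha : AlgSt.Points.ofChart a (IsLocalRing.closedPoint A) ∈ Set.range (AlgSt.Points.map f)) :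
    ∃ (A' : Type u) (_ : CommRing A') (_ : IsDomain A') (_ : ValuationRing A') (φ : A →+* A'),
      Function.Injective φ ∧ IsLocalHom φ ∧
      ∃ x : FibCat.overCat (Over.mk (Spec.map (CommRingCat.ofHom φ) ≫ sA)) ⥤ᵇ 𝒳,
        Nonempty (BasedFunctor.comp x f ≅
          BasedFunctor.comp (AlgSt.overMap (Over.homMk (Spec.map (CommRingCat.ofHom φ)) rfl :
            Over.mk (Spec.map (CommRingCat.ofHom φ) ≫ sA) ⟶ Over.mk sA)) a) := by
  obtain ⟨W, h, x, w₀, hflat, hw₀, ⟨ι⟩⟩ :=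
    exists_flat_chart_through h𝒳 h𝒴 f hf (Over.mk sA) a (IsLocalRing.closedPoint A) ha
  have : Flat (h.left : W.left ⟶ Spec (CommRingCat.of A)) := hflat
  obtain ⟨A', i1, i2, i3, φ, s, hinj, hloc, hs⟩ :=
    exists_valuationRing_lift_of_flat (h.left : W.left ⟶ Spec (CommRingCat.of A)) w₀ hw₀
  refine ⟨A', i1, i2, i3, φ, hinj, hloc, ?_⟩
  have hsW : s ≫ W.hom = Spec.map (CommRingCat.ofHom φ) ≫ sA := by
    rw [← hs, Category.assoc]
    congr 1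
    exact (Over.w h).symm
  let s' : Over.mk (Spec.map (CommRingCat.ofHom φ) ≫ sA) ⟶ W := Over.homMk s hsW
  have hk : s' ≫ h = (Over.homMk (Spec.map (CommRingCat.ofHom φ)) rfl :
      Over.mk (Spec.map (CommRingCat.ofHom φ) ≫ sA) ⟶ Over.mk sA) := by
    apply Over.OverMorphism.ext
    exact hs
  obtain ⟨κ⟩ := overMapComp s' h
  refine ⟨BasedFunctor.comp (AlgSt.overMap s') x, ⟨?_⟩⟩
  exact whiskerL (AlgSt.overMap s') ι ≪≫ whiskerR κ a ≪≫ eqToIso (by rw [hk])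

/-- **S13036** -/
theorem exists_valuationRing_witness (h𝒳 : AlgSt.IsAlgStack Scheme.fppfPrecoverage 𝒳)
    (h𝒴 : AlgSt.IsAlgStack Scheme.fppfPrecoverage 𝒴) (f : 𝒳 ⥤ᵇ 𝒴)
    (hf : AlgSt.IsQuasiCompactMor Scheme.fppfPrecoverage f) (y : AlgSt.Points 𝒴)
    (hy : y ∈ closure (Set.range (AlgSt.Points.map f))) :
    ∃ (A : Type u) (_ : CommRing A) (_ : IsDomain A) (_ : ValuationRing A)
      (sA : Spec (CommRingCat.of A) ⟶ S) (a : FibCat.overCat (Over.mk sA) ⥤ᵇ 𝒴)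
      (x : FibCat.overCat (Over.mk (Spec.map (CommRingCat.ofHom
        (algebraMap A (FractionRing A))) ≫ sA)) ⥤ᵇ 𝒳),
      Nonempty (BasedFunctor.comp x f ≅
        BasedFunctor.comp (AlgSt.overMap (Over.homMk (Spec.map (CommRingCat.ofHom
          (algebraMap A (FractionRing A)))) rfl :
          Over.mk (Spec.map (CommRingCat.ofHom (algebraMap A (FractionRing A))) ≫ sA) ⟶
            Over.mk sA)) a) ∧
      AlgSt.Points.ofChart a (IsLocalRing.closedPoint A) = y := by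
  have h𝒴g := h𝒴.isStack.1
  have h𝒳g := h𝒳.isStack.1
  obtain ⟨V₀, y₀, hy₀₁, hy₀₂⟩ := h𝒴.atlas
  obtain ⟨v₀, hv₀⟩ := ofChart_surjective h𝒴g y₀ hy₀₂ y
  obtain ⟨_, ⟨U, hU, rfl⟩, hvU, -⟩ := V₀.left.isBasis_affineOpens.exists_subset_of_mem_open
    (Set.mem_univ v₀) isOpen_univ
  have hVaff : IsAffine (opensOver V₀ U).left := hU
  have hVg := isFibGrpd_overCat (opensOver V₀ U)
  obtain ⟨y₁, hy₁d⟩ : ∃ y₁ : FibCat.overCat (opensOver V₀ U) ⥤ᵇ 𝒴,
      y₁ = BasedFunctor.comp (AlgSt.overMap (opensOverι V₀ U)) y₀ := ⟨_, rfl⟩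
  have hy₁s : AlgSt.RepByAlgSpWith (AlgSp.LocP @Smooth) y₁ := by
    rw [hy₁d]; exact rep_smooth_overMap_opens U y₀ hy₀₁
  have hy₁fl : AlgSt.RepByAlgSpWith (AlgSp.LocP @Flat) y₁ :=
    AlgStDiagLft.repByAlgSpWith_mono (AlgStDiagLft.locP_mono AlgStDiagLft.smooth_le_flat) hy₁s
  have hy₁fp : AlgSt.RepByAlgSpWith (AlgSp.LocP @LocallyOfFinitePresentation) y₁ :=
    AlgStDiagLft.repByAlgSpWith_mono (AlgStDiagLft.locP_mono AlgStDiagLft.smooth_le_lfp) hy₁s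
  have hopen := isOpenMap_ofChart h𝒴g (opensOver V₀ U) y₁ hy₁fl hy₁fp
  obtain ⟨v, hvd⟩ : ∃ v : (opensOver V₀ U).left, v = (⟨v₀, hvU⟩ : U) := ⟨_, rfl⟩
  have hv : AlgSt.Points.ofChart y₁ v = y := by
    rw [hy₁d, ofChart_overMap, hvd]; exact hv₀
  have hVqc : AlgSt.IsQuasiCompact (FibCat.overCat (opensOver V₀ U)) :=
    isQuasiCompact_overCat (opensOver V₀ U)
  obtain ⟨W, c, hWaff, hc₁, hc₂⟩ :=
    hf (FibCat.overCat (opensOver V₀ U)) (isAlgStack_overCat _) hVqc y₁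
  have h𝒲 : AlgSt.IsAlgStack Scheme.fppfPrecoverage (FibCat.fp y₁ f) :=
    isAlgStack_fp h𝒴.isStack h𝒴.diag (isAlgStack_overCat _) h𝒳 y₁ f
  obtain ⟨h, ⟨ιh⟩⟩ := exists_overMap_iso (BasedFunctor.comp c (FibCat.fpFst y₁ f))
  have hcl : v ∈ closure (Set.range h.left) := by
    rw [mem_closure_iff]
    intro N hN hvN
    have h1 : y ∈ AlgSt.Points.ofChart y₁ '' N := ⟨v, hvN, hv⟩
    obtain ⟨_, ⟨n, hnN, rfl⟩, ⟨ξ, hξ⟩⟩ := (mem_closure_iff.mp hy) _ (hopen N hN) h1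
    obtain ⟨p, hp, -⟩ := exists_point_fp h𝒳g h𝒴g hVg f y₁ (chartPt _ n) ξ hξ.symm
    obtain ⟨w₀, rfl⟩ := ofChart_surjective h𝒲.isStack.1 c hc₂ p
    have h2 : AlgSt.Points.ofChart (BasedFunctor.comp c (FibCat.fpFst y₁ f)) w₀ = chartPt _ n := hp
    rw [ofChart_congr ιh, ofChart_eq_map, chartPt_overMap] at h2
    exact ⟨n, hnN, w₀, chartPt_injective _ h2⟩
  obtain ⟨w, hw⟩ := exists_specializes_of_mem_closure_range_of_isAffine h.left v hcl
  obtain ⟨A, s, hs₀, hs₁⟩ := exists_valuationSubring_of_map_specializes h.left hw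
  obtain ⟨sA, hsAd⟩ : ∃ sA : Spec (CommRingCat.of A) ⟶ S, sA = s ≫ (opensOver V₀ U).hom :=
    ⟨_, rfl⟩
  let s' : Over.mk sA ⟶ opensOver V₀ U := Over.homMk s hsAd.symm
  let e : FractionRing A ≃ₐ[A] W.left.residueField w := FractionRing.algEquiv A _
  let ρ : Spec (CommRingCat.of (FractionRing A)) ⟶ Spec (CommRingCat.of (W.left.residueField w)) :=
    Spec.map (CommRingCat.ofHom (e.symm : W.left.residueField w →+* FractionRing A))
  have hρ : ρ ≫ Spec.map (CommRingCat.ofHom (algebraMap A (W.left.residueField w))) =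
      Spec.map (CommRingCat.ofHom (algebraMap A (FractionRing A))) := by
    rw [← Spec.map_comp]
    congr 1
    ext t
    exact e.symm.commutes t
  obtain ⟨r₀, hr₀d⟩ : ∃ r₀ : Spec (CommRingCat.of (FractionRing A)) ⟶ W.left,
      r₀ = ρ ≫ W.left.fromSpecResidueField w := ⟨_, rfl⟩
  have hr : r₀ ≫ h.left = Spec.map (CommRingCat.ofHom (algebraMap A (FractionRing A))) ≫ s := by
    rw [hr₀d, Category.assoc, ← hs₁, ← Category.assoc, hρ]
  have hrW : r₀ ≫ W.hom = Spec.map (CommRingCat.ofHom (algebraMap A (FractionRing A))) ≫ sA := by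
    rw [← Over.w h, ← Category.assoc, hr, Category.assoc, hsAd]
  let r : Over.mk (Spec.map (CommRingCat.ofHom (algebraMap A (FractionRing A))) ≫ sA) ⟶ W :=
    Over.homMk r₀ hrW
  let k : Over.mk (Spec.map (CommRingCat.ofHom (algebraMap A (FractionRing A))) ≫ sA) ⟶
      Over.mk sA := Over.homMk (Spec.map (CommRingCat.ofHom (algebraMap A (FractionRing A)))) rfl
  have hrk : r ≫ h = k ≫ s' := by
    apply Over.OverMorphism.ext
    exact hr
  obtain ⟨κ₁⟩ := overMapComp r h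
  obtain ⟨κ₂⟩ := overMapComp k s'
  refine ⟨A, inferInstance, inferInstance, inferInstance, sA,
    BasedFunctor.comp (AlgSt.overMap s') y₁,
    BasedFunctor.comp (AlgSt.overMap r) (BasedFunctor.comp c (FibCat.fpSnd y₁ f)), ⟨?_⟩, ?_⟩
  · exact whiskerL (AlgSt.overMap r) (whiskerL c (FibCat.fpIso y₁ f).symm ≪≫ whiskerR ιh y₁) ≪≫
      whiskerR κ₁ y₁ ≪≫ eqToIso (by rw [hrk]) ≪≫ (whiskerR κ₂ y₁).symm
  · rw [ofChart_overMap]
    change AlgSt.Points.ofChart y₁ (s (IsLocalRing.closedPoint A)) = y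
    rw [hs₀, hv]

end Groth.Agent.H3.ValLift
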