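import Mathlib
import Groth.Agent.Lib.Helper3.AlgSt.ValLift2
import Groth.Agent.Lib.Helper3.AlgSt.DiagLft
import Groth.Agent.Lib.Helper5.AlgSp.KPoints

set_option autoImplicit false
universe w u
open CategoryTheory CategoryTheory.Functor CategoryTheory.Limits Opposite AlgebraicGeometry

noncomputable section

namespace Groth.Agent.H3.DiagSurj

open Groth.Agent.H3.FibCatAux Groth.Agent.H3.GerbAux Groth.Agent.H3.FpCalc Groth.Agent.H3.TwoCart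
  Groth.Agent.H3.StackPsh Groth.Agent.H3.PshBridge Groth.Agent.H3.AlgStAux Groth.Agent.H3.RepBridge
  Groth.Agent.H3.SetoidPsh Groth.Agent.H3.BaseChangeSp Groth.Agent.H3.AlgStComp
  Groth.Agent.H3.AlgStProps Groth.Agent.H3.AlgStBridge2 Groth.Agent.H3.AlgStCharts
  Groth.Agent.H3.AlgStDescent Groth.Agent.H3.Whisker Groth.Agent.H3.AlgStLES
  Groth.Agent.H3.FPtRel Groth.Agent.H3.AlgStStackRep Groth.Agent.H3.TwoYoneda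
  Groth.Agent.H3.AlgStPoints Groth.Agent.H3.AlgStAlgebraic Groth.Agent.H3.AlgStQCMor
  Groth.Agent.H3.AlgStSmoothLoc Groth.Agent.H3.SmSrc Groth.Agent.H3.AlgStLocQ
  Groth.Agent.H3.AlgStAffine Groth.Agent.H3.OpenSub Groth.Agent.H3.FibCatYoneda
  Groth.Agent.H3.StackDescent

variable {S : Scheme.{u}} {𝒳 𝒴 𝒵 : AlgSt.Cat S}

/-- `(Sch/U) ⟶ (Sch/U)` of the identity is the identity -/
theorem overMapId (U : Over S) :
    Nonempty (AlgSt.overMap (𝟙 U) ≅ BasedFunctor.id (FibCat.overCat U)) := by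
  apply iso_of_fiberwise_iso (isFibSetoid_overCat U)
  intro x
  have hx : (AlgSt.overMap (𝟙 U)).obj x = (BasedFunctor.id (FibCat.overCat U)).obj x := by
    show (Over.map (𝟙 U)).obj x = x
    rw [Over.mapId_eq]
    rfl
  exact ⟨eqToIso hx, IsHomLift.eqToHom_domain_lift_id hx ((AlgSt.overMap (𝟙 U)).w_obj x)⟩

/-- a nonempty algebraic stack locally of finite type over an algebraically closed field has a
rational point -/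
theorem exists_section_of_locQ_lft {𝒲 : AlgSt.Cat S}
    (h𝒲 : AlgSt.IsAlgStack Scheme.fppfPrecoverage 𝒲) {k : Type u} [Field k] [IsAlgClosed k]
    (s : Spec (CommRingCat.of k) ⟶ S) (φ : 𝒲 ⥤ᵇ FibCat.overCat (Over.mk s))
    (hφ : AlgSt.LocQ (AlgSp.LocP @LocallyOfFiniteType) φ) (hne : Nonempty (AlgSt.Points 𝒲)) :
    ∃ x : FibCat.overCat (Over.mk s) ⥤ᵇ 𝒲,
      Nonempty (BasedFunctor.comp x φ ≅ BasedFunctor.id _) := by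
  obtain ⟨W, c, hc₁, hc₂⟩ := h𝒲.atlas
  obtain ⟨h, ⟨ιh⟩⟩ := exists_overMap_iso (BasedFunctor.comp c φ)
  have hlft : AlgSp.LocP @LocallyOfFiniteType ((AlgSp.yon S).map h) :=
    prop_of_locQ_base isSmoothLocalST_lft h𝒲 φ hφ c hc₁ h ιh
  rw [Groth.Agent.H5.AlgSp.locP_yon_map_iff Groth.Agent.H5.AlgSp.etale_le_lft] at hlft
  obtain ⟨p₀⟩ := hne
  obtain ⟨w₀, -⟩ := ofChart_surjective h𝒲.isStack.1 c hc₂ p₀
  have : Nonempty ↥W.left := ⟨w₀⟩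
  have : LocallyOfFiniteType (h.left : W.left ⟶ Spec (CommRingCat.of k)) := hlft
  obtain ⟨p, hp⟩ := Groth.Agent.H5.AlgSp.exists_section_of_nonempty (K := k) (U := W.left)
    (h.left : W.left ⟶ Spec (CommRingCat.of k))
  have hw : p ≫ W.hom = s := by
    have := Over.w h
    change h.left ≫ s = W.hom at this
    rw [← this, ← Category.assoc, hp, Category.id_comp]
  let p' : Over.mk s ⟶ W := Over.homMk p hw
  have hp' : p' ≫ h = 𝟙 _ := by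
    apply Over.OverMorphism.ext
    exact hp
  obtain ⟨κ⟩ := overMapComp p' h
  obtain ⟨κ'⟩ := overMapId (Over.mk s)
  refine ⟨BasedFunctor.comp (AlgSt.overMap p') c, ⟨?_⟩⟩
  exact whiskerL (AlgSt.overMap p') ιh ≪≫ κ ≪≫ eqToIso (by rw [hp']) ≪≫ κ'

/-- from a pair of morphisms `b ⟶ a₁`, `b ⟶ a₂` compatible with `β`, a lift of `β` -/
theorem exists_alpha_of_pair (f : 𝒳 ⥤ᵇ 𝒴) {T : Over S} (a₁ a₂ : 𝒳.obj)
    (h₁ : 𝒳.p.obj a₁ = T) (β : f.obj a₁ ⟶ f.obj a₂) (hβ : 𝒴.p.IsHomLift (𝟙 T) β)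
    (b : 𝒳.obj) (m₁ : b ⟶ a₁) (m₂ : b ⟶ a₂) (hm₁ : IsIso m₁) (w : f.map m₁ ≫ β = f.map m₂) :
    ∃ α : a₁ ⟶ a₂, 𝒳.p.IsHomLift (𝟙 T) α ∧ f.map α = β := by
  subst h₁
  refine ⟨inv m₁ ≫ m₂, ?_, ?_⟩
  · have i1 : 𝒳.p.IsHomLift (𝒳.p.map m₁) m₁ := IsHomLift.map 𝒳.p m₁
    have i2 : 𝒴.p.IsHomLift (𝒳.p.map m₁) (f.map m₁) := inferInstance
    have i3 : 𝒴.p.IsHomLift (𝒳.p.map m₁ ≫ 𝟙 _) (f.map m₁ ≫ β) := inferInstance
    rw [w, Category.comp_id] at i3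
    have i4 : 𝒳.p.IsHomLift (𝒳.p.map m₁) m₂ := BasedFunctor.isHomLift_map f (𝒳.p.map m₁) m₂
    have i5 : IsIso (𝒳.p.map m₁) := inferInstance
    have i6 : 𝒳.p.IsHomLift (inv (𝒳.p.map m₁)) (inv m₁) := inferInstance
    have i7 : 𝒳.p.IsHomLift (inv (𝒳.p.map m₁) ≫ 𝒳.p.map m₁) (inv m₁ ≫ m₂) := inferInstance
    rw [IsIso.inv_hom_id] at i7
    exact i7
  · rw [f.toFunctor.map_comp, ← w, ← Category.assoc, ← f.toFunctor.map_comp, IsIso.inv_hom_id,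
      f.toFunctor.map_id, Category.id_comp]

/-- **S12832, (2) ⇒ (3)** -/
theorem lift_of_isSurjective_diag (h𝒳 : AlgSt.IsAlgStack Scheme.fppfPrecoverage 𝒳)
    (h𝒴 : AlgSt.IsAlgStack Scheme.fppfPrecoverage 𝒴) (f : 𝒳 ⥤ᵇ 𝒴)
    (hΔ : AlgSt.IsSurjective (FibCat.diag f))
    (k : Type u) [Field k] [IsAlgClosed k] (s : Spec (CommRingCat.of k) ⟶ S) (a₁ a₂ : 𝒳.obj)
    (h₁ : 𝒳.p.obj a₁ = Over.mk s) (β : f.obj a₁ ⟶ f.obj a₂)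
    (hβ : 𝒴.p.IsHomLift (𝟙 (Over.mk s)) β) :
    ∃ α : a₁ ⟶ a₂, 𝒳.p.IsHomLift (𝟙 (Over.mk s)) α ∧ f.map α = β := by
  have h𝒳g := h𝒳.isStack.1
  have h𝒴g := h𝒴.isStack.1
  have hfp : AlgSt.IsAlgStack Scheme.fppfPrecoverage (FibCat.fp f f) :=
    isAlgStack_fp h𝒴.isStack h𝒴.diag h𝒳 h𝒳 f f
  have hβi : IsIso β := isIso_of_isHomLift_id 𝒴.p h𝒴g (U := Over.mk s) β
  have hβ' : 𝒴.p.IsHomLift (𝟙 (𝒳.p.obj a₁)) β := by rw [h₁]; exact hβ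
  obtain ⟨η, hηd⟩ : ∃ η : (FibCat.fp f f).obj, η = fpMk f f a₁ a₂ (asIso β) hβ' := ⟨_, rfl⟩
  have hη : (FibCat.fp f f).p.obj η = Over.mk s := by rw [hηd]; exact h₁
  have : (FibCat.fp f f).p.IsFibered := isFibered_of_isFibGrpd _ hfp.isStack.1
  obtain ⟨ζ, e, he⟩ := exists_pb_leg η hη
  have hei : IsIso e := isIso_of_isHomLift_id _ hfp.isStack.1 (U := Over.mk s) e
  have hTs := isAlgStack_overCat (Over.mk s)
  have hTg := isFibGrpd_overCat (Over.mk s)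
  have h𝒲 : AlgSt.IsAlgStack Scheme.fppfPrecoverage (FibCat.fp ζ (FibCat.diag f)) :=
    isAlgStack_fp hfp.isStack hfp.diag hTs h𝒳 ζ (FibCat.diag f)
  have hrep : AlgSt.RepByAlgSpWith (AlgSp.LocP @LocallyOfFiniteType)
      (FibCat.fpFst ζ (FibCat.diag f)) :=
    repByAlgSpWith_fpFst _ (FibCat.diag f) ζ (AlgStDiagLft.diag_lft_of_algStack h𝒳 h𝒴 f)
  have hφ : AlgSt.LocQ (AlgSp.LocP @LocallyOfFiniteType) (FibCat.fpFst ζ (FibCat.diag f)) :=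
    locQ_of_rep isSmoothLocalST_lft hTs _ hrep
  have hne : Nonempty (AlgSt.Points (FibCat.fp ζ (FibCat.diag f))) := by
    obtain ⟨t₀⟩ : Nonempty ↥(Over.mk s).left :=
      ⟨(IsLocalRing.closedPoint k : PrimeSpectrum k)⟩
    obtain ⟨ξ, hξ⟩ := hΔ (AlgSt.Points.map ζ (chartPt _ t₀))
    obtain ⟨w, -, -⟩ := exists_point_fp h𝒳g hfp.isStack.1 hTg (FibCat.diag f) ζ (chartPt _ t₀) ξ
      hξ.symm
    exact ⟨w⟩
  obtain ⟨x, ⟨ι⟩⟩ := exists_section_of_locQ_lft h𝒲 s (FibCat.fpFst ζ (FibCat.diag f)) hφ hne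
  obtain ⟨o, hod⟩ : ∃ o : (FibCat.fp ζ (FibCat.diag f)).obj, o = x.obj (Over.mk (𝟙 (Over.mk s))) :=
    ⟨_, rfl⟩
  obtain ⟨γ, -⟩ : ∃ γ : o.obj.fst ≅ Over.mk (𝟙 (Over.mk s)), γ = γ := by
    rw [hod]; exact ⟨appIso ι (Over.mk (𝟙 (Over.mk s))), rfl⟩
  obtain ⟨m, hmd⟩ : ∃ m : (FibCat.diag f).obj o.obj.snd ⟶ η,
      m = o.obj.iso.inv ≫ ζ.map γ.hom ≫ e := ⟨_, rfl⟩
  have hmi : IsIso m := by rw [hmd]; infer_instance
  have hm1 : IsIso ((FibCat.fpFst f f).map m) := inferInstance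
  have hw := m.hom.w
  subst hηd
  exact exists_alpha_of_pair f a₁ a₂ h₁ β hβ o.obj.snd m.hom.fst m.hom.snd hm1
    (by
      have hw' : f.map m.hom.fst ≫ β = 𝟙 _ ≫ f.map m.hom.snd := hw
      rw [Category.id_comp] at hw'
      exact hw')

/-- **S12832, (3) ⇒ (2)** -/
theorem isSurjective_diag_of_lift (h𝒳 : FibCat.IsFibGrpd 𝒳.p) (h𝒴 : FibCat.IsFibGrpd 𝒴.p)
    (f : 𝒳 ⥤ᵇ 𝒴)
    (H : ∀ (k : Type u) [Field k] [IsAlgClosed k] (s : Spec (CommRingCat.of k) ⟶ S) (a₁ a₂ : 𝒳.obj)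
        (_ : 𝒳.p.obj a₁ = Over.mk s) (_ : 𝒳.p.obj a₂ = Over.mk s) (β : f.obj a₁ ⟶ f.obj a₂),
        𝒴.p.IsHomLift (𝟙 (Over.mk s)) β →
          ∃ α : a₁ ⟶ a₂, 𝒳.p.IsHomLift (𝟙 (Over.mk s)) α ∧ f.map α = β) :
    AlgSt.IsSurjective (FibCat.diag f) := by
  intro P
  obtain ⟨p, rfl⟩ := AlgSt.Points.mk_surjective P
  obtain ⟨K, hK⟩ : ∃ K : Type u, K = p.K := ⟨_, rfl⟩
  obtain ⟨j₀, hj₀⟩ : ∃ j₀ : Spec (CommRingCat.of (AlgebraicClosure p.K)) ⟶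
      Spec (CommRingCat.of p.K),
      j₀ = Spec.map (CommRingCat.ofHom (algebraMap p.K (AlgebraicClosure p.K))) := ⟨_, rfl⟩
  obtain ⟨s', hs'⟩ : ∃ s' : Spec (CommRingCat.of (AlgebraicClosure p.K)) ⟶ S, s' = j₀ ≫ p.str :=
    ⟨_, rfl⟩
  let j : Over.mk s' ⟶ Over.mk p.str := Over.homMk j₀ hs'.symm
  obtain ⟨η, hη⟩ : ∃ η : (FibCat.fp f f).obj, η = p.obj := ⟨_, rfl⟩
  have hl : 𝒳.p.obj η.obj.fst = Over.mk p.str := by rw [hη]; exact p.lies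
  have hβ₀ : 𝒴.p.IsHomLift (𝟙 (𝒳.p.obj η.obj.fst)) η.obj.iso.hom := η.property
  rw [hl] at hβ₀
  have hl₂ : 𝒳.p.obj η.obj.snd = Over.mk p.str :=
    (f.w_obj η.obj.snd).symm.trans (IsHomLift.codomain_eq 𝒴.p (𝟙 (Over.mk p.str)) η.obj.iso.hom)
  obtain ⟨a₁', π₁, hπ₁⟩ := Groth.Agent.H3.StkAux.exists_lift'' h𝒳 j η.obj.fst hl
  obtain ⟨a₂', π₂, hπ₂⟩ := Groth.Agent.H3.StkAux.exists_lift'' h𝒳 j η.obj.snd hl₂
  have c2 : 𝒴.p.IsStronglyCartesian j (f.map π₂) := isStronglyCartesian_of_isHomLift 𝒴.p h𝒴 _ _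
  have l1 : 𝒴.p.IsHomLift (𝟙 _ ≫ j) (f.map π₁ ≫ η.obj.iso.hom) := by
    have : 𝒴.p.IsHomLift (j ≫ 𝟙 _) (f.map π₁ ≫ η.obj.iso.hom) := inferInstance
    rw [Category.comp_id] at this
    rw [Category.id_comp]
    exact this
  obtain ⟨β', hβ'd⟩ : ∃ β' : f.obj a₁' ⟶ f.obj a₂',
      β' = IsStronglyCartesian.map 𝒴.p j (f.map π₂) (f' := 𝟙 _ ≫ j) rfl
        (f.map π₁ ≫ η.obj.iso.hom) := ⟨_, rfl⟩
  have hβ'l : 𝒴.p.IsHomLift (𝟙 (Over.mk s')) β' := by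
    rw [hβ'd]; exact IsStronglyCartesian.map_isHomLift 𝒴.p j (f.map π₂) rfl _
  have hβ'f : β' ≫ f.map π₂ = f.map π₁ ≫ η.obj.iso.hom := by
    rw [hβ'd]; exact IsStronglyCartesian.fac 𝒴.p j (f.map π₂) rfl _
  have ha₁' : 𝒳.p.obj a₁' = Over.mk s' := IsHomLift.domain_eq 𝒳.p j π₁
  have ha₂' : 𝒳.p.obj a₂' = Over.mk s' := IsHomLift.domain_eq 𝒳.p j π₂
  obtain ⟨α, hα, hfα⟩ := H (AlgebraicClosure p.K) s' a₁' a₂' ha₁' ha₂' β' hβ'l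
  refine ⟨AlgSt.Points.mk ⟨AlgebraicClosure p.K, s', a₁', ha₁'⟩, ?_⟩
  rw [AlgSt.Points.map_mk]
  apply AlgSt.Points.sound
  subst hη
  refine rel_of_hom (p := (⟨AlgebraicClosure p.K, s', a₁', ha₁'⟩ : AlgSt.FPt 𝒳).map
    (FibCat.diag f)) (q := p) (fpHomMk π₁ (α ≫ π₂) ?_)
  change f.map π₁ ≫ p.obj.obj.iso.hom = 𝟙 _ ≫ f.map (α ≫ π₂)
  rw [Category.id_comp, f.toFunctor.map_comp, hfα, hβ'f]

end Groth.Agent.H3.DiagSurj
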