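import Mathlib
import Groth.Agent.Lib.Helper3.AlgSt.QCMor
import Groth.Agent.Lib.Helper3.AlgSt.DiagEt

/-!
# A stack all of whose base changes to schemes are algebraic (Deligne–Mumford) is algebraic
(Deligne–Mumford)  (helper3; S15250, S15251)
-/

set_option autoImplicit false
universe u
open CategoryTheory CategoryTheory.Functor CategoryTheory.Limits Opposite AlgebraicGeometry

namespace Groth.Agent.H3.AlgStFpCrit

open Groth.Agent.H3.FibCatAux Groth.Agent.H3.GerbAux Groth.Agent.H3.FpCalc Groth.Agent.H3.TwoCart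
  Groth.Agent.H3.StackPsh Groth.Agent.H3.PshBridge Groth.Agent.H3.SetoidPsh
  Groth.Agent.H3.AlgStAux Groth.Agent.H3.BaseChangeSp Groth.Agent.H3.AlgStComp
  Groth.Agent.H3.AlgStProps Groth.Agent.H3.AlgStBridge2 Groth.Agent.H3.AlgStDiagProp
  Groth.Agent.H3.AlgSpCov Groth.Agent.H3.AlgStCharts Groth.Agent.H3.AlgStProd
  Groth.Agent.H3.AlgStDiag Groth.Agent.H3.AlgStProdMap Groth.Agent.H3.AlgStLES
  Groth.Agent.H3.AlgStDescent Groth.Agent.H3.AlgStCancel Groth.Agent.H3.AlgStDiagFacts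
  Groth.Agent.H3.RepBridge Groth.Agent.H3.AlgStDiagLft Groth.Agent.H3.AlgStDiagRep
  Groth.Agent.H3.AlgStDiagCancel Groth.Agent.H3.AlgStAlgebraic Groth.Agent.H3.StackMore
  Groth.Agent.H3.AlgStStackRep Groth.Agent.H3.AlgStQCMor
open AlgSp

variable {S : Scheme.{u}} {𝒳 𝒴 : AlgSt.Cat S}

/-- the diagonal of any functor between categories fibred in groupoids whose absolute diagonals
are representable by algebraic spaces is representable by algebraic spaces -/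
theorem repByAlgSp1_diag_of_diag (hX : FibCat.IsFibGrpd 𝒳.p) (hY : FibCat.IsFibGrpd 𝒴.p)
    (hΔX : AlgSt.RepByAlgSp1 (FibCat.diag (FibCat.toSelf 𝒳)))
    (hΔY : AlgSt.RepByAlgSp1 (FibCat.diag (FibCat.toSelf 𝒴))) (f : 𝒳 ⥤ᵇ 𝒴) :
    AlgSt.RepByAlgSp1 (FibCat.diag f) := by
  have hS : FibCat.IsFibGrpd (FibCat.selfOver (Over S)).p := isFibGrpd_id
  have hb := repByAlgSp1_magicI f hΔY
  have h2 := repByAlgSp1_diag (X6401 f f hX hX hY)
    (X6401 (BasedFunctor.comp f (FibCat.toSelf 𝒴)) (BasedFunctor.comp f (FibCat.toSelf 𝒴)) hX hX hS)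
    _ hb
  have h1 := hΔX
  rw [← repByAlgSpWith_top_iff] at h1 h2 ⊢
  exact diag_cancel_aux ⊤ good_top.toC hX hY f h1 h2

/-- the relative diagonal of `f` is representable by algebraic spaces as soon as all the base
changes of `𝒳` to schemes over `𝒴` have a diagonal representable by algebraic spaces -/
theorem repByAlgSp1_diag_of_fp (hX : FibCat.IsFibGrpd 𝒳.p) (hY : FibCat.IsFibGrpd 𝒴.p)
    (f : 𝒳 ⥤ᵇ 𝒴)
    (hf : ∀ (U : Over S) (g : FibCat.overCat U ⥤ᵇ 𝒴),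
      AlgSt.RepByAlgSp1 (FibCat.diag (FibCat.toSelf (FibCat.fp g f)))) :
    AlgSt.RepByAlgSp1 (FibCat.diag f) := by
  intro U y
  have hT : FibCat.IsFibGrpd (FibCat.overCat U).p := isFibGrpd_overCat U
  have hWf : FibCat.IsFibGrpd (FibCat.fp (cg f y) f).p := X6401 _ _ hT hX hY
  have hΔ : AlgSt.RepByAlgSp1 (FibCat.diag (FibCat.fpFst (cg f y) f)) :=
    repByAlgSp1_diag_of_diag hWf hT (hf U (cg f y)) (isAlgStack_overCat U).diag _
  have h1 := hΔ U (secPair f y)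
  have h2 := repByAlgSp_fp_comp_of_isTwoCartOver (dbcM f (cg f y)) (FibCat.diag f)
    (FibCat.diag (FibCat.fpFst (cg f y) f)) (FibCat.fpSnd (cg f y) f) (dbcE f (cg f y))
    (dbc_isTwoCartOver f (cg f y)) (secPair f y) h1
  exact repByAlgSp_fp_of_iso (chartIso f y) (FibCat.diag f) h2

/-- an atlas through a chart whose source has an atlas -/
theorem hasAtlas_of_stack_chart (Q : MorphismProperty (Sp S)) (hQ : Good Q) {𝒲 𝒯 : AlgSt.Cat S}
    (h𝒲 : FibCat.IsFibGrpd 𝒲.p) (hW : AlgSt.HasAtlas Q 𝒲) (w : 𝒲 ⥤ᵇ 𝒯)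
    (hw : AlgSt.RepByAlgSpWith Q w) (hws : AlgSt.RepByAlgSpWith IsSurjectiveMor w) :
    AlgSt.HasAtlas Q 𝒯 := by
  obtain ⟨U, a, ha1, ha2⟩ := hW
  refine ⟨U, BasedFunctor.comp a w, ?_, ?_⟩
  · exact repByAlgSpWith_comp (isFibGrpd_overCat U) h𝒲 Q hQ.bc hQ.comp hQ.loc a w ha1 hw
  · exact repByAlgSpWith_comp (isFibGrpd_overCat U) h𝒲 _ good_isSurjectiveMor.bc
      good_isSurjectiveMor.comp good_isSurjectiveMor.loc a w ha2 hws

/-- **S15250** (any topology `K`): a stack in groupoids over an algebraic stack all of whose base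
changes to schemes are algebraic stacks is an algebraic stack -/
theorem isAlgStack_of_fp {K : Precoverage Scheme.{u}} (h𝒳 : Stk.IsStack (QuotSh.J K S) 𝒳)
    (h𝒴 : AlgSt.IsAlgStack K 𝒴) (f : 𝒳 ⥤ᵇ 𝒴)
    (hf : ∀ (U : Over S) (g : FibCat.overCat U ⥤ᵇ 𝒴), AlgSt.IsAlgStack K (FibCat.fp g f)) :
    AlgSt.IsAlgStack K 𝒳 where
  isStack := h𝒳
  diag := by
    have hX := h𝒳.1
    have hY := h𝒴.isStack.1
    have h1 := repByAlgSp1_diag_of_fp hX hY f (fun U g => (hf U g).diag)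
    have h2 := repByAlgSp1_diag_comp f (FibCat.toSelf 𝒴) hX hY h1 h𝒴.diag
    have h3 : BasedFunctor.comp f (FibCat.toSelf 𝒴) = FibCat.toSelf 𝒳 := eq_toSelf _
    rw [h3] at h2
    exact h2
  atlas := by
    obtain ⟨V, y₀, hy1, hy2⟩ := h𝒴.atlas
    have hZ := hf V y₀
    exact hasAtlas_of_stack_chart _ good_smooth hZ.isStack.1 hZ.atlas (FibCat.fpSnd y₀ f)
      (repByAlgSpWith_fpSnd _ y₀ f hy1) (repByAlgSpWith_fpSnd _ y₀ f hy2)

/-- **S15251** (any topology `K`): the Deligne–Mumford version -/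
theorem isDM_of_fp {K : Precoverage Scheme.{u}} (h𝒳 : Stk.IsStack (QuotSh.J K S) 𝒳)
    (h𝒴 : AlgSt.IsDM K 𝒴) (f : 𝒳 ⥤ᵇ 𝒴)
    (hf : ∀ (U : Over S) (g : FibCat.overCat U ⥤ᵇ 𝒴), AlgSt.IsDM K (FibCat.fp g f)) :
    AlgSt.IsDM K 𝒳 := by
  refine ⟨isAlgStack_of_fp h𝒳 h𝒴.1 f (fun U g => (hf U g).1), ?_⟩
  obtain ⟨V, y₀, hy1, hy2⟩ := h𝒴.2
  have hZ := hf V y₀
  exact hasAtlas_of_stack_chart _ good_isEtaleMor hZ.1.isStack.1 hZ.2 (FibCat.fpSnd y₀ f)
    (repByAlgSpWith_fpSnd _ y₀ f hy1) (repByAlgSpWith_fpSnd _ y₀ f hy2)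

end Groth.Agent.H3.AlgStFpCrit
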