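import Mathlib
import Groth.Agent.Lib.Helper3.AlgSt.OpenSub2
import Groth.Agent.Lib.Helper3.MonoFull
import Groth.Agent.Lib.Helper5.AlgSp.Mono

set_option autoImplicit false
universe w u
open CategoryTheory CategoryTheory.Functor CategoryTheory.Limits Opposite AlgebraicGeometry

noncomputable section

namespace Groth.Agent.H3.OpenSub

open Groth.Agent.H3.FibCatAux Groth.Agent.H3.GerbAux Groth.Agent.H3.FpCalc Groth.Agent.H3.TwoCart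
  Groth.Agent.H3.StackPsh Groth.Agent.H3.PshBridge Groth.Agent.H3.AlgStAux Groth.Agent.H3.RepBridge
  Groth.Agent.H3.SetoidPsh Groth.Agent.H3.BaseChangeSp Groth.Agent.H3.AlgStComp
  Groth.Agent.H3.AlgStProps Groth.Agent.H3.AlgStBridge2 Groth.Agent.H3.AlgStCharts
  Groth.Agent.H3.AlgStDescent Groth.Agent.H3.Whisker Groth.Agent.H3.AlgStLES
  Groth.Agent.H3.FPtRel Groth.Agent.H3.AlgStStackRep Groth.Agent.H3.TwoYoneda
  Groth.Agent.H3.AlgStPoints Groth.Agent.H3.AlgStAlgebraic Groth.Agent.H3.AlgStQCMor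
  Groth.Agent.H3.AlgStSmoothLoc Groth.Agent.H3.SmSrc Groth.Agent.H3.AlgStLocQ
  Groth.Agent.H3.AlgStAffine

variable {S : Scheme.{u}} {𝒳 𝒴 𝒵 : AlgSt.Cat S}

/-- the essential image of a 1-morphism -/
def essIm (i : 𝒵 ⥤ᵇ 𝒳) : 𝒳.obj → Prop := fun x => ∃ z : 𝒵.obj, Nonempty (i.obj z ≅ x)

lemma essIm_closedUnderIso (i : 𝒵 ⥤ᵇ 𝒳) : ObjectProperty.IsClosedUnderIsomorphisms (essIm i) :=
  ⟨fun e ⟨z, ⟨ε⟩⟩ => ⟨z, ⟨ε ≪≫ e⟩⟩⟩

/-- an immersion is a monomorphism -/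
theorem isMono_of_isImm (i : 𝒵 ⥤ᵇ 𝒳) (hi : AlgSt.IsImm i) : AlgSt.IsMono i :=
  AlgStDiagLft.repByAlgSpWith_mono (fun _ _ _ ha =>
    Groth.Agent.H5.AlgSp.mono_of_repWith Groth.Agent.H5.AlgSp.isImmersion_le_mono ha) hi

/-- a monomorphism is an equivalence onto its essential image -/
theorem isEquivOver_liftSub_essIm (h𝒵 : FibCat.IsFibGrpd 𝒵.p) (h𝒳 : FibCat.IsFibGrpd 𝒳.p)
    (i : 𝒵 ⥤ᵇ 𝒳) (hi : AlgSt.IsMono i) :
    FibCat.IsEquivOver (liftSub (essIm i) i (fun z => ⟨z, ⟨Iso.refl _⟩⟩)) := by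
  have hfull : i.toFunctor.Full := Groth.Agent.H3.MonoFull.full_of_isMono h𝒵 h𝒳 i hi
  have hfaith : i.toFunctor.Faithful :=
    Groth.Agent.H3.RepFaithful.faithful_of_repByAlgSp1 h𝒵 h𝒳 i (repByAlgSp1_of_repByAlgSpWith hi)
  have h1 : (liftSub (essIm i) i (fun z => ⟨z, ⟨Iso.refl _⟩⟩)).toFunctor.Full :=
    inferInstanceAs (ObjectProperty.lift (essIm i) i.toFunctor _).Full
  have h2 : (liftSub (essIm i) i (fun z => ⟨z, ⟨Iso.refl _⟩⟩)).toFunctor.Faithful :=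
    inferInstanceAs (ObjectProperty.lift (essIm i) i.toFunctor _).Faithful
  have h3 : (liftSub (essIm i) i (fun z => ⟨z, ⟨Iso.refl _⟩⟩)).toFunctor.EssSurj := by
    refine ⟨fun x => ?_⟩
    obtain ⟨z, ⟨ε⟩⟩ := x.property
    exact ⟨z, ⟨(ObjectProperty.ι (essIm i)).preimageIso ε⟩⟩
  have : (liftSub (essIm i) i (fun z => ⟨z, ⟨Iso.refl _⟩⟩)).toFunctor.IsEquivalence := {}
  exact isEquivOver_of_isEquivalence _ (liftsIsos_of_isFibGrpd h𝒵)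


/-- transporting the substack structure along the equivalence onto the essential image -/
theorem substack_essIm (h𝒵 : AlgSt.IsAlgStack Scheme.fppfPrecoverage 𝒵)
    (h𝒳 : AlgSt.IsAlgStack Scheme.fppfPrecoverage 𝒳) (i : 𝒵 ⥤ᵇ 𝒳) (hi : AlgSt.IsMono i)
    (P : MorphismProperty (AlgSp.Sp S)) (hP : AlgSt.RepByAlgSpWith P i) :
    ObjectProperty.IsClosedUnderIsomorphisms (essIm i) ∧
      AlgSt.IsAlgStack Scheme.fppfPrecoverage (AlgSt.fullSub 𝒳 (essIm i)) ∧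
      AlgSt.RepByAlgSpWith P (AlgSt.subIncl 𝒳 (essIm i)) := by
  have he := isEquivOver_liftSub_essIm h𝒵.isStack.1 h𝒳.isStack.1 i hi
  refine ⟨essIm_closedUnderIso i, isAlgStack_of_isEquivOver _ he h𝒵, ?_⟩
  refine (repByAlgSpWith_comp_equiv_iff P _ he (AlgSt.subIncl 𝒳 (essIm i))).1 ?_
  rw [liftSub_comp]
  exact hP

/-- **S12878** -/
theorem exists_unique_locClosedSubstack_of_isImm
    (h𝒵 : AlgSt.IsAlgStack Scheme.fppfPrecoverage 𝒵)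
    (h𝒳 : AlgSt.IsAlgStack Scheme.fppfPrecoverage 𝒳) (i : 𝒵 ⥤ᵇ 𝒳) (hi : AlgSt.IsImm i) :
    ∃ Q : 𝒳.obj → Prop,
      (AlgSt.IsLocClosedSubstack 𝒳 Q Scheme.fppfPrecoverage ∧
        (∃ i' : 𝒵 ⥤ᵇ AlgSt.fullSub 𝒳 Q, FibCat.IsEquivOver i' ∧
          Nonempty (BasedFunctor.comp i' (AlgSt.subIncl 𝒳 Q) ≅ i)) ∧
        (AlgSt.IsClosedImm i → AlgSt.IsClosedSubstack 𝒳 Q Scheme.fppfPrecoverage) ∧
        (AlgSt.IsOpenImm i → AlgSt.IsOpenSubstack 𝒳 Q Scheme.fppfPrecoverage)) ∧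
      ∀ Q' : 𝒳.obj → Prop, AlgSt.IsLocClosedSubstack 𝒳 Q' Scheme.fppfPrecoverage →
        (∃ i' : 𝒵 ⥤ᵇ AlgSt.fullSub 𝒳 Q', FibCat.IsEquivOver i' ∧
          Nonempty (BasedFunctor.comp i' (AlgSt.subIncl 𝒳 Q') ≅ i)) → Q' = Q := by
  have hmono := isMono_of_isImm i hi
  refine ⟨essIm i, ⟨substack_essIm h𝒵 h𝒳 i hmono _ hi,
    ⟨liftSub (essIm i) i (fun z => ⟨z, ⟨Iso.refl _⟩⟩),
      isEquivOver_liftSub_essIm h𝒵.isStack.1 h𝒳.isStack.1 i hmono,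
      ⟨eqToIso (liftSub_comp _ _ _)⟩⟩,
    fun hc => substack_essIm h𝒵 h𝒳 i hmono _ hc,
    fun ho => substack_essIm h𝒵 h𝒳 i hmono _ ho⟩, ?_⟩
  rintro Q' hQ' ⟨i', hi', ⟨κ⟩⟩
  have hess := ((X5139 i').1 hi').2
  let K : i'.toFunctor ⋙ (AlgSt.subIncl 𝒳 Q').toFunctor ≅ i.toFunctor :=
    (BasedNatTrans.forgetful _ _).mapIso κ
  funext x
  apply propext
  constructor
  · intro hx
    obtain ⟨z, e, -⟩ := hess ⟨x, hx⟩
    exact ⟨z, ⟨(K.app z).symm ≪≫ (ObjectProperty.ι Q').mapIso e⟩⟩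
  · rintro ⟨z, ⟨ε⟩⟩
    exact hQ'.1.of_iso (K.app z ≪≫ ε) (i'.obj z).property

end Groth.Agent.H3.OpenSub
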