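import Mathlib
import Groth.Agent.Lib.Helper3.AlgSt.Inertia
import Groth.Agent.Lib.Helper3.AlgSpMor.Unramified

/-!
# The relative inertia and DM morphisms (helper3)
-/

set_option autoImplicit false
universe u
open CategoryTheory CategoryTheory.Functor CategoryTheory.Limits Opposite AlgebraicGeometry

namespace Groth.Agent.H3.AlgStInertia

open Groth.Agent.H3.FibCatAux Groth.Agent.H3.GerbAux Groth.Agent.H3.FpCalc Groth.Agent.H3.TwoCart
  Groth.Agent.H3.AlgStAux Groth.Agent.H3.BaseChangeSp Groth.Agent.H3.AlgStComp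
  Groth.Agent.H3.AlgStProps Groth.Agent.H3.AlgStBridge2 Groth.Agent.H3.AlgStDiagProp
  Groth.Agent.H3.AlgSpCov Groth.Agent.H3.AlgStCharts Groth.Agent.H3.AlgStLES
  Groth.Agent.H3.AlgStDescent Groth.Agent.H3.AlgStCancel Groth.Agent.H3.AlgStDiagFacts
  Groth.Agent.H3.RepBridge Groth.Agent.H3.AlgStDiagLft Groth.Agent.H3.AlgStDiagRep
  Groth.Agent.H3.AlgStDiagIff
open AlgSp

variable {S : Scheme.{u}} {𝒳 𝒴 : AlgSt.Cat S}

/-- a 1-morphism representable by algebraic spaces and locally of finite type is unramified iff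
its diagonal is an open immersion -/
theorem unram_iff_diag_openImm (h𝒳 : FibCat.IsFibGrpd 𝒳.p) (h𝒴 : FibCat.IsFibGrpd 𝒴.p)
    (g : 𝒳 ⥤ᵇ 𝒴) (hg : AlgSt.RepByAlgSp1 g)
    (hl : AlgSt.RepByAlgSpWith (LocP @LocallyOfFiniteType) g) :
    AlgSt.RepByAlgSpWith (LocP (@LocallyOfFiniteType ⊓ @FormallyUnramified)) g ↔
      AlgSt.RepByAlgSpWith (RepWith @IsOpenImmersion) (FibCat.diag g) := by
  have hoi : GoodC (RepWith (S := S) @IsOpenImmersion) := goodC_repWith _
  have hl' := (repByAlgSpWith_iff_forall' g hg _ good_lft.bc good_lft.toC.charts).1 hl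
  rw [repByAlgSpWith_iff_forall' g hg _ good_unram.bc good_unram.toC.charts,
    repByAlgSpWith_diag_iff _ hoi.bc hoi.charts h𝒳 h𝒴 g hg]
  refine forall₅_congr (fun U y G e he => ?_)
  constructor
  · intro h
    exact Groth.Agent.H3.AlgSpProp.repWith_isOpenImmersion_diagonal_of_unramified G.property
      (IsAlgSpace.yon_obj U) _ h
  · intro h
    exact Groth.Agent.H3.AlgSpProp.locP_unramified_of_diagonal G.property _ (hl' U y G e he) h

/-- **S12974**, in TFAE form with the neutral section -/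
theorem inertia_unram_tfae (h𝒳 : AlgSt.IsAlgStack Scheme.fppfPrecoverage 𝒳)
    (h𝒴 : AlgSt.IsAlgStack Scheme.fppfPrecoverage 𝒴) (f : 𝒳 ⥤ᵇ 𝒴) :
    [AlgSt.RepByAlgSpWith (LocP (@LocallyOfFiniteType ⊓ @FormallyUnramified))
        (FibCat.inertiaToBase f),
      AlgSt.IsDMMor f,
      AlgSt.RepByAlgSpWith (RepWith @IsOpenImmersion) (FibCat.inertiaNeutral f)].TFAE :=
  inertia_tfae f _ _ (LocP @LocallyOfFiniteType)
    (fun hA hB g hg hl => unram_iff_diag_openImm hA hB g hg hl) h𝒳.isStack.1 h𝒴.isStack.1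
    (diag_lft_of_algStack h𝒳 h𝒴 f)

end Groth.Agent.H3.AlgStInertia
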