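import Mathlib
import Groth.Agent.Lib.Helper3.AlgSt.Points.Homeo
import Groth.Agent.Lib.Helper3.AlgSt.QCMor
import Groth.Agent.Lib.Helper3.AlgSt.LocQ9
import Groth.Agent.Lib.Helper3.MonoFull
import Groth.Agent.Lib.Helper3.Top.NoethCompact
import Groth.Agent.Lib.Helper5.AlgSp.MonoDesc
import Groth.Agent.Lib.Helper5.AlgSp.SchImageQC
import Groth.Agent.Lib.Helper3.AlgSt.DiagLft

/-!
# Quasi-compactness of monomorphisms by Noetherian induction (helper3)
-/

set_option autoImplicit false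
universe u
open CategoryTheory CategoryTheory.Functor CategoryTheory.Limits Opposite AlgebraicGeometry

noncomputable section

namespace Groth.Agent.H3.NoethQC

open Groth.Agent.H3.FibCatAux Groth.Agent.H3.GerbAux Groth.Agent.H3.FpCalc Groth.Agent.H3.TwoCart
  Groth.Agent.H3.StackPsh Groth.Agent.H3.PshBridge Groth.Agent.H3.AlgStAux Groth.Agent.H3.RepBridge
  Groth.Agent.H3.Whisker Groth.Agent.H3.FPtRel Groth.Agent.H3.AlgStPoints
  Groth.Agent.H3.AlgStBridge2 Groth.Agent.H3.AlgStCharts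
open TopologicalSpace

variable {S : Scheme.{u}} {𝒳 𝒴 : AlgSt.Cat S}

/-- **Lifting a field point through a monomorphism**: if `f : 𝒴 ⟶ 𝒳` is a monomorphism and the
fibre of `f` over a field-valued object `t` of `𝒳` is nonempty, then `t` lifts to `𝒴`. -/
theorem exists_lift_of_field_of_nonempty (f : 𝒴 ⥤ᵇ 𝒳) (ha : AlgSt.IsMono f)
    {κ : Type u} [Field κ] (s : Spec (CommRingCat.of κ) ⟶ S)
    (t : FibCat.overCat (Over.mk s) ⥤ᵇ 𝒳) (hne : Nonempty (AlgSt.Points (FibCat.fp t f))) :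
    ∃ y : FibCat.overCat (Over.mk s) ⥤ᵇ 𝒴, Nonempty (BasedFunctor.comp y f ≅ t) := by
  obtain ⟨F, e, he, hm⟩ := ha (Over.mk s) t
  obtain ⟨m, hmdef⟩ : ∃ m, m = AlgSt.spMapOfOver (BasedFunctor.comp e (FibCat.fpFst t f)) :=
    ⟨_, rfl⟩
  rw [← hmdef] at hm
  have hmono : Mono m := hm
  obtain ⟨w⟩ := hne
  obtain ⟨w', -⟩ := isSurjective_of_isEquivOver e he w
  obtain ⟨x', -⟩ := ptOf_surjective w'
  have hiso : IsIso m := Groth.Agent.H5.AlgSp.isIso_of_mono_to_field F.property s m ⟨x'⟩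
  obtain ⟨ι⟩ := projIso (BasedFunctor.comp e (FibCat.fpFst t f))
  rw [← hmdef] at ι
  -- the lift
  let Ψ : FibCat.overCat (Over.mk s) ⥤ᵇ FibCat.fp t f :=
    BasedFunctor.comp (ofOver (Over.mk s)) (BasedFunctor.comp (AlgSt.ofSpMap (inv m)) e)
  refine ⟨BasedFunctor.comp Ψ (FibCat.fpSnd t f), ⟨?_⟩⟩
  have i1 : BasedFunctor.comp (BasedFunctor.comp Ψ (FibCat.fpSnd t f)) f ≅
      BasedFunctor.comp (BasedFunctor.comp Ψ (FibCat.fpFst t f)) t :=
    whiskerL Ψ (FibCat.fpIso t f).symm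
  have i2 : BasedFunctor.comp Ψ (FibCat.fpFst t f) ≅
      BasedFunctor.comp (BasedFunctor.comp (ofOver (Over.mk s)) (AlgSt.ofSpMap (inv m)))
        (projOf m.hom) :=
    whiskerL (BasedFunctor.comp (ofOver (Over.mk s)) (AlgSt.ofSpMap (inv m))) ι
  have h3 : BasedFunctor.comp (BasedFunctor.comp (ofOver (Over.mk s)) (AlgSt.ofSpMap (inv m)))
      (projOf m.hom) = BasedFunctor.id _ := by
    have h4 : BasedFunctor.comp (AlgSt.ofSpMap (inv m)) (AlgSt.ofSpMap m) = BasedFunctor.id _ := by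
      show BasedFunctor.comp (Stk.ofPshMap (inv m).hom) (Stk.ofPshMap m.hom) = _
      rw [← ofPshMap_comp]
      have : (inv m).hom ≫ m.hom = 𝟙 _ := by
        have := IsIso.inv_hom_id m
        exact congrArg (fun k => k.hom) this
      rw [this, ofPshMap_id]
    exact congrArg (fun Φ : AlgSt.ofSp ((AlgSp.yon S).obj (Over.mk s)) ⥤ᵇ
        AlgSt.ofSp ((AlgSp.yon S).obj (Over.mk s)) =>
      BasedFunctor.comp (ofOver (Over.mk s)) (BasedFunctor.comp Φ (toOver (Over.mk s)))) h4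
  exact i1 ≪≫ whiskerR (i2 ≪≫ eqToIso h3) t

/-- the map from the points of `(Sch/X) ×_𝒳 𝒴` to the points of the scheme `X` -/
def toBase {X : Over S} (x : FibCat.overCat X ⥤ᵇ 𝒳) (f : 𝒴 ⥤ᵇ 𝒳) :
    AlgSt.Points (FibCat.fp x f) → ↥X.left :=
  fun w => (chartPtEquiv X).symm (AlgSt.Points.map (FibCat.fpFst x f) w)

lemma chartPt_toBase {X : Over S} (x : FibCat.overCat X ⥤ᵇ 𝒳) (f : 𝒴 ⥤ᵇ 𝒳)
    (w : AlgSt.Points (FibCat.fp x f)) :
    chartPt X (toBase x f w) = AlgSt.Points.map (FibCat.fpFst x f) w :=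
  (chartPtEquiv X).apply_symm_apply _

lemma toBase_eq_iff {X : Over S} (x : FibCat.overCat X ⥤ᵇ 𝒳) (f : 𝒴 ⥤ᵇ 𝒳)
    (w : AlgSt.Points (FibCat.fp x f)) (ξ : ↥X.left) :
    toBase x f w = ξ ↔ AlgSt.Points.map (FibCat.fpFst x f) w = chartPt X ξ := by
  rw [← chartPt_toBase]
  exact ⟨fun h => by rw [h], fun h => chartPt_injective X h⟩

/-- **Compactness from a lift**: if the restriction of `x : X ⟶ 𝒳` to a quasi-compact scheme
`u : U ⟶ X` lifts through the monomorphism `f`, then the part of `|X ×_𝒳 𝒴|` over the image of `U` is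
compact. -/
theorem isCompact_preimage_of_lift (h𝒳 : AlgSt.IsAlgStack Scheme.fppfPrecoverage 𝒳)
    (h𝒴 : AlgSt.IsAlgStack Scheme.fppfPrecoverage 𝒴) (f : 𝒴 ⥤ᵇ 𝒳) (ha : AlgSt.IsMono f)
    {X U : Over S} [CompactSpace ↥U.left] (x : FibCat.overCat X ⥤ᵇ 𝒳) (u : U ⟶ X)
    (yU : FibCat.overCat U ⥤ᵇ 𝒴)
    (ι : BasedFunctor.comp yU f ≅ BasedFunctor.comp (AlgSt.overMap u) x) :
    IsCompact (toBase x f ⁻¹' Set.range u.left) := by
  have hX := h𝒳.isStack.1
  have hY := h𝒴.isStack.1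
  have hXst := Groth.Agent.H3.AlgStQCMor.isAlgStack_overCat X
  have hfp : AlgSt.IsAlgStack Scheme.fppfPrecoverage (FibCat.fp x f) :=
    Groth.Agent.H3.AlgStAlgebraic.isAlgStack_fp h𝒳.isStack h𝒳.diag hXst h𝒴 x f
  have hm : AlgSt.IsMono (FibCat.fpFst x f) := repByAlgSpWith_fpFst _ f x ha
  have hfull : (FibCat.fpFst x f).toFunctor.Full :=
    Groth.Agent.H3.MonoFull.full_of_isMono hfp.isStack.1 hXst.isStack.1 _ hm
  have hinj := points_map_injective_of_full hfp.isStack.1 hXst.isStack.1 (FibCat.fpFst x f)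
  obtain ⟨ℓ, hℓ⟩ : ∃ ℓ : FibCat.overCat U ⥤ᵇ FibCat.fp x f,
    ℓ = FibCat.fpLift (AlgSt.overMap u) yU ι.symm := ⟨_, rfl⟩
  have hℓ1 : BasedFunctor.comp ℓ (FibCat.fpFst x f) = AlgSt.overMap u := by rw [hℓ]; rfl
  have key : toBase x f ⁻¹' Set.range u.left = Set.range (AlgSt.Points.ofChart ℓ) := by
    ext w
    constructor
    · rintro ⟨τ, hτ⟩
      refine ⟨τ, ?_⟩
      apply hinj
      have h1 := (toBase_eq_iff x f w _).1 hτ.symm
      rw [h1, ofChart_eq_map, ← points_map_comp, hℓ1, chartPt_overMap]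
    · rintro ⟨τ, rfl⟩
      refine ⟨τ, ?_⟩
      symm
      rw [toBase_eq_iff, ofChart_eq_map, ← points_map_comp, hℓ1, chartPt_overMap]
  rw [key]
  exact isCompact_range (continuous_ofChart hfp U ℓ)

/-- **Nonempty fibres**: if `t : T ⟶ 𝒳` sends a point of `T` to the image of a point `w` of
`X ×_𝒳 𝒴`, then `T ×_𝒳 𝒴` has a point. -/
theorem nonempty_points_fp_of_toBase (h𝒳 : FibCat.IsFibGrpd 𝒳.p) (h𝒴 : FibCat.IsFibGrpd 𝒴.p)
    (f : 𝒴 ⥤ᵇ 𝒳) {X T : Over S} (x : FibCat.overCat X ⥤ᵇ 𝒳) (t : FibCat.overCat T ⥤ᵇ 𝒳)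
    (w : AlgSt.Points (FibCat.fp x f)) (τ : ↥T.left)
    (h : AlgSt.Points.map t (chartPt T τ) = AlgSt.Points.map x (chartPt X (toBase x f w))) :
    Nonempty (AlgSt.Points (FibCat.fp t f)) := by
  have h1 : AlgSt.Points.map t (chartPt T τ) =
      AlgSt.Points.map f (AlgSt.Points.map (FibCat.fpSnd x f) w) := by
    rw [h, chartPt_toBase, ← points_map_comp, ← points_map_comp]
    exact points_map_congr (FibCat.fpIso x f) w
  obtain ⟨v, -, -⟩ := exists_point_fp h𝒴 h𝒳 (isFibGrpd_overCat T) f t (chartPt T τ) _ h1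
  exact ⟨v⟩

/-- an irreducible closed subset of an affine scheme is the image of the spectrum of a domain -/
theorem exists_quotient_of_irreducible (A₀ : Type u) [CommRing A₀]
    (Z : Set ↥(Spec (CommRingCat.of A₀))) (hZc : IsClosed Z) (hZi : IsIrreducible Z) :
    ∃ (A : Type u) (_ : CommRing A) (_ : IsDomain A) (φ : A₀ →+* A), Function.Surjective φ ∧
      Set.range (Spec.map (CommRingCat.ofHom φ)).base = Z := by
  let Z' : Set (PrimeSpectrum A₀) := Z
  have hZc' : IsClosed Z' := hZc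
  have hZi' : IsIrreducible Z' := hZi
  have hP : (PrimeSpectrum.vanishingIdeal Z').IsPrime :=
    PrimeSpectrum.isIrreducible_iff_vanishingIdeal_isPrime.1 hZi'
  refine ⟨A₀ ⧸ PrimeSpectrum.vanishingIdeal Z', inferInstance, inferInstance,
    Ideal.Quotient.mk _, Ideal.Quotient.mk_surjective, ?_⟩
  have h1 : Set.range (PrimeSpectrum.comap (Ideal.Quotient.mk (PrimeSpectrum.vanishingIdeal Z'))) =
      PrimeSpectrum.zeroLocus (PrimeSpectrum.vanishingIdeal Z') := by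
    rw [_root_.range_comap_of_surjective _ _ Ideal.Quotient.mk_surjective]
    simp
  rw [PrimeSpectrum.zeroLocus_vanishingIdeal_eq_closure, hZc'.closure_eq] at h1
  exact h1

/-- the dense-lifting hypothesis -/
def DenseLift (f : 𝒴 ⥤ᵇ 𝒳) : Prop :=
  ∀ (A : Type u) [CommRing A] [IsDomain A] (sA : Spec (CommRingCat.of A) ⟶ S)
      (a : FibCat.overCat (Over.mk sA) ⥤ᵇ 𝒳) (D : Set ↥(Spec (CommRingCat.of A))), Dense D →
      (∀ p ∈ D, ∃ yp : FibCat.overCat (Over.mk ((Spec (CommRingCat.of A)).fromSpecResidueField p ≫ sA)) ⥤ᵇ 𝒴,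
          Nonempty (BasedFunctor.comp yp f ≅ BasedFunctor.comp (AlgSt.overMap (Over.homMk ((Spec (CommRingCat.of A)).fromSpecResidueField p) rfl : Over.mk (((Spec (CommRingCat.of A)).fromSpecResidueField p) ≫ sA) ⟶ Over.mk sA)) a)) →
      ∃ U : (Spec (CommRingCat.of A)).Opens, (U : Set ↥(Spec (CommRingCat.of A))).Nonempty ∧
        ∃ yU : FibCat.overCat (Over.mk (U.ι ≫ sA)) ⥤ᵇ 𝒴,
          Nonempty (BasedFunctor.comp yU f ≅ BasedFunctor.comp (AlgSt.overMap (Over.homMk (U.ι) rfl : Over.mk ((U.ι) ≫ sA) ⟶ Over.mk sA)) a)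

/-- **Core**: over an affine Noetherian chart, the fibre product with a monomorphism satisfying the
dense-lifting hypothesis has compact space of points. -/
theorem compactSpace_points_fp_of_noeth (h𝒳 : AlgSt.IsAlgStack Scheme.fppfPrecoverage 𝒳)
    (h𝒴 : AlgSt.IsAlgStack Scheme.fppfPrecoverage 𝒴) (f : 𝒴 ⥤ᵇ 𝒳) (ha : AlgSt.IsMono f)
    (hc : DenseLift f) (A₀ : Type u) [CommRing A₀] [IsNoetherianRing A₀]
    (sX : Spec (CommRingCat.of A₀) ⟶ S) (x : FibCat.overCat (Over.mk sX) ⥤ᵇ 𝒳) :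
    CompactSpace (AlgSt.Points (FibCat.fp x f)) := by
  have hX := h𝒳.isStack.1
  have hY := h𝒴.isStack.1
  have hN0 : IsNoetherianRing ↑(CommRingCat.of A₀) := ‹IsNoetherianRing A₀›
  have hN : NoetherianSpace ↥(Over.mk sX).left :=
    (inferInstance : NoetherianSpace ↥(Spec (CommRingCat.of A₀)))
  apply Groth.Agent.H3.NoethCompact.compactSpace_of_noetherian (toBase x f)
  intro Z hZc hZi
  obtain ⟨A, _, _, φ, hφ, hrange⟩ := exists_quotient_of_irreducible A₀ Z hZc hZi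
  have hAN : IsNoetherianRing A := isNoetherianRing_of_surjective A₀ A φ hφ
  obtain ⟨j, hjdef⟩ : ∃ j : Spec (CommRingCat.of A) ⟶ Spec (CommRingCat.of A₀),
    j = Spec.map (CommRingCat.ofHom φ) := ⟨_, rfl⟩
  rw [← hjdef] at hrange
  have hj : IsClosedImmersion j := by
    rw [hjdef]; exact IsClosedImmersion.spec_of_surjective _ hφ
  have hjc : Topology.IsClosedEmbedding j.base := j.isClosedEmbedding
  obtain ⟨sA, hsA⟩ : ∃ sA : Spec (CommRingCat.of A) ⟶ S, sA = j ≫ sX := ⟨_, rfl⟩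
  obtain ⟨jO, hjO⟩ : ∃ jO : Over.mk sA ⟶ Over.mk sX, jO.left = j :=
    ⟨Over.homMk j hsA.symm, rfl⟩
  obtain ⟨a, hadef⟩ : ∃ a : FibCat.overCat (Over.mk sA) ⥤ᵇ 𝒳,
    a = BasedFunctor.comp (AlgSt.overMap jO) x := ⟨_, rfl⟩
  obtain ⟨D, hDdef⟩ : ∃ D : Set ↥(Spec (CommRingCat.of A)),
    D = {q | j.base q ∈ Set.range (toBase x f)} := ⟨_, rfl⟩
  by_cases hD : Dense D
  · have hlift : ∀ p ∈ D, ∃ yp : FibCat.overCat (Over.mk
        ((Spec (CommRingCat.of A)).fromSpecResidueField p ≫ sA)) ⥤ᵇ 𝒴,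
        Nonempty (BasedFunctor.comp yp f ≅ BasedFunctor.comp (AlgSt.overMap (Over.homMk
          ((Spec (CommRingCat.of A)).fromSpecResidueField p) rfl :
          Over.mk (((Spec (CommRingCat.of A)).fromSpecResidueField p) ≫ sA) ⟶ Over.mk sA)) a) := by
      intro p hp
      rw [hDdef] at hp
      obtain ⟨w, hw⟩ := hp
      apply exists_lift_of_field_of_nonempty f ha
      obtain ⟨τ⟩ : Nonempty ↥(Spec ((Spec (CommRingCat.of A)).residueField p)) := inferInstance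
      refine nonempty_points_fp_of_toBase hX hY f x _ w τ ?_
      rw [points_map_comp, chartPt_overMap, hadef, points_map_comp, chartPt_overMap, hw]
      congr 2
      change jO.left.base (((Spec (CommRingCat.of A)).fromSpecResidueField p).base τ) = j.base p
      rw [hjO]
      congr 1
      exact Scheme.fromSpecResidueField_apply p τ
    obtain ⟨U, hUne, yU, ⟨ι⟩⟩ := hc A sA a D hD hlift
    refine ⟨j.base '' (U : Set ↥(Spec (CommRingCat.of A))), ?_, ?_, ?_, ?_⟩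
    · rw [← hrange]; exact Set.image_subset_range _ _
    · exact hUne.image _
    · have h1 : Z \ (j.base '' (U : Set ↥(Spec (CommRingCat.of A)))) =
          j.base '' ((U : Set ↥(Spec (CommRingCat.of A)))ᶜ) := by
        rw [← hrange, ← Set.image_univ, ← Set.image_diff hjc.injective, Set.compl_eq_univ_diff]
      rw [h1]
      exact hjc.isClosedMap _ U.isOpen.isClosed_compl
    · have hNA0 : IsNoetherianRing ↑(CommRingCat.of A) := hAN
      have hNA : NoetherianSpace ↥(Spec (CommRingCat.of A)) := inferInstance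
      have hcU : CompactSpace ↥(Over.mk (U.ι ≫ sA)).left :=
        isCompact_iff_compactSpace.1
          (NoetherianSpace.isCompact (U : Set ↥(Spec (CommRingCat.of A))))
      obtain ⟨k, hk⟩ : ∃ k : Over.mk (U.ι ≫ sA) ⟶ Over.mk sA, k = Over.homMk U.ι rfl := ⟨_, rfl⟩
      obtain ⟨κ⟩ := Groth.Agent.H3.AlgStLES.overMapComp k jO
      rw [hadef, ← hk] at ι
      let ι₁ : BasedFunctor.comp yU f ≅
          BasedFunctor.comp (BasedFunctor.comp (AlgSt.overMap k) (AlgSt.overMap jO)) x := ι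
      let ι' : BasedFunctor.comp yU f ≅ BasedFunctor.comp (AlgSt.overMap (k ≫ jO)) x :=
        ι₁ ≪≫ whiskerR κ x
      have hcp := isCompact_preimage_of_lift h𝒳 h𝒴 f ha x (k ≫ jO) yU ι'
      have hr : Set.range (k ≫ jO).left = j.base '' (U : Set ↥(Spec (CommRingCat.of A))) := by
        have h1 : (k ≫ jO).left = U.ι ≫ j := by rw [Over.comp_left, hjO, hk]; rfl
        rw [h1]
        ext z
        constructor
        · rintro ⟨τ, rfl⟩
          exact ⟨U.ι.base τ, τ.2, rfl⟩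
        · rintro ⟨q, hq, rfl⟩
          exact ⟨⟨q, hq⟩, rfl⟩
      rw [hr] at hcp
      exact hcp
  · -- the image is not dense: the complement of its closure has empty preimage
    have hne : ((closure D)ᶜ : Set ↥(Spec (CommRingCat.of A))).Nonempty := by
      rw [Set.nonempty_compl]
      exact fun h => hD (dense_iff_closure_eq.2 h)
    refine ⟨j.base '' ((closure D)ᶜ), ?_, hne.image _, ?_, ?_⟩
    · rw [← hrange]; exact Set.image_subset_range _ _
    · have h1 : Z \ (j.base '' ((closure D)ᶜ)) = j.base '' (closure D) := by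
        rw [← hrange, ← Set.image_univ, ← Set.image_diff hjc.injective, ← Set.compl_eq_univ_diff,
          compl_compl]
      rw [h1]
      exact hjc.isClosedMap _ isClosed_closure
    · have h2 : toBase x f ⁻¹' (j.base '' ((closure D)ᶜ)) = ∅ := by
        rw [Set.eq_empty_iff_forall_notMem]
        rintro w ⟨q, hq, hqw⟩
        apply hq
        apply subset_closure
        rw [hDdef]
        exact ⟨w, hqw.symm⟩
      rw [h2]
      exact isCompact_empty

section Reduction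

open AlgSp Groth.Agent.H3.AlgStProps Groth.Agent.H3.AlgStLES Groth.Agent.H3.AlgStDescent

/-- a morphism from a quasi-compact algebraic space to an affine scheme is quasi-compact -/
theorem isQuasiCompactMor_to_affine {F : Sp S} (hF : IsAlgSpace F) (hFqc : IsQuasiCompactSp F)
    {X : Over S} [IsAffine X.left] (p : F ⟶ (yon S).obj X) : IsQuasiCompactMor p := by
  apply Groth.Agent.H5.AlgSp.isQuasiCompactMor_of_forall_affine hF (IsAlgSpace.yon_obj X)
  intro Z hZ g P fst snd sq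
  have : IsAffine Z.left := hZ
  obtain ⟨γ, rfl⟩ := (yon S).map_surjective g
  have hγ : RepWith @QuasiCompact ((yon S).map γ) :=
    (repWith_yon_map_iff _ _).2 (inferInstance : QuasiCompact γ.left)
  exact Groth.Agent.H5.AlgSp.isQuasiCompactSp_of_isPullback_repWith hγ hFqc sq.flip

/-- **Over an affine Noetherian chart** the base change of `f` is quasi-compact. -/
theorem rep_qc_fpFst_of_noeth (h𝒳 : AlgSt.IsAlgStack Scheme.fppfPrecoverage 𝒳)
    (h𝒴 : AlgSt.IsAlgStack Scheme.fppfPrecoverage 𝒴) (f : 𝒴 ⥤ᵇ 𝒳) (hrep : AlgSt.RepByAlgSp1 f)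
    (ha : AlgSt.IsMono f) (hc : DenseLift f) (A₀ : Type u) [CommRing A₀] [IsNoetherianRing A₀]
    (sX : Spec (CommRingCat.of A₀) ⟶ S) (x : FibCat.overCat (Over.mk sX) ⥤ᵇ 𝒳) :
    AlgSt.RepByAlgSpWith AlgSp.IsQuasiCompactMor (FibCat.fpFst x f) := by
  have hXst := Groth.Agent.H3.AlgStQCMor.isAlgStack_overCat (Over.mk sX)
  have hfp : AlgSt.IsAlgStack Scheme.fppfPrecoverage (FibCat.fp x f) :=
    Groth.Agent.H3.AlgStAlgebraic.isAlgStack_fp h𝒳.isStack h𝒳.diag hXst h𝒴 x f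
  have hcpt := compactSpace_points_fp_of_noeth h𝒳 h𝒴 f ha hc A₀ sX x
  have hqc : AlgSt.IsQuasiCompact (FibCat.fp x f) := (isQuasiCompact_iff_compactSpace hfp).2 hcpt
  obtain ⟨F, e, he⟩ := hrep (Over.mk sX) x
  have hFqc : AlgSp.IsQuasiCompactSp F.obj :=
    (Groth.Agent.H3.AlgStQCMor.isQuasiCompact_ofSp_iff F).1
      (Groth.Agent.H3.AlgStQCMor.isQuasiCompact_of_isEquivOver' (isAlgStack_ofSp F) hfp e he hqc)
  have haff : IsAffine (Over.mk sX).left := (inferInstance : IsAffine (Spec (CommRingCat.of A₀)))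
  have hp : AlgSp.IsQuasiCompactMor (AlgSt.spMapOfOver (BasedFunctor.comp e (FibCat.fpFst x f))) :=
    isQuasiCompactMor_to_affine F.property hFqc _
  rw [← repByAlgSpWith_comp_equiv_iff _ e he,
    repByAlgSpWith_iff_spMapOfOver _ good_isQuasiCompactMor.bc good_isQuasiCompactMor.toC.charts F]
  exact hp

/-- transfer along a 2-commutative square of scheme charts -/
theorem rep_fpFst_of_iso_chart (P : MorphismProperty (Sp S)) (f : 𝒴 ⥤ᵇ 𝒳) {U V X : Over S}
    (y : FibCat.overCat U ⥤ᵇ 𝒳) (x : FibCat.overCat X ⥤ᵇ 𝒳) (h : V ⟶ U) (k : V ⟶ X)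
    (ι : BasedFunctor.comp (AlgSt.overMap h) y ≅ BasedFunctor.comp (AlgSt.overMap k) x)
    (hx : AlgSt.RepByAlgSpWith P (FibCat.fpFst x f)) :
    AlgSt.RepByAlgSpWith P (FibCat.fpFst (AlgSt.overMap h) (FibCat.fpFst y f)) := by
  have h1 : AlgSt.RepByAlgSpWith P (FibCat.fpFst (AlgSt.overMap k) (FibCat.fpFst x f)) :=
    repByAlgSpWith_fpFst P (FibCat.fpFst x f) (AlgSt.overMap k) hx
  rw [← pasteL_comp_fpFst, repByAlgSpWith_comp_equiv_iff P _ (isEquivOver_pasteL _ _ _)] at h1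
  have h3 : AlgSt.RepByAlgSpWith P (FibCat.fpFst (BasedFunctor.comp (AlgSt.overMap h) y) f) :=
    repByAlgSpWith_fpFst_of_iso P f ι.symm h1
  rw [← pasteL_comp_fpFst, repByAlgSpWith_comp_equiv_iff P _ (isEquivOver_pasteL _ _ _)]
  exact h3

end Reduction

section Final

open AlgSp Groth.Agent.H3.AlgStProps Groth.Agent.H3.AlgStLES Groth.Agent.H3.AlgStDescent

/-- the sieve of maps `h : V ⟶ U` along which `y` factors through an affine Noetherian chart -/
def goodSieve {U : Over S} (y : FibCat.overCat U ⥤ᵇ 𝒳) : Sieve U where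
  arrows V h := ∃ (A₀ : Type u) (_ : CommRing A₀) (_ : IsNoetherianRing A₀)
      (sX : Spec (CommRingCat.of A₀) ⟶ S) (x : FibCat.overCat (Over.mk sX) ⥤ᵇ 𝒳)
      (k : V ⟶ Over.mk sX),
      Nonempty (BasedFunctor.comp (AlgSt.overMap h) y ≅ BasedFunctor.comp (AlgSt.overMap k) x)
  downward_closed := by
    rintro V V' h ⟨A₀, i1, i2, sX, x, k, ⟨ι⟩⟩ g
    refine ⟨A₀, i1, i2, sX, x, g ≫ k, ?_⟩
    obtain ⟨κ₁⟩ := overMapComp g h
    obtain ⟨κ₂⟩ := overMapComp g k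
    let ι₁ : BasedFunctor.comp (AlgSt.overMap (g ≫ h)) y ≅
        BasedFunctor.comp (AlgSt.overMap g) (BasedFunctor.comp (AlgSt.overMap h) y) :=
      whiskerR κ₁.symm y
    let ι₂ : BasedFunctor.comp (AlgSt.overMap g) (BasedFunctor.comp (AlgSt.overMap h) y) ≅
        BasedFunctor.comp (AlgSt.overMap g) (BasedFunctor.comp (AlgSt.overMap k) x) :=
      whiskerL (AlgSt.overMap g) ι
    let ι₃ : BasedFunctor.comp (AlgSt.overMap g) (BasedFunctor.comp (AlgSt.overMap k) x) ≅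
        BasedFunctor.comp (AlgSt.overMap (g ≫ k)) x :=
      whiskerR κ₂ x
    exact ⟨ι₁ ≪≫ ι₂ ≪≫ ι₃⟩

/-- on a locally Noetherian algebraic stack, the good sieve is covering -/
theorem goodSieve_mem_J (h𝒳 : AlgSt.IsAlgStack Scheme.fppfPrecoverage 𝒳)
    (hnoeth : AlgSt.SmoothLocally (fun X => IsLocallyNoetherian X) 𝒳)
    {U : Over S} (y : FibCat.overCat U ⥤ᵇ 𝒳) : goodSieve y ∈ J S U := by
  obtain ⟨X₀, x₀, hx₁, hx₂⟩ := h𝒳.atlas
  have hN : IsLocallyNoetherian X₀.left := hnoeth X₀ x₀ hx₁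
  obtain ⟨R₀, hR₀, hlift⟩ := Groth.Agent.H3.AlgStDiagLft.les_of_smooth_surjective x₀ hx₁ hx₂ U y
  refine (J S).transitive hR₀ _ ?_
  intro V h hh
  obtain ⟨z, ⟨ιz⟩⟩ := hlift h hh
  obtain ⟨t, ⟨ιt⟩⟩ := exists_overMap_iso z
  -- the affine open cover of the atlas
  apply Groth.Agent.H5.AlgSp.mem_J_of_openCover
    (fun A : X₀.left.affineOpens => t.left ⁻¹ᵁ A.1)
  · intro v
    obtain ⟨_, ⟨A, hA, rfl⟩, htA, -⟩ :=
      X₀.left.isBasis_affineOpens.exists_subset_of_mem_open (Set.mem_univ (t.left v)) isOpen_univ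
    exact ⟨⟨A, hA⟩, htA⟩
  · intro A
    obtain ⟨W, hW⟩ : ∃ W : V.left.Opens, W = t.left ⁻¹ᵁ A.1 := ⟨_, rfl⟩
    rw [← hW]
    have hNA : IsNoetherianRing Γ(X₀.left, A.1) := IsLocallyNoetherian.component_noetherian A
    have hrange : Set.range (W.ι ≫ t.left).base ⊆ Set.range A.2.fromSpec.base := by
      rw [A.2.range_fromSpec]
      rintro _ ⟨w, rfl⟩
      have : (W.ι.base w) ∈ t.left ⁻¹ᵁ A.1 := by rw [← hW]; exact w.2
      exact this
    obtain ⟨k₀, hk₀⟩ : ∃ k₀, k₀ = IsOpenImmersion.lift A.2.fromSpec (W.ι ≫ t.left) hrange :=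
      ⟨_, rfl⟩
    have hfac : k₀ ≫ A.2.fromSpec = W.ι ≫ t.left := by
      rw [hk₀]; exact IsOpenImmersion.lift_fac _ _ _
    let jA : Over.mk (A.2.fromSpec ≫ X₀.hom) ⟶ X₀ := Over.homMk A.2.fromSpec rfl
    let k : Groth.Agent.H5.AlgSp.overOpen V W ⟶ Over.mk (A.2.fromSpec ≫ X₀.hom) :=
      Over.homMk k₀ (by
        show k₀ ≫ A.2.fromSpec ≫ X₀.hom = W.ι ≫ V.hom
        rw [← Category.assoc, hfac, Category.assoc, Over.w t])
    have hkj : k ≫ jA = Groth.Agent.H5.AlgSp.overOpenι V W ≫ t := by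
      ext
      exact hfac
    refine ⟨Γ(X₀.left, A.1), inferInstance, hNA, A.2.fromSpec ≫ X₀.hom,
      BasedFunctor.comp (AlgSt.overMap jA) x₀, k, ?_⟩
    obtain ⟨κ₁⟩ := overMapComp (Groth.Agent.H5.AlgSp.overOpenι V W) h
    obtain ⟨κ₂⟩ := overMapComp (Groth.Agent.H5.AlgSp.overOpenι V W) t
    obtain ⟨κ₃⟩ := overMapComp k jA
    rw [hkj] at κ₃
    let ι₁ : BasedFunctor.comp (AlgSt.overMap (Groth.Agent.H5.AlgSp.overOpenι V W ≫ h)) y ≅
        BasedFunctor.comp (AlgSt.overMap (Groth.Agent.H5.AlgSp.overOpenι V W))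
          (BasedFunctor.comp (AlgSt.overMap h) y) := whiskerR κ₁.symm y
    let ι₂ : BasedFunctor.comp (AlgSt.overMap (Groth.Agent.H5.AlgSp.overOpenι V W))
          (BasedFunctor.comp (AlgSt.overMap h) y) ≅
        BasedFunctor.comp (AlgSt.overMap (Groth.Agent.H5.AlgSp.overOpenι V W))
          (BasedFunctor.comp z x₀) :=
      whiskerL (AlgSt.overMap (Groth.Agent.H5.AlgSp.overOpenι V W)) ιz.symm
    let ι₃ : BasedFunctor.comp (AlgSt.overMap (Groth.Agent.H5.AlgSp.overOpenι V W))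
          (BasedFunctor.comp z x₀) ≅
        BasedFunctor.comp (AlgSt.overMap (Groth.Agent.H5.AlgSp.overOpenι V W))
          (BasedFunctor.comp (AlgSt.overMap t) x₀) :=
      whiskerL (AlgSt.overMap (Groth.Agent.H5.AlgSp.overOpenι V W)) (whiskerR ιt x₀)
    let ι₄ : BasedFunctor.comp (AlgSt.overMap (Groth.Agent.H5.AlgSp.overOpenι V W))
          (BasedFunctor.comp (AlgSt.overMap t) x₀) ≅
        BasedFunctor.comp (AlgSt.overMap (Groth.Agent.H5.AlgSp.overOpenι V W ≫ t)) x₀ :=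
      whiskerR κ₂ x₀
    let ι₅ : BasedFunctor.comp (AlgSt.overMap (Groth.Agent.H5.AlgSp.overOpenι V W ≫ t)) x₀ ≅
        BasedFunctor.comp (AlgSt.overMap k) (BasedFunctor.comp (AlgSt.overMap jA) x₀) :=
      whiskerR κ₃.symm x₀
    exact ⟨ι₁ ≪≫ ι₂ ≪≫ ι₃ ≪≫ ι₄ ≪≫ ι₅⟩

/-- **S15357** (core): on a locally Noetherian algebraic stack, a monomorphism representable by
algebraic spaces satisfying the dense lifting condition is quasi-compact. -/
theorem rep_qc_of_noeth (h𝒳 : AlgSt.IsAlgStack Scheme.fppfPrecoverage 𝒳)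
    (h𝒴 : AlgSt.IsAlgStack Scheme.fppfPrecoverage 𝒴)
    (hnoeth : AlgSt.SmoothLocally (fun X => IsLocallyNoetherian X) 𝒳) (f : 𝒴 ⥤ᵇ 𝒳)
    (hrep : AlgSt.RepByAlgSp1 f) (ha : AlgSt.IsMono f) (hc : DenseLift f) :
    AlgSt.RepByAlgSpWith AlgSp.IsQuasiCompactMor f := by
  intro U y
  obtain ⟨F, e, he⟩ := hrep U y
  refine ⟨F, e, he, spMapOfOver_of_sieve _ good_isQuasiCompactMor.bc good_isQuasiCompactMor.loc
    (FibCat.fpFst y f) F e he (goodSieve y) (goodSieve_mem_J h𝒳 hnoeth y) ?_⟩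
  rintro V h ⟨A₀, i1, i2, sX, x, k, ⟨ι⟩⟩
  exact rep_fpFst_of_iso_chart _ f y x h k ι (rep_qc_fpFst_of_noeth h𝒳 h𝒴 f hrep ha hc A₀ sX x)

end Final

end Groth.Agent.H3.NoethQC
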