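import Mathlib
import Groth.Agent.Lib.Helper3.AlgSt.NoethQC

/-!
# Quasi-compactness of the diagonal by Noetherian induction (helper3)
-/

set_option autoImplicit false
universe u
open CategoryTheory CategoryTheory.Functor CategoryTheory.Limits Opposite AlgebraicGeometry

noncomputable section

namespace Groth.Agent.H3.NoethDiag

open Groth.Agent.H3.FibCatAux Groth.Agent.H3.GerbAux Groth.Agent.H3.FpCalc Groth.Agent.H3.TwoCart
  Groth.Agent.H3.StackPsh Groth.Agent.H3.PshBridge Groth.Agent.H3.AlgStAux Groth.Agent.H3.RepBridge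
  Groth.Agent.H3.Whisker Groth.Agent.H3.FPtRel Groth.Agent.H3.AlgStPoints
  Groth.Agent.H3.AlgStBridge2 Groth.Agent.H3.AlgStCharts Groth.Agent.H3.NoethQC
open TopologicalSpace

variable {S : Scheme.{u}} {𝒳 𝒴 : AlgSt.Cat S}

section General

/-- **Noetherian induction**, general form: the space of points of `X ×_𝒳 𝒴`, `X` affine Noetherian,
is compact as soon as over every integral closed subscheme of `X` over which the fibres are
generically nonempty, some nonempty open has compact preimage. -/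
theorem compactSpace_points_fp_of_forall_domain (f : 𝒴 ⥤ᵇ 𝒳) (A₀ : Type u) [CommRing A₀]
    [IsNoetherianRing A₀] (sX : Spec (CommRingCat.of A₀) ⟶ S)
    (x : FibCat.overCat (Over.mk sX) ⥤ᵇ 𝒳)
    (H : ∀ (A : Type u) [CommRing A] [IsDomain A] [IsNoetherianRing A] (φ : A₀ →+* A),
      Function.Surjective φ →
      Dense {q : ↥(Spec (CommRingCat.of A)) |
        (Spec.map (CommRingCat.ofHom φ)).base q ∈ Set.range (toBase x f)} →
      ∃ U : (Spec (CommRingCat.of A)).Opens, (U : Set ↥(Spec (CommRingCat.of A))).Nonempty ∧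
        IsCompact (toBase x f ⁻¹' ((Spec.map (CommRingCat.ofHom φ)).base ''
          (U : Set ↥(Spec (CommRingCat.of A)))))) :
    CompactSpace (AlgSt.Points (FibCat.fp x f)) := by
  have hN0 : IsNoetherianRing ↑(CommRingCat.of A₀) := ‹IsNoetherianRing A₀›
  have hN : NoetherianSpace ↥(Over.mk sX).left :=
    (inferInstance : NoetherianSpace ↥(Spec (CommRingCat.of A₀)))
  apply Groth.Agent.H3.NoethCompact.compactSpace_of_noetherian (toBase x f)
  intro Z hZc hZi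
  obtain ⟨A, _, _, φ, hφ, hrange⟩ := exists_quotient_of_irreducible A₀ Z hZc hZi
  have hAN : IsNoetherianRing A := isNoetherianRing_of_surjective A₀ A φ hφ
  obtain ⟨j, hjdef⟩ : ∃ j : Spec (CommRingCat.of A) ⟶ Spec (CommRingCat.of A₀),
    j = Spec.map (CommRingCat.ofHom φ) := ⟨_, rfl⟩
  have H' := H A φ hφ
  rw [← hjdef] at hrange H'
  have hj : IsClosedImmersion j := by
    rw [hjdef]; exact IsClosedImmersion.spec_of_surjective _ hφ
  have hjc : Topology.IsClosedEmbedding j.base := j.isClosedEmbedding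
  obtain ⟨D, hDdef⟩ : ∃ D : Set ↥(Spec (CommRingCat.of A)),
    D = {q | j.base q ∈ Set.range (toBase x f)} := ⟨_, rfl⟩
  rw [← hDdef] at H'
  by_cases hD : Dense D
  · obtain ⟨U, hUne, hUc⟩ := H' hD
    refine ⟨j.base '' (U : Set ↥(Spec (CommRingCat.of A))), ?_, hUne.image _, ?_, hUc⟩
    · rw [← hrange]; exact Set.image_subset_range _ _
    · have h1 : Z \ (j.base '' (U : Set ↥(Spec (CommRingCat.of A)))) =
          j.base '' ((U : Set ↥(Spec (CommRingCat.of A)))ᶜ) := by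
        rw [← hrange, ← Set.image_univ, ← Set.image_sdiff hjc.injective, Set.compl_eq_univ_sdiff]
      rw [h1]
      exact hjc.isClosedMap _ U.isOpen.isClosed_compl
  · -- the image is not dense: the complement of its closure has empty preimage
    have hne : ((closure D)ᶜ : Set ↥(Spec (CommRingCat.of A))).Nonempty := by
      rw [Set.nonempty_compl]
      exact fun h => hD (dense_iff_closure_eq.2 h)
    refine ⟨j.base '' ((closure D)ᶜ), ?_, hne.image _, ?_, ?_⟩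
    · rw [← hrange]; exact Set.image_subset_range _ _
    · have h1 : Z \ (j.base '' ((closure D)ᶜ)) = j.base '' (closure D) := by
        rw [← hrange, ← Set.image_univ, ← Set.image_sdiff hjc.injective, ← Set.compl_eq_univ_sdiff,
          compl_compl]
      rw [h1]
      exact hjc.isClosedMap _ isClosed_closure
    · have h2 : toBase x f ⁻¹' (j.base '' ((closure D)ᶜ)) = ∅ := by
        rw [Set.eq_empty_iff_forall_notMem]
        rintro w ⟨q, hq, hqw⟩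
        apply hq
        apply subset_closure
        rw [hDdef]
        exact ⟨w, hqw.symm⟩
      rw [h2]
      exact isCompact_empty

/-- the part of `|X ×_𝒳 𝒴|` over the image of `u : U ⟶ X` is compact as soon as `U ×_𝒳 𝒴` is
quasi-compact -/
theorem isCompact_preimage_of_isQuasiCompact (h𝒳 : AlgSt.IsAlgStack Scheme.fppfPrecoverage 𝒳)
    (h𝒴 : AlgSt.IsAlgStack Scheme.fppfPrecoverage 𝒴) (f : 𝒴 ⥤ᵇ 𝒳)
    {X U : Over S} (x : FibCat.overCat X ⥤ᵇ 𝒳) (u : U ⟶ X)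
    (hqc : AlgSt.IsQuasiCompact (FibCat.fp (BasedFunctor.comp (AlgSt.overMap u) x) f)) :
    IsCompact (toBase x f ⁻¹' Set.range u.left) := by
  have hXst := Groth.Agent.H3.AlgStQCMor.isAlgStack_overCat X
  have hUst := Groth.Agent.H3.AlgStQCMor.isAlgStack_overCat U
  have hfp : AlgSt.IsAlgStack Scheme.fppfPrecoverage (FibCat.fp x f) :=
    Groth.Agent.H3.AlgStAlgebraic.isAlgStack_fp h𝒳.isStack h𝒳.diag hXst h𝒴 x f
  have hfp2 : AlgSt.IsAlgStack Scheme.fppfPrecoverage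
      (FibCat.fp (BasedFunctor.comp (AlgSt.overMap u) x) f) :=
    Groth.Agent.H3.AlgStAlgebraic.isAlgStack_fp h𝒳.isStack h𝒳.diag hUst h𝒴 _ f
  have hfp3 : AlgSt.IsAlgStack Scheme.fppfPrecoverage
      (FibCat.fp (AlgSt.overMap u) (FibCat.fpFst x f)) :=
    Groth.Agent.H3.AlgStAlgebraic.isAlgStack_fp hXst.isStack hXst.diag hUst hfp _ _
  have hqc3 : AlgSt.IsQuasiCompact (FibCat.fp (AlgSt.overMap u) (FibCat.fpFst x f)) :=
    Groth.Agent.H3.AlgStQCMor.isQuasiCompact_of_isEquivOver' hfp3 hfp2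
      (pasteL (AlgSt.overMap u) x f) (isEquivOver_pasteL _ _ _) hqc
  have hcpt : CompactSpace (AlgSt.Points (FibCat.fp (AlgSt.overMap u) (FibCat.fpFst x f))) :=
    (isQuasiCompact_iff_compactSpace hfp3).1 hqc3
  have key : toBase x f ⁻¹' Set.range u.left =
      Set.range (AlgSt.Points.map (FibCat.fpSnd (AlgSt.overMap u) (FibCat.fpFst x f))) := by
    ext w
    constructor
    · rintro ⟨τ, hτ⟩
      have h1 := (toBase_eq_iff x f w _).1 hτ.symm
      have h2 : AlgSt.Points.map (AlgSt.overMap u) (chartPt U τ) =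
          AlgSt.Points.map (FibCat.fpFst x f) w := by
        rw [h1, chartPt_overMap]
      obtain ⟨v, -, hv⟩ := exists_point_fp hfp.isStack.1 hXst.isStack.1 hUst.isStack.1
        (FibCat.fpFst x f) (AlgSt.overMap u) (chartPt U τ) w h2
      exact ⟨v, hv⟩
    · rintro ⟨v, rfl⟩
      obtain ⟨τ, hτ⟩ := chartPt_surjective U
        (AlgSt.Points.map (FibCat.fpFst (AlgSt.overMap u) (FibCat.fpFst x f)) v)
      refine ⟨τ, ?_⟩
      symm
      rw [toBase_eq_iff, ← points_map_comp, ← chartPt_overMap, hτ, ← points_map_comp]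
      exact (points_map_congr (FibCat.fpIso (AlgSt.overMap u) (FibCat.fpFst x f)) v).symm
  rw [key]
  exact isCompact_range (continuous_points_map hfp _)

end General

section Pair

open Groth.Agent.H3.AlgStProd Groth.Agent.H3.AlgStDiag Groth.Agent.H3.AlgStProdMap
  Groth.Agent.H3.AlgStLES

variable {𝒲 𝒳₁ 𝒳₂ : AlgSt.Cat S}

/-- two functors into a product over the base are isomorphic as soon as their components are -/
def isoOfComponents (s : 𝒳₁ ⥤ᵇ FibCat.selfOver (Over S)) (t : 𝒳₂ ⥤ᵇ FibCat.selfOver (Over S))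
    (c c' : 𝒲 ⥤ᵇ FibCat.fp s t)
    (α : BasedFunctor.comp c (FibCat.fpFst s t) ≅ BasedFunctor.comp c' (FibCat.fpFst s t))
    (β : BasedFunctor.comp c (FibCat.fpSnd s t) ≅ BasedFunctor.comp c' (FibCat.fpSnd s t)) :
    c ≅ c' :=
  BasedNatIso.mkNatIso
    (NatIso.ofComponents
      (fun w => fpIsoMk (X := c.obj w) (Y := c'.obj w) (appIso α w) (appIso β w) (by
        have hw : 𝒳₁.p.obj (c.obj w).obj.fst = 𝒲.p.obj w := c.w_obj w
        have hw' : 𝒳₁.p.obj (c'.obj w).obj.fst = 𝒲.p.obj w := c'.w_obj w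
        have h1 : (FibCat.selfOver (Over S)).p.IsHomLift (𝟙 (𝒲.p.obj w)) (c.obj w).obj.iso.hom := by
          have h0 : (FibCat.selfOver (Over S)).p.IsHomLift (𝟙 (𝒳₁.p.obj (c.obj w).obj.fst))
            (c.obj w).obj.iso.hom := (c.obj w).property
          rw [hw] at h0
          exact h0
        have h2 : (FibCat.selfOver (Over S)).p.IsHomLift (𝟙 (𝒲.p.obj w))
            (c'.obj w).obj.iso.hom := by
          have h0 : (FibCat.selfOver (Over S)).p.IsHomLift (𝟙 (𝒳₁.p.obj (c'.obj w).obj.fst))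
            (c'.obj w).obj.iso.hom := (c'.obj w).property
          rw [hw'] at h0
          exact h0
        have h3 : 𝒳₁.p.IsHomLift (𝟙 (𝒲.p.obj w)) (appIso α w).hom :=
          appIso_hom_isHomLift α w rfl
        have h4 : 𝒳₂.p.IsHomLift (𝟙 (𝒲.p.obj w)) (appIso β w).hom :=
          appIso_hom_isHomLift β w rfl
        have h5 : (FibCat.selfOver (Over S)).p.IsHomLift (𝟙 (𝒲.p.obj w))
            (s.map (appIso α w).hom) := inferInstance
        have h6 : (FibCat.selfOver (Over S)).p.IsHomLift (𝟙 (𝒲.p.obj w))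
            (t.map (appIso β w).hom) := inferInstance
        have h7 : (FibCat.selfOver (Over S)).p.IsHomLift (𝟙 (𝒲.p.obj w) ≫ 𝟙 (𝒲.p.obj w))
            (s.map (appIso α w).hom ≫ (c'.obj w).obj.iso.hom) :=
          @IsHomLift.comp _ _ _ _ (FibCat.selfOver (Over S)).p _ _ _ _ _ _ (𝟙 (𝒲.p.obj w))
            (𝟙 (𝒲.p.obj w)) (s.map (appIso α w).hom) ((c'.obj w).obj.iso.hom) h5 h2
        have h8 : (FibCat.selfOver (Over S)).p.IsHomLift (𝟙 (𝒲.p.obj w) ≫ 𝟙 (𝒲.p.obj w))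
            ((c.obj w).obj.iso.hom ≫ t.map (appIso β w).hom) :=
          @IsHomLift.comp _ _ _ _ (FibCat.selfOver (Over S)).p _ _ _ _ _ _ (𝟙 (𝒲.p.obj w))
            (𝟙 (𝒲.p.obj w)) ((c.obj w).obj.iso.hom) (t.map (appIso β w).hom) h1 h6
        rw [Category.comp_id] at h7 h8
        exact Groth.Agent.H3.AlgStDiag.selfOver_hom_eq _ _ h7 h8))
      (fun {w w'} g => by
        apply fp_hom_ext
        · exact appIso_hom_naturality α g
        · exact appIso_hom_naturality β g))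
    (fun w => by
      rw [fp_isHomLift_iff]
      exact appIso_hom_isHomLift α w rfl)

end Pair

section Product

open Groth.Agent.H3.AlgStProd Groth.Agent.H3.AlgStDiag Groth.Agent.H3.AlgStProdMap
  Groth.Agent.H3.AlgStLES AlgSp

variable {𝒲 : AlgSt.Cat S}

/-- the 2-isomorphism between the structure functors of any two functors -/
def selfIso (a b : 𝒲 ⥤ᵇ 𝒳) :
    BasedFunctor.comp a (FibCat.toSelf 𝒳) ≅ BasedFunctor.comp b (FibCat.toSelf 𝒳) :=
  eqToIso ((eq_toSelf _).trans (eq_toSelf _).symm)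

/-- the functor to `𝒳 ×_S 𝒳` with given components -/
def pairF (a b : 𝒲 ⥤ᵇ 𝒳) : 𝒲 ⥤ᵇ FibCat.fp (FibCat.toSelf 𝒳) (FibCat.toSelf 𝒳) :=
  FibCat.fpLift a b (selfIso a b)

lemma pairF_fst (a b : 𝒲 ⥤ᵇ 𝒳) :
    BasedFunctor.comp (pairF a b) (FibCat.fpFst (FibCat.toSelf 𝒳) (FibCat.toSelf 𝒳)) = a := rfl

lemma pairF_snd (a b : 𝒲 ⥤ᵇ 𝒳) :
    BasedFunctor.comp (pairF a b) (FibCat.fpSnd (FibCat.toSelf 𝒳) (FibCat.toSelf 𝒳)) = b := rfl

/-- a functor to `𝒳 ×_S 𝒳` is the pair of its components -/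
def isoPairF (c : 𝒲 ⥤ᵇ FibCat.fp (FibCat.toSelf 𝒳) (FibCat.toSelf 𝒳)) (a b : 𝒲 ⥤ᵇ 𝒳)
    (α : BasedFunctor.comp c (FibCat.fpFst (FibCat.toSelf 𝒳) (FibCat.toSelf 𝒳)) ≅ a)
    (β : BasedFunctor.comp c (FibCat.fpSnd (FibCat.toSelf 𝒳) (FibCat.toSelf 𝒳)) ≅ b) :
    c ≅ pairF a b :=
  isoOfComponents (FibCat.toSelf 𝒳) (FibCat.toSelf 𝒳) c (pairF a b) α β

/-- the fibre product `X₀ ×_S X₀` over `S` -/
def prodOver (X₀ : Over S) : Over S := Over.mk (pullback.fst X₀.hom X₀.hom ≫ X₀.hom)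

/-- first projection -/
def prodFst (X₀ : Over S) : prodOver X₀ ⟶ X₀ := Over.homMk (pullback.fst X₀.hom X₀.hom) rfl

/-- second projection -/
def prodSnd (X₀ : Over S) : prodOver X₀ ⟶ X₀ :=
  Over.homMk (pullback.snd X₀.hom X₀.hom) pullback.condition.symm

/-- the map to the product -/
def prodLift {X₀ V : Over S} (t₁ t₂ : V ⟶ X₀) : V ⟶ prodOver X₀ :=
  Over.homMk (pullback.lift t₁.left t₂.left (by rw [Over.w t₁, Over.w t₂])) (by
    show pullback.lift t₁.left t₂.left _ ≫ pullback.fst X₀.hom X₀.hom ≫ X₀.hom = V.hom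
    rw [pullback.lift_fst_assoc, Over.w t₁])

lemma prodLift_fst {X₀ V : Over S} (t₁ t₂ : V ⟶ X₀) : prodLift t₁ t₂ ≫ prodFst X₀ = t₁ := by
  apply Over.OverMorphism.ext
  exact pullback.lift_fst _ _ _

lemma prodLift_snd {X₀ V : Over S} (t₁ t₂ : V ⟶ X₀) : prodLift t₁ t₂ ≫ prodSnd X₀ = t₂ := by
  apply Over.OverMorphism.ext
  exact pullback.lift_snd _ _ _

/-- restricting the chart: the good sieve of a restriction is contained in the pullback -/
lemma goodSieve_le_pullback {U V : Over S} (h : V ⟶ U) (y : FibCat.overCat U ⥤ᵇ 𝒳) :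
    goodSieve (BasedFunctor.comp (AlgSt.overMap h) y) ≤ (goodSieve y).pullback h := by
  rintro V' g ⟨A₀, i1, i2, sX, x, k, ⟨ι⟩⟩
  refine ⟨A₀, i1, i2, sX, x, k, ?_⟩
  obtain ⟨κ⟩ := overMapComp g h
  let ι₁ : BasedFunctor.comp (AlgSt.overMap (g ≫ h)) y ≅
      BasedFunctor.comp (AlgSt.overMap g) (BasedFunctor.comp (AlgSt.overMap h) y) :=
    whiskerR κ.symm y
  exact ⟨ι₁ ≪≫ ι⟩

/-- the good sieve is covering as soon as the chart lifts locally to a locally Noetherian scheme -/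
theorem goodSieve_mem_J_of_chart (X₀ : Over S) (x₀ : FibCat.overCat X₀ ⥤ᵇ 𝒳)
    (hN : IsLocallyNoetherian X₀.left) {U : Over S} (y : FibCat.overCat U ⥤ᵇ 𝒳)
    (R₀ : Sieve U) (hR₀ : R₀ ∈ J S U)
    (hlift : ∀ ⦃V : Over S⦄ (h : V ⟶ U), R₀.arrows h → ∃ t : V ⟶ X₀,
      Nonempty (BasedFunctor.comp (AlgSt.overMap t) x₀ ≅ BasedFunctor.comp (AlgSt.overMap h) y)) :
    goodSieve y ∈ J S U := by
  refine (J S).transitive hR₀ _ ?_
  intro V h hh
  obtain ⟨t, ⟨ιt⟩⟩ := hlift h hh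
  apply Groth.Agent.H5.AlgSp.mem_J_of_openCover
    (fun A : X₀.left.affineOpens => t.left ⁻¹ᵁ A.1)
  · intro v
    obtain ⟨_, ⟨A, hA, rfl⟩, htA, -⟩ :=
      X₀.left.isBasis_affineOpens.exists_subset_of_mem_open (Set.mem_univ (t.left v)) isOpen_univ
    exact ⟨⟨A, hA⟩, htA⟩
  · intro A
    obtain ⟨W, hW⟩ : ∃ W : V.left.Opens, W = t.left ⁻¹ᵁ A.1 := ⟨_, rfl⟩
    rw [← hW]
    have hNA : IsNoetherianRing Γ(X₀.left, A.1) := IsLocallyNoetherian.component_noetherian A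
    have hrange : Set.range (W.ι ≫ t.left).base ⊆ Set.range A.2.fromSpec.base := by
      rw [A.2.range_fromSpec]
      rintro _ ⟨w, rfl⟩
      have : (W.ι.base w) ∈ t.left ⁻¹ᵁ A.1 := by rw [← hW]; exact w.2
      exact this
    obtain ⟨k₀, hk₀⟩ : ∃ k₀, k₀ = IsOpenImmersion.lift A.2.fromSpec (W.ι ≫ t.left) hrange :=
      ⟨_, rfl⟩
    have hfac : k₀ ≫ A.2.fromSpec = W.ι ≫ t.left := by
      rw [hk₀]; exact IsOpenImmersion.lift_fac _ _ _
    let jA : Over.mk (A.2.fromSpec ≫ X₀.hom) ⟶ X₀ := Over.homMk A.2.fromSpec rfl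
    let k : Groth.Agent.H5.AlgSp.overOpen V W ⟶ Over.mk (A.2.fromSpec ≫ X₀.hom) :=
      Over.homMk k₀ (by
        show k₀ ≫ A.2.fromSpec ≫ X₀.hom = W.ι ≫ V.hom
        rw [← Category.assoc, hfac, Category.assoc, Over.w t])
    have hkj : k ≫ jA = Groth.Agent.H5.AlgSp.overOpenι V W ≫ t := by
      ext
      exact hfac
    refine ⟨Γ(X₀.left, A.1), inferInstance, hNA, A.2.fromSpec ≫ X₀.hom,
      BasedFunctor.comp (AlgSt.overMap jA) x₀, k, ?_⟩
    obtain ⟨κ₁⟩ := overMapComp (Groth.Agent.H5.AlgSp.overOpenι V W) h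
    obtain ⟨κ₂⟩ := overMapComp (Groth.Agent.H5.AlgSp.overOpenι V W) t
    obtain ⟨κ₃⟩ := overMapComp k jA
    rw [hkj] at κ₃
    let ι₁ : BasedFunctor.comp (AlgSt.overMap (Groth.Agent.H5.AlgSp.overOpenι V W ≫ h)) y ≅
        BasedFunctor.comp (AlgSt.overMap (Groth.Agent.H5.AlgSp.overOpenι V W))
          (BasedFunctor.comp (AlgSt.overMap h) y) := whiskerR κ₁.symm y
    let ι₃ : BasedFunctor.comp (AlgSt.overMap (Groth.Agent.H5.AlgSp.overOpenι V W))
          (BasedFunctor.comp (AlgSt.overMap h) y) ≅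
        BasedFunctor.comp (AlgSt.overMap (Groth.Agent.H5.AlgSp.overOpenι V W))
          (BasedFunctor.comp (AlgSt.overMap t) x₀) :=
      whiskerL (AlgSt.overMap (Groth.Agent.H5.AlgSp.overOpenι V W)) ιt.symm
    let ι₄ : BasedFunctor.comp (AlgSt.overMap (Groth.Agent.H5.AlgSp.overOpenι V W))
          (BasedFunctor.comp (AlgSt.overMap t) x₀) ≅
        BasedFunctor.comp (AlgSt.overMap (Groth.Agent.H5.AlgSp.overOpenι V W ≫ t)) x₀ :=
      whiskerR κ₂ x₀
    let ι₅ : BasedFunctor.comp (AlgSt.overMap (Groth.Agent.H5.AlgSp.overOpenι V W ≫ t)) x₀ ≅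
        BasedFunctor.comp (AlgSt.overMap k) (BasedFunctor.comp (AlgSt.overMap jA) x₀) :=
      whiskerR κ₃.symm x₀
    exact ⟨ι₁ ≪≫ ι₃ ≪≫ ι₄ ≪≫ ι₅⟩

/-- **the good sieve of a chart of `𝒳 ×_S 𝒳`** is covering as soon as `𝒳` has a locally essentially
surjective chart `X₀` with `X₀ ×_S X₀` locally Noetherian -/
theorem goodSieve_mem_J_prod (X₀ : Over S) (x₀ : FibCat.overCat X₀ ⥤ᵇ 𝒳) (hles : LES x₀)
    (hN : IsLocallyNoetherian (prodOver X₀).left) {U : Over S}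
    (w : FibCat.overCat U ⥤ᵇ FibCat.fp (FibCat.toSelf 𝒳) (FibCat.toSelf 𝒳)) :
    goodSieve w ∈ J S U := by
  obtain ⟨R₁, hR₁, hl₁⟩ := hles U
    (BasedFunctor.comp w (FibCat.fpFst (FibCat.toSelf 𝒳) (FibCat.toSelf 𝒳)))
  refine (J S).transitive hR₁ _ ?_
  intro V h hh
  obtain ⟨z₁, ⟨ι₁⟩⟩ := hl₁ h hh
  obtain ⟨t₁, ⟨κ₁⟩⟩ := exists_overMap_iso z₁
  refine (J S).superset_covering (goodSieve_le_pullback h w) ?_
  obtain ⟨R₂, hR₂, hl₂⟩ := hles V
    (BasedFunctor.comp (BasedFunctor.comp (AlgSt.overMap h) w)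
      (FibCat.fpSnd (FibCat.toSelf 𝒳) (FibCat.toSelf 𝒳)))
  apply goodSieve_mem_J_of_chart (prodOver X₀)
    (pairF (BasedFunctor.comp (AlgSt.overMap (prodFst X₀)) x₀)
      (BasedFunctor.comp (AlgSt.overMap (prodSnd X₀)) x₀)) hN
    (BasedFunctor.comp (AlgSt.overMap h) w) R₂ hR₂
  intro V' g hg
  obtain ⟨z₂, ⟨ι₂⟩⟩ := hl₂ g hg
  obtain ⟨t₂, ⟨κ₂⟩⟩ := exists_overMap_iso z₂
  obtain ⟨μ₁⟩ := overMapComp (prodLift (g ≫ t₁) t₂) (prodFst X₀)
  obtain ⟨μ₂⟩ := overMapComp (prodLift (g ≫ t₁) t₂) (prodSnd X₀)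
  obtain ⟨μ₃⟩ := overMapComp g t₁
  rw [prodLift_fst] at μ₁
  rw [prodLift_snd] at μ₂
  refine ⟨prodLift (g ≫ t₁) t₂, ⟨?_⟩⟩
  apply isoOfComponents
  · -- first components
    let a₁ : BasedFunctor.comp (AlgSt.overMap (prodLift (g ≫ t₁) t₂))
          (BasedFunctor.comp (AlgSt.overMap (prodFst X₀)) x₀) ≅
        BasedFunctor.comp (AlgSt.overMap (g ≫ t₁)) x₀ := whiskerR μ₁ x₀
    let a₂ : BasedFunctor.comp (AlgSt.overMap (g ≫ t₁)) x₀ ≅
        BasedFunctor.comp (AlgSt.overMap g) (BasedFunctor.comp (AlgSt.overMap t₁) x₀) :=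
      whiskerR μ₃.symm x₀
    let a₃ : BasedFunctor.comp (AlgSt.overMap g) (BasedFunctor.comp (AlgSt.overMap t₁) x₀) ≅
        BasedFunctor.comp (AlgSt.overMap g) (BasedFunctor.comp z₁ x₀) :=
      whiskerL (AlgSt.overMap g) (whiskerR κ₁.symm x₀)
    let a₄ : BasedFunctor.comp (AlgSt.overMap g) (BasedFunctor.comp z₁ x₀) ≅
        BasedFunctor.comp (AlgSt.overMap g) (BasedFunctor.comp (AlgSt.overMap h)
          (BasedFunctor.comp w (FibCat.fpFst (FibCat.toSelf 𝒳) (FibCat.toSelf 𝒳)))) :=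
      whiskerL (AlgSt.overMap g) ι₁
    exact a₁ ≪≫ a₂ ≪≫ a₃ ≪≫ a₄
  · -- second components
    let b₁ : BasedFunctor.comp (AlgSt.overMap (prodLift (g ≫ t₁) t₂))
          (BasedFunctor.comp (AlgSt.overMap (prodSnd X₀)) x₀) ≅
        BasedFunctor.comp (AlgSt.overMap t₂) x₀ := whiskerR μ₂ x₀
    let b₂ : BasedFunctor.comp (AlgSt.overMap t₂) x₀ ≅ BasedFunctor.comp z₂ x₀ :=
      whiskerR κ₂.symm x₀
    let b₃ : BasedFunctor.comp z₂ x₀ ≅
        BasedFunctor.comp (AlgSt.overMap g) (BasedFunctor.comp (BasedFunctor.comp (AlgSt.overMap h) w)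
          (FibCat.fpSnd (FibCat.toSelf 𝒳) (FibCat.toSelf 𝒳))) := ι₂
    exact b₁ ≪≫ b₂ ≪≫ b₃

end Product

section Pointwise

open Groth.Agent.H3.AlgStProd Groth.Agent.H3.AlgStDiag Groth.Agent.H3.AlgStProdMap
  Groth.Agent.H3.AlgStLES Groth.Agent.H3.TwoYoneda AlgSp

/-- from a point of the fibre product of a chart of `𝒳 ×_S 𝒳` with the diagonal, a field-valued
point of the chart over which the two components become isomorphic -/
theorem exists_field_iso_of_point (h𝒳 : AlgSt.IsAlgStack Scheme.fppfPrecoverage 𝒳) {T : Over S}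
    (tt : FibCat.overCat T ⥤ᵇ FibCat.fp (FibCat.toSelf 𝒳) (FibCat.toSelf 𝒳))
    (hne : Nonempty (AlgSt.Points (FibCat.fp tt (FibCat.diag (FibCat.toSelf 𝒳))))) :
    ∃ (K : Type u) (_ : Field K) (s : Spec (CommRingCat.of K) ⟶ S) (c : Over.mk s ⟶ T),
      Nonempty (BasedFunctor.comp (AlgSt.overMap c)
          (BasedFunctor.comp tt (FibCat.fpFst (FibCat.toSelf 𝒳) (FibCat.toSelf 𝒳))) ≅
        BasedFunctor.comp (AlgSt.overMap c)
          (BasedFunctor.comp tt (FibCat.fpSnd (FibCat.toSelf 𝒳) (FibCat.toSelf 𝒳)))) := by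
  have hT := Groth.Agent.H3.AlgStQCMor.isAlgStack_overCat T
  have hP : AlgSt.IsAlgStack Scheme.fppfPrecoverage
      (FibCat.fp (FibCat.toSelf 𝒳) (FibCat.toSelf 𝒳)) :=
    Groth.Agent.H3.AlgStAlgebraic.isAlgStack_prod h𝒳 h𝒳 _ _
  have hfp : AlgSt.IsAlgStack Scheme.fppfPrecoverage
      (FibCat.fp tt (FibCat.diag (FibCat.toSelf 𝒳))) :=
    Groth.Agent.H3.AlgStAlgebraic.isAlgStack_fp hP.isStack hP.diag hT h𝒳 tt _
  obtain ⟨ω⟩ := hne
  obtain ⟨p, -⟩ := AlgSt.Points.mk_surjective ω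
  obtain ⟨ξ, -⟩ := exists_functor_of_obj hfp.isStack.1 p.obj p.lies
  obtain ⟨c, ⟨κ⟩⟩ := exists_overMap_iso
    (BasedFunctor.comp ξ (FibCat.fpFst tt (FibCat.diag (FibCat.toSelf 𝒳))))
  refine ⟨p.K, p.field, p.str, c, ⟨?_⟩⟩
  let b : FibCat.overCat (Over.mk p.str) ⥤ᵇ 𝒳 :=
    BasedFunctor.comp ξ (FibCat.fpSnd tt (FibCat.diag (FibCat.toSelf 𝒳)))
  let ι₀ : BasedFunctor.comp (AlgSt.overMap c) tt ≅
      BasedFunctor.comp b (FibCat.diag (FibCat.toSelf 𝒳)) :=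
    whiskerR κ.symm tt ≪≫ whiskerL ξ (FibCat.fpIso tt (FibCat.diag (FibCat.toSelf 𝒳)))
  let ι₁ : BasedFunctor.comp (AlgSt.overMap c)
      (BasedFunctor.comp tt (FibCat.fpFst (FibCat.toSelf 𝒳) (FibCat.toSelf 𝒳))) ≅ b :=
    whiskerR ι₀ (FibCat.fpFst (FibCat.toSelf 𝒳) (FibCat.toSelf 𝒳))
  let ι₂ : BasedFunctor.comp (AlgSt.overMap c)
      (BasedFunctor.comp tt (FibCat.fpSnd (FibCat.toSelf 𝒳) (FibCat.toSelf 𝒳))) ≅ b :=
    whiskerR ι₀ (FibCat.fpSnd (FibCat.toSelf 𝒳) (FibCat.toSelf 𝒳))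
  exact ι₁ ≪≫ ι₂.symm

/-- transport of an isomorphism of restrictions to the normal form of the source -/
theorem iso_homMk_of_iso {T Y : Over S} (c : Y ⟶ T) (F G : FibCat.overCat T ⥤ᵇ 𝒳)
    (ι : BasedFunctor.comp (AlgSt.overMap c) F ≅ BasedFunctor.comp (AlgSt.overMap c) G) :
    Nonempty (BasedFunctor.comp
        (AlgSt.overMap (Over.homMk c.left rfl : Over.mk (c.left ≫ T.hom) ⟶ T)) F ≅
      BasedFunctor.comp
        (AlgSt.overMap (Over.homMk c.left rfl : Over.mk (c.left ≫ T.hom) ⟶ T)) G) := by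
  let e : Over.mk (c.left ≫ T.hom) ⟶ Y := Over.homMk (𝟙 _) (by
    show 𝟙 _ ≫ Y.hom = c.left ≫ T.hom
    rw [Category.id_comp, Over.w c])
  have he : e ≫ c = (Over.homMk c.left rfl : Over.mk (c.left ≫ T.hom) ⟶ T) := by
    apply Over.OverMorphism.ext
    show 𝟙 _ ≫ c.left = c.left
    rw [Category.id_comp]
  obtain ⟨κ⟩ := overMapComp e c
  rw [he] at κ
  let ι₁ : BasedFunctor.comp
        (AlgSt.overMap (Over.homMk c.left rfl : Over.mk (c.left ≫ T.hom) ⟶ T)) F ≅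
      BasedFunctor.comp (AlgSt.overMap e) (BasedFunctor.comp (AlgSt.overMap c) F) :=
    whiskerR κ.symm F
  let ι₂ : BasedFunctor.comp (AlgSt.overMap e) (BasedFunctor.comp (AlgSt.overMap c) F) ≅
      BasedFunctor.comp (AlgSt.overMap e) (BasedFunctor.comp (AlgSt.overMap c) G) :=
    whiskerL (AlgSt.overMap e) ι
  let ι₃ : BasedFunctor.comp (AlgSt.overMap e) (BasedFunctor.comp (AlgSt.overMap c) G) ≅
      BasedFunctor.comp
        (AlgSt.overMap (Over.homMk c.left rfl : Over.mk (c.left ≫ T.hom) ⟶ T)) G :=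
    whiskerR κ G
  exact ⟨ι₁ ≪≫ ι₂ ≪≫ ι₃⟩

end Pointwise

section Main

open Groth.Agent.H3.AlgStProd Groth.Agent.H3.AlgStDiag Groth.Agent.H3.AlgStProdMap
  Groth.Agent.H3.AlgStLES Groth.Agent.H3.TwoYoneda AlgSp Groth.Agent.H3.AlgStProps
  Groth.Agent.H3.AlgStDescent

/-- the automorphism sheaves of objects over affine schemes are quasi-compact algebraic spaces -/
def AutQC (𝒳 : AlgSt.Cat S) : Prop :=
  ∀ (U : Over S), IsAffine U.left → ∀ (x : FibCat.overCat U ⥤ᵇ 𝒳),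
      ∃ (F : AlgSp.Space S) (e : AlgSt.ofSp F.obj ⥤ᵇ FibCat.fp (FibCat.fpLift x x (Iso.refl _)) (FibCat.diag (FibCat.toSelf 𝒳))),
        FibCat.IsEquivOver e ∧
          AlgSp.IsQuasiCompactMor (AlgSt.spMapOfOver (BasedFunctor.comp e (FibCat.fpFst _ _)))

/-- objects over an integral affine scheme which are isomorphic at a dense set of points are
isomorphic over a dense open -/
def GenericIsom (𝒳 : AlgSt.Cat S) : Prop :=
  ∀ (U : Over S), IsAffine U.left → IsIntegral U.left → ∀ (x y : FibCat.overCat U ⥤ᵇ 𝒳)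
      (D : Set ↥U.left), Dense D →
      (∀ t ∈ D, ∃ (L : Type u) (_ : Field L) (g : Spec (CommRingCat.of L) ⟶ U.left), Set.range g.base = {t} ∧
        Nonempty (BasedFunctor.comp (AlgSt.overMap (Over.homMk g rfl : Over.mk (g ≫ U.hom) ⟶ U)) x ≅
          BasedFunctor.comp (AlgSt.overMap (Over.homMk g rfl : Over.mk (g ≫ U.hom) ⟶ U)) y)) →
      ∃ V : U.left.Opens, Dense (V : Set ↥U.left) ∧
        Nonempty (BasedFunctor.comp (AlgSt.overMap (Over.homMk V.ι rfl : Over.mk (V.ι ≫ U.hom) ⟶ U)) x ≅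
          BasedFunctor.comp (AlgSt.overMap (Over.homMk V.ι rfl : Over.mk (V.ι ≫ U.hom) ⟶ U)) y)

/-- over an affine chart with compact space of points of the fibre product, the base change is
quasi-compact -/
theorem rep_qc_fpFst_of_compactSpace (h𝒳 : AlgSt.IsAlgStack Scheme.fppfPrecoverage 𝒳)
    (h𝒴 : AlgSt.IsAlgStack Scheme.fppfPrecoverage 𝒴) (f : 𝒴 ⥤ᵇ 𝒳) (hrep : AlgSt.RepByAlgSp1 f)
    {X : Over S} (haff : IsAffine X.left) (x : FibCat.overCat X ⥤ᵇ 𝒳)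
    (hcpt : CompactSpace (AlgSt.Points (FibCat.fp x f))) :
    AlgSt.RepByAlgSpWith AlgSp.IsQuasiCompactMor (FibCat.fpFst x f) := by
  have hXst := Groth.Agent.H3.AlgStQCMor.isAlgStack_overCat X
  have hfp : AlgSt.IsAlgStack Scheme.fppfPrecoverage (FibCat.fp x f) :=
    Groth.Agent.H3.AlgStAlgebraic.isAlgStack_fp h𝒳.isStack h𝒳.diag hXst h𝒴 x f
  have hqc : AlgSt.IsQuasiCompact (FibCat.fp x f) := (isQuasiCompact_iff_compactSpace hfp).2 hcpt
  obtain ⟨F, e, he⟩ := hrep X x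
  have hFqc : AlgSp.IsQuasiCompactSp F.obj :=
    (Groth.Agent.H3.AlgStQCMor.isQuasiCompact_ofSp_iff F).1
      (Groth.Agent.H3.AlgStQCMor.isQuasiCompact_of_isEquivOver' (isAlgStack_ofSp F) hfp e he hqc)
  have hp : AlgSp.IsQuasiCompactMor (AlgSt.spMapOfOver (BasedFunctor.comp e (FibCat.fpFst x f))) :=
    isQuasiCompactMor_to_affine F.property hFqc _
  rw [← repByAlgSpWith_comp_equiv_iff _ e he,
    repByAlgSpWith_iff_spMapOfOver _ good_isQuasiCompactMor.bc good_isQuasiCompactMor.toC.charts F]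
  exact hp

/-- **the inductive step**: over an integral closed subscheme of the chart over which the objects
are pointwise isomorphic at a dense set of points, some nonempty open has compact preimage -/
theorem diag_step (h𝒳 : AlgSt.IsAlgStack Scheme.fppfPrecoverage 𝒳) (hi : AutQC 𝒳)
    (hii : GenericIsom 𝒳) (A₀ : Type u) [CommRing A₀] (sX : Spec (CommRingCat.of A₀) ⟶ S)
    (w : FibCat.overCat (Over.mk sX) ⥤ᵇ FibCat.fp (FibCat.toSelf 𝒳) (FibCat.toSelf 𝒳))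
    (A : Type u) [CommRing A] [IsDomain A] (φ : A₀ →+* A)
    (hD : Dense {q : ↥(Spec (CommRingCat.of A)) |
        (Spec.map (CommRingCat.ofHom φ)).base q ∈
          Set.range (toBase w (FibCat.diag (FibCat.toSelf 𝒳)))}) :
    ∃ U : (Spec (CommRingCat.of A)).Opens, (U : Set ↥(Spec (CommRingCat.of A))).Nonempty ∧
      IsCompact (toBase w (FibCat.diag (FibCat.toSelf 𝒳)) ⁻¹'
        ((Spec.map (CommRingCat.ofHom φ)).base '' (U : Set ↥(Spec (CommRingCat.of A))))) := by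
  have hX := h𝒳.isStack.1
  have hP : AlgSt.IsAlgStack Scheme.fppfPrecoverage
      (FibCat.fp (FibCat.toSelf 𝒳) (FibCat.toSelf 𝒳)) :=
    Groth.Agent.H3.AlgStAlgebraic.isAlgStack_prod h𝒳 h𝒳 _ _
  obtain ⟨j, hjdef⟩ : ∃ j : Spec (CommRingCat.of A) ⟶ Spec (CommRingCat.of A₀),
    j = Spec.map (CommRingCat.ofHom φ) := ⟨_, rfl⟩
  rw [← hjdef] at hD ⊢
  obtain ⟨sA, hsA⟩ : ∃ sA : Spec (CommRingCat.of A) ⟶ S, sA = j ≫ sX := ⟨_, rfl⟩
  obtain ⟨jO, hjO⟩ : ∃ jO : Over.mk sA ⟶ Over.mk sX, jO.left = j :=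
    ⟨Over.homMk j hsA.symm, rfl⟩
  obtain ⟨wT, hwT⟩ : ∃ wT : FibCat.overCat (Over.mk sA) ⥤ᵇ
      FibCat.fp (FibCat.toSelf 𝒳) (FibCat.toSelf 𝒳),
    wT = BasedFunctor.comp (AlgSt.overMap jO) w := ⟨_, rfl⟩
  obtain ⟨x', hx'⟩ : ∃ x' : FibCat.overCat (Over.mk sA) ⥤ᵇ 𝒳,
    x' = BasedFunctor.comp wT (FibCat.fpFst (FibCat.toSelf 𝒳) (FibCat.toSelf 𝒳)) := ⟨_, rfl⟩
  obtain ⟨y', hy'⟩ : ∃ y' : FibCat.overCat (Over.mk sA) ⥤ᵇ 𝒳,
    y' = BasedFunctor.comp wT (FibCat.fpSnd (FibCat.toSelf 𝒳) (FibCat.toSelf 𝒳)) := ⟨_, rfl⟩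
  have hTaff : IsAffine (Over.mk sA).left := (inferInstance : IsAffine (Spec (CommRingCat.of A)))
  have hdom : IsDomain ↑(CommRingCat.of A) := ‹IsDomain A›
  have hTint : IsIntegral (Over.mk sA).left :=
    (inferInstance : IsIntegral (Spec (CommRingCat.of A)))
  -- pointwise isomorphisms
  have hpt : ∀ q ∈ {q : ↥(Spec (CommRingCat.of A)) |
        j.base q ∈ Set.range (toBase w (FibCat.diag (FibCat.toSelf 𝒳)))},
      ∃ (L : Type u) (_ : Field L) (g : Spec (CommRingCat.of L) ⟶ (Over.mk sA).left),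
        Set.range g.base = {q} ∧
        Nonempty (BasedFunctor.comp (AlgSt.overMap
            (Over.homMk g rfl : Over.mk (g ≫ (Over.mk sA).hom) ⟶ Over.mk sA)) x' ≅
          BasedFunctor.comp (AlgSt.overMap
            (Over.homMk g rfl : Over.mk (g ≫ (Over.mk sA).hom) ⟶ Over.mk sA)) y') := by
    rintro q ⟨ω, hω⟩
    obtain ⟨rq, hrq⟩ : ∃ rq : Over.mk ((Spec (CommRingCat.of A)).fromSpecResidueField q ≫ sA) ⟶
        Over.mk sA, rq.left = (Spec (CommRingCat.of A)).fromSpecResidueField q :=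
      ⟨Over.homMk ((Spec (CommRingCat.of A)).fromSpecResidueField q) rfl, rfl⟩
    obtain ⟨tt, htt⟩ : ∃ tt : FibCat.overCat
        (Over.mk ((Spec (CommRingCat.of A)).fromSpecResidueField q ≫ sA)) ⥤ᵇ
        FibCat.fp (FibCat.toSelf 𝒳) (FibCat.toSelf 𝒳),
      tt = BasedFunctor.comp (AlgSt.overMap rq) wT := ⟨_, rfl⟩
    have hne : Nonempty (AlgSt.Points (FibCat.fp tt (FibCat.diag (FibCat.toSelf 𝒳)))) := by
      obtain ⟨τ⟩ : Nonempty ↥(Spec ((Spec (CommRingCat.of A)).residueField q)) := inferInstance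
      refine nonempty_points_fp_of_toBase hP.isStack.1 hX _ w tt ω τ ?_
      rw [htt, points_map_comp, chartPt_overMap, hwT, points_map_comp, chartPt_overMap, hω]
      congr 2
      change jO.left.base (rq.left.base τ) = j.base q
      rw [hjO, hrq]
      congr 1
      exact Scheme.fromSpecResidueField_apply q τ
    obtain ⟨K, _, s, c, ⟨ι⟩⟩ := exists_field_iso_of_point h𝒳 tt hne
    obtain ⟨κ⟩ := overMapComp c rq
    rw [htt] at ι
    let ι' : BasedFunctor.comp (AlgSt.overMap (c ≫ rq)) x' ≅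
        BasedFunctor.comp (AlgSt.overMap (c ≫ rq)) y' := by
      rw [hx', hy']
      let k₁ : BasedFunctor.comp (AlgSt.overMap (c ≫ rq))
            (BasedFunctor.comp wT (FibCat.fpFst (FibCat.toSelf 𝒳) (FibCat.toSelf 𝒳))) ≅
          BasedFunctor.comp (AlgSt.overMap c) (BasedFunctor.comp (BasedFunctor.comp (AlgSt.overMap rq) wT)
            (FibCat.fpFst (FibCat.toSelf 𝒳) (FibCat.toSelf 𝒳))) :=
        whiskerR κ.symm (BasedFunctor.comp wT (FibCat.fpFst (FibCat.toSelf 𝒳) (FibCat.toSelf 𝒳)))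
      let k₂ : BasedFunctor.comp (AlgSt.overMap c) (BasedFunctor.comp (BasedFunctor.comp (AlgSt.overMap rq) wT)
            (FibCat.fpSnd (FibCat.toSelf 𝒳) (FibCat.toSelf 𝒳))) ≅
          BasedFunctor.comp (AlgSt.overMap (c ≫ rq))
            (BasedFunctor.comp wT (FibCat.fpSnd (FibCat.toSelf 𝒳) (FibCat.toSelf 𝒳))) :=
        whiskerR κ (BasedFunctor.comp wT (FibCat.fpSnd (FibCat.toSelf 𝒳) (FibCat.toSelf 𝒳)))
      exact k₁ ≪≫ ι ≪≫ k₂
    obtain ⟨ι''⟩ := iso_homMk_of_iso (c ≫ rq) x' y' ι'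
    refine ⟨K, inferInstance, (c ≫ rq).left, ?_, ⟨ι''⟩⟩
    ext z
    have hcr : ∀ τ : ↥(Spec (CommRingCat.of K)), (c ≫ rq).left.base τ = q := by
      intro τ
      change rq.left.base (c.left.base τ) = q
      rw [hrq]
      exact Scheme.fromSpecResidueField_apply q _
    constructor
    · rintro ⟨τ, rfl⟩
      exact hcr τ
    · intro hz
      obtain ⟨τ⟩ : Nonempty ↥(Spec (CommRingCat.of K)) := inferInstance
      exact ⟨τ, (hcr τ).trans hz.symm⟩
  obtain ⟨V, hVd, ⟨ιV⟩⟩ := hii (Over.mk sA) hTaff hTint x' y' _ hD hpt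
  -- a nonempty affine open inside `V`
  have hne : Nonempty ↥(Spec (CommRingCat.of A)) := inferInstance
  obtain ⟨V₁, hV₁⟩ : ∃ V₁ : (Spec (CommRingCat.of A)).Opens, V₁ = V := ⟨V, rfl⟩
  obtain ⟨v, hv⟩ : ((V₁ : (Spec (CommRingCat.of A)).Opens) :
      Set ↥(Spec (CommRingCat.of A))).Nonempty := by
    rw [hV₁]; exact hVd.nonempty
  obtain ⟨_, ⟨V₀, hV₀aff, rfl⟩, hvV₀, hV₀V⟩ :=
    (Spec (CommRingCat.of A)).isBasis_affineOpens.exists_subset_of_mem_open hv V₁.isOpen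
  obtain ⟨V', hV'aff, hvV', hV'V⟩ : ∃ V' : (Spec (CommRingCat.of A)).Opens,
      IsAffineOpen V' ∧ v ∈ V' ∧ V' ≤ V₁ := ⟨V₀, hV₀aff, hvV₀, hV₀V⟩
  have hle : V' ≤ V := by rw [← hV₁]; exact hV'V
  refine ⟨V', ⟨v, hvV'⟩, ?_⟩
  obtain ⟨kV, hkV⟩ : ∃ kV : Over.mk (V.ι ≫ sA) ⟶ Over.mk sA, kV = Over.homMk V.ι rfl := ⟨_, rfl⟩
  rw [← hkV] at ιV
  obtain ⟨k', hk'⟩ : ∃ k' : Over.mk (V'.ι ≫ sA) ⟶ Over.mk sA, k'.left = V'.ι :=
    ⟨Over.homMk V'.ι rfl, rfl⟩
  obtain ⟨i', hi'⟩ : ∃ i' : Over.mk (V'.ι ≫ sA) ⟶ Over.mk (V.ι ≫ sA), i' ≫ kV = k' := by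
    refine ⟨Over.homMk ((Spec (CommRingCat.of A)).homOfLE hle) ?_, ?_⟩
    · show (Spec (CommRingCat.of A)).homOfLE hle ≫ V.ι ≫ sA = V'.ι ≫ sA
      rw [Scheme.homOfLE_ι_assoc]
    · apply Over.OverMorphism.ext
      rw [hkV, hk']
      exact Scheme.homOfLE_ι _ hle
  obtain ⟨u, hu⟩ : ∃ u : Over.mk (V'.ι ≫ sA) ⟶ Over.mk sX, u = k' ≫ jO := ⟨_, rfl⟩
  have hrange : Set.range u.left = j.base '' (V' : Set ↥(Spec (CommRingCat.of A))) := by
    have h1 : u.left = V'.ι ≫ j := by rw [hu, Over.comp_left, hjO, hk']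
    rw [h1]
    ext z
    constructor
    · rintro ⟨τ, rfl⟩
      exact ⟨V'.ι.base τ, τ.2, rfl⟩
    · rintro ⟨q, hq, rfl⟩
      exact ⟨⟨q, hq⟩, rfl⟩
  rw [← hrange]
  apply isCompact_preimage_of_isQuasiCompact hP h𝒳 _ w u
  -- the restricted objects
  obtain ⟨x'', hx''⟩ : ∃ x'' : FibCat.overCat (Over.mk (V'.ι ≫ sA)) ⥤ᵇ 𝒳,
    x'' = BasedFunctor.comp (AlgSt.overMap k') x' := ⟨_, rfl⟩
  have hU'aff : IsAffine (Over.mk (V'.ι ≫ sA)).left := hV'aff
  obtain ⟨F, e, he, hp⟩ := hi (Over.mk (V'.ι ≫ sA)) hU'aff x''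
  have hUst := Groth.Agent.H3.AlgStQCMor.isAlgStack_overCat (Over.mk (V'.ι ≫ sA))
  have hcU : CompactSpace ↥(Over.mk (V'.ι ≫ sA)).left := by
    have : IsAffine (Over.mk (V'.ι ≫ sA)).left := hU'aff
    infer_instance
  obtain ⟨pm, hpm⟩ : ∃ pm, pm = AlgSt.spMapOfOver (BasedFunctor.comp e
      (FibCat.fpFst (FibCat.fpLift x'' x'' (Iso.refl _)) (FibCat.diag (FibCat.toSelf 𝒳)))) :=
    ⟨_, rfl⟩
  rw [← hpm] at hp
  have hG : AlgSp.IsQuasiCompactSp F.obj :=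
    hp (AlgSp.IsAlgSpace.yon_obj _)
      ((Groth.Agent.H5.AlgSp.isQuasiCompactSp_yon_iff _).2 hcU) (𝟙 _) (𝟙 _) pm
      (IsPullback.of_horiz_isIso ⟨by simp⟩)
  have hq1 : AlgSt.IsQuasiCompact (FibCat.fp (FibCat.fpLift x'' x'' (Iso.refl _))
      (FibCat.diag (FibCat.toSelf 𝒳))) :=
    Groth.Agent.H3.AlgStQCMor.isQuasiCompact_of_isEquivOver (isAlgStack_ofSp F)
      (Groth.Agent.H3.AlgStAlgebraic.isAlgStack_fp hP.isStack hP.diag hUst h𝒳 _ _) e he
      ((Groth.Agent.H3.AlgStQCMor.isQuasiCompact_ofSp_iff F).2 hG)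
  obtain ⟨κ₁⟩ := overMapComp k' jO
  obtain ⟨κ₂⟩ := overMapComp i' kV
  rw [hi'] at κ₂
  rw [← hu] at κ₁
  refine Groth.Agent.H3.AlgStQCMor.isQuasiCompact_fp_congr h𝒳 hP hUst _ ?_ hq1
  apply isoOfComponents
  · -- first components
    let a₁ : x'' ≅ BasedFunctor.comp (BasedFunctor.comp (AlgSt.overMap k') (AlgSt.overMap jO))
        (BasedFunctor.comp w (FibCat.fpFst (FibCat.toSelf 𝒳) (FibCat.toSelf 𝒳))) := by
      rw [hx'', hx', hwT]
      exact Iso.refl _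
    exact a₁ ≪≫ whiskerR κ₁ _
  · -- second components
    let b₁ : x'' ≅ BasedFunctor.comp (AlgSt.overMap i') (BasedFunctor.comp (AlgSt.overMap kV) x') := by
      rw [hx'']
      exact whiskerR κ₂.symm x'
    let b₂ : BasedFunctor.comp (AlgSt.overMap i') (BasedFunctor.comp (AlgSt.overMap kV) x') ≅
        BasedFunctor.comp (AlgSt.overMap i') (BasedFunctor.comp (AlgSt.overMap kV) y') :=
      whiskerL (AlgSt.overMap i') ιV
    let b₃ : BasedFunctor.comp (AlgSt.overMap i') (BasedFunctor.comp (AlgSt.overMap kV) y') ≅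
        BasedFunctor.comp (AlgSt.overMap k') y' := whiskerR κ₂ y'
    let b₄ : BasedFunctor.comp (AlgSt.overMap k') y' ≅
        BasedFunctor.comp (BasedFunctor.comp (AlgSt.overMap k') (AlgSt.overMap jO))
          (BasedFunctor.comp w (FibCat.fpSnd (FibCat.toSelf 𝒳) (FibCat.toSelf 𝒳))) := by
      rw [hy', hwT]
      exact Iso.refl _
    exact b₁ ≪≫ b₂ ≪≫ b₃ ≪≫ b₄ ≪≫ whiskerR κ₁ _

/-- **S15358** (core): over a locally Noetherian base, the diagonal of an algebraic stack locally of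
finite presentation with quasi-compact automorphism sheaves and generic isomorphisms is
quasi-compact. -/
theorem diag_qc [IsLocallyNoetherian S] (h𝒳 : AlgSt.IsAlgStack Scheme.fppfPrecoverage 𝒳)
    (hlfp : ∀ (U : Over S) (x : FibCat.overCat U ⥤ᵇ 𝒳),
      AlgSt.RepByAlgSpWith (AlgSp.LocP @Smooth) x → LocallyOfFinitePresentation U.hom)
    (hi : AutQC 𝒳) (hii : GenericIsom 𝒳) :
    AlgSt.RepByAlgSpWith AlgSp.IsQuasiCompactMor (FibCat.diag (FibCat.toSelf 𝒳)) := by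
  have hP : AlgSt.IsAlgStack Scheme.fppfPrecoverage
      (FibCat.fp (FibCat.toSelf 𝒳) (FibCat.toSelf 𝒳)) :=
    Groth.Agent.H3.AlgStAlgebraic.isAlgStack_prod h𝒳 h𝒳 _ _
  obtain ⟨X₀, x₀, hx₁, hx₂⟩ := h𝒳.atlas
  have hlfpX : LocallyOfFinitePresentation X₀.hom := hlfp X₀ x₀ hx₁
  have hN : IsLocallyNoetherian (prodOver X₀).left := by
    have h0 : LocallyOfFiniteType X₀.hom := inferInstance
    have h1 : LocallyOfFiniteType (pullback.fst X₀.hom X₀.hom) :=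
      MorphismProperty.pullback_fst (P := @LocallyOfFiniteType) _ _ h0
    have : LocallyOfFiniteType (pullback.fst X₀.hom X₀.hom ≫ X₀.hom) :=
      MorphismProperty.comp_mem (W := @LocallyOfFiniteType) _ _ h1 h0
    have hS : IsLocallyNoetherian ((Functor.fromPUnit S).obj X₀.right) :=
      ‹IsLocallyNoetherian S›
    exact @LocallyOfFiniteType.isLocallyNoetherian _ _
      (pullback.fst X₀.hom X₀.hom ≫ X₀.hom) this hS
  have hles : LES x₀ := Groth.Agent.H3.AlgStDiagLft.les_of_smooth_surjective x₀ hx₁ hx₂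
  intro U w
  obtain ⟨F, e, he⟩ := h𝒳.diag U w
  refine ⟨F, e, he, spMapOfOver_of_sieve _ good_isQuasiCompactMor.bc good_isQuasiCompactMor.loc
    (FibCat.fpFst w (FibCat.diag (FibCat.toSelf 𝒳))) F e he (goodSieve w)
    (goodSieve_mem_J_prod X₀ x₀ hles hN w) ?_⟩
  rintro V h ⟨A₀, i1, i2, sX, x, k, ⟨ι⟩⟩
  refine rep_fpFst_of_iso_chart _ (FibCat.diag (FibCat.toSelf 𝒳)) w x h k ι ?_
  apply rep_qc_fpFst_of_compactSpace hP h𝒳 _ h𝒳.diag
    (inferInstance : IsAffine (Spec (CommRingCat.of A₀))) x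
  apply compactSpace_points_fp_of_forall_domain _ A₀ sX x
  intro A _ _ _ φ _ hD
  exact diag_step h𝒳 hi hii A₀ sX x A φ hD

end Main

end Groth.Agent.H3.NoethDiag
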