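import Mathlib
import Groth.Agent.Lib.Helper3.AlgSt.ClosedSub2
import Groth.Agent.Lib.Helper3.AlgSt.OpenSub6
import Groth.Agent.Lib.Helper5.AlgSp.SchImageQC
import Groth.Agent.Lib.Helper5.AlgSp.LocalRep
import Groth.Agent.Lib.Helper5.AlgSp.ChartFamily

set_option autoImplicit false
universe w u
open CategoryTheory CategoryTheory.Functor CategoryTheory.Limits Opposite AlgebraicGeometry

noncomputable section

namespace Groth.Agent.H3.OpenCover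

open Groth.Agent.H3.FibCatAux Groth.Agent.H3.GerbAux Groth.Agent.H3.FpCalc Groth.Agent.H3.TwoCart
  Groth.Agent.H3.StackPsh Groth.Agent.H3.PshBridge Groth.Agent.H3.AlgStAux Groth.Agent.H3.RepBridge
  Groth.Agent.H3.SetoidPsh Groth.Agent.H3.BaseChangeSp Groth.Agent.H3.AlgStComp
  Groth.Agent.H3.AlgStProps Groth.Agent.H3.AlgStBridge2 Groth.Agent.H3.AlgStCharts
  Groth.Agent.H3.AlgStDescent Groth.Agent.H3.Whisker Groth.Agent.H3.AlgStLES
  Groth.Agent.H3.FPtRel Groth.Agent.H3.AlgStStackRep Groth.Agent.H3.TwoYoneda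
  Groth.Agent.H3.AlgStPoints Groth.Agent.H3.AlgStAlgebraic Groth.Agent.H3.AlgStQCMor
  Groth.Agent.H3.AlgStSmoothLoc Groth.Agent.H3.SmSrc Groth.Agent.H3.AlgStLocQ
  Groth.Agent.H3.AlgStAffine Groth.Agent.H3.OpenSub Groth.Agent.H3.FibCatYoneda
  Groth.Agent.H3.StackDescent

variable {S : Scheme.{u}} {𝒳 𝒴 𝒵 : AlgSt.Cat S}

/-- an algebraic stack covered by open substacks fibred in setoids is fibred in setoids -/
theorem isFibSetoid_of_open_cover (h𝒳 : AlgSt.IsAlgStack Scheme.fppfPrecoverage 𝒳) {ι : Type w}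
    (Q : ι → 𝒳.obj → Prop) (hQ : ∀ i, AlgSt.IsOpenSubstack 𝒳 (Q i) Scheme.fppfPrecoverage)
    (hcov : ⋃ i, Set.range (AlgSt.Points.map (AlgSt.subIncl 𝒳 (Q i))) = Set.univ)
    (hs : ∀ i, FibCat.IsFibSetoid (AlgSt.fullSub 𝒳 (Q i)).p) : FibCat.IsFibSetoid 𝒳.p := by
  have h𝒳g : FibCat.IsFibGrpd 𝒳.p := h𝒳.isStack.1
  have hfib : 𝒳.p.IsFibered := isFibered_of_isFibGrpd 𝒳.p h𝒳g
  have hQh : ∀ i ⦃x y : 𝒳.obj⦄ (_ : x ⟶ y), Q i y → Q i x :=
    fun i _ _ m hy => of_hom_of_isFibGrpd h𝒳g (Q i) (hQ i).1 (hQ i).2.1.isStack.1 m hy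
  apply Groth.Agent.H3.StackMore.isFibSetoid_of_aut_trivial 𝒳.p h𝒳g
  intro x τ hτ
  obtain ⟨U, hU⟩ : ∃ U, U = 𝒳.p.obj x := ⟨_, rfl⟩
  rw [← hU] at hτ
  obtain ⟨y, e, he⟩ := exists_pb_leg x hU.symm
  -- the open cover of `U`
  let T : ι → Set (AlgSt.Points 𝒳) := fun i => Set.range (AlgSt.Points.map (AlgSt.subIncl 𝒳 (Q i)))
  have hTo : ∀ i, IsOpen (T i) := fun i => isOpen_range_subIncl h𝒳 (Q i) (hQ i)
  have hcont := continuous_ofChart h𝒳 U y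
  let W : ι → U.left.Opens := fun i => ⟨AlgSt.Points.ofChart y ⁻¹' T i, (hTo i).preimage hcont⟩
  have hW : ∀ t : U.left, ∃ i, t ∈ W i := by
    intro t
    have : AlgSt.Points.ofChart y t ∈ ⋃ i, T i := by rw [hcov]; trivial
    obtain ⟨i, hi⟩ := Set.mem_iUnion.mp this
    exact ⟨i, hi⟩
  -- the sieve of maps along which `x` lands in one of the substacks
  let R : Sieve U :=
    { arrows := fun V f => ∃ i, Q i (y.obj (Over.mk f))
      downward_closed := by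
        rintro V V' f ⟨i, hi⟩ g
        refine ⟨i, hQh i (y.map (Over.homMk g rfl : Over.mk (g ≫ f) ⟶ Over.mk f)) hi⟩ }
  have hR : R ∈ AlgSp.J S U := by
    apply Groth.Agent.H5.AlgSp.mem_J_of_openCover W hW R
    intro i
    refine ⟨i, ?_⟩
    rw [eq_subOf_range h𝒳 (Q i) (hQ i), subOf_chart_iff h𝒳g]
    intro v
    exact v.2
  have hfaith : (Stk.resSieve R 𝒳).Faithful := by
    have : (Stk.resSieve R 𝒳).IsEquivalence := h𝒳.isStack.2 R hR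
    infer_instance
  have hid : 𝒳.p.IsHomLift (𝟙 U) (𝟙 x) := IsHomLift.id hU.symm
  refine (faithful_iff h𝒳g).mp hfaith x x τ (𝟙 x) hτ hid ?_
  intro V f ⟨i, hi⟩ x' c hc
  -- `x'` lies in `Q i`
  have h1 := map_toId_isHomLift y (Over.mk f)
  have h2 : 𝒳.p.IsHomLift f (y.map (toId (Over.mk f)) ≫ e) := by
    have : 𝒳.p.IsHomLift ((Over.mk f).hom ≫ 𝟙 U) (y.map (toId (Over.mk f)) ≫ e) := inferInstance
    simpa using this
  have hcart := isStronglyCartesian_of_isHomLift 𝒳.p h𝒳g f (y.map (toId (Over.mk f)) ≫ e)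
  have hc' : 𝒳.p.IsHomLift (𝟙 V ≫ f) c := by rw [Category.id_comp]; exact hc
  have hx' : Q i x' := hQh i (IsStronglyCartesian.map 𝒳.p f (y.map (toId (Over.mk f)) ≫ e)
    (f' := 𝟙 V ≫ f) rfl c) hi
  -- factor `c ≫ τ` through `c`
  have hccart := isStronglyCartesian_of_isHomLift 𝒳.p h𝒳g f c
  have hcτ : 𝒳.p.IsHomLift (𝟙 V ≫ f) (c ≫ τ) := by
    have : 𝒳.p.IsHomLift (f ≫ 𝟙 U) (c ≫ τ) := inferInstance
    simpa using this
  obtain ⟨χ, hχd⟩ : ∃ χ : x' ⟶ x', χ = IsStronglyCartesian.map 𝒳.p f c (f' := 𝟙 V ≫ f) rfl (c ≫ τ) :=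
    ⟨_, rfl⟩
  have hχ : χ ≫ c = c ≫ τ := by rw [hχd]; exact IsStronglyCartesian.fac 𝒳.p f c rfl (c ≫ τ)
  have hχl : 𝒳.p.IsHomLift (𝟙 V) χ := by
    rw [hχd]; exact IsStronglyCartesian.map_isHomLift 𝒳.p f c rfl (c ≫ τ)
  have hV : 𝒳.p.obj x' = V := IsHomLift.domain_eq 𝒳.p f c
  let X' : (AlgSt.fullSub 𝒳 (Q i)).obj := ⟨x', hx'⟩
  let χ' : X' ⟶ X' := ObjectProperty.homMk χ
  have l1 : (AlgSt.fullSub 𝒳 (Q i)).p.IsHomLift (𝟙 V) χ' :=
    (Groth.Agent.H3.StackMore.sub_isHomLift_iff (Q i) (𝟙 V) χ').2 hχl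
  have l2 : (AlgSt.fullSub 𝒳 (Q i)).p.IsHomLift (𝟙 V) (𝟙 X') := IsHomLift.id hV
  have heq : χ' = 𝟙 X' := hom_eq_of_isFibSetoid (AlgSt.fullSub 𝒳 (Q i)).p (hs i) (𝟙 V) χ' (𝟙 X')
  have heq' : χ = 𝟙 x' := congrArg (fun m => m.hom) heq
  rw [← hχ, heq', Category.id_comp, Category.comp_id]

/-- a stack fibred in setoids is equivalent to the category of a sheaf -/
theorem exists_sheaf_equiv (h𝒳 : Stk.IsStack (AlgSp.J S) 𝒳) (hs : FibCat.IsFibSetoid 𝒳.p) :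
    ∃ (F : AlgSp.Sp S) (E : 𝒳 ⥤ᵇ AlgSt.ofSp F), FibCat.IsEquivOver E := by
  obtain ⟨P₀, E, hE⟩ := exists_equivOver_ofPsh hs
  have h1 : Stk.IsStack (AlgSp.J S) (Stk.ofPsh P₀) := isStack_of_isEquivOver (AlgSp.J S) E hE h𝒳
  have h2 : Presieve.IsSheaf (AlgSp.J S) P₀ := (isStack_ofPsh_iff P₀ (AlgSp.J S)).mp h1
  have h3 : Presheaf.IsSheaf (AlgSp.J S) P₀ := (isSheaf_iff_isSheaf_of_type _ _).mpr h2
  exact ⟨⟨P₀, h3⟩, E, hE⟩

/-- a map of sheaves whose base changes to schemes are algebraic spaces with structure map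
representable with `P` is representable with `P` -/
theorem repWith_of_repBySpWith (P : MorphismProperty Scheme.{u}) [P.RespectsIso]
    {F G : AlgSp.Sp S} (a : F ⟶ G) (h : AlgSp.RepBySpWith (AlgSp.RepWith P) a.hom) :
    AlgSp.RepWith P a := by
  rw [AlgSp.repBySpWith_hom_iff] at h
  apply MorphismProperty.relative.of_exists
  intro U g
  obtain ⟨-, hP⟩ := h g _ _ (IsPullback.of_hasPullback a g)
  have sq' := hP.rep.isPullback (𝟙 ((AlgSp.yon S).obj U))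
  have hiso : IsIso (hP.rep.fst (𝟙 ((AlgSp.yon S).obj U))) := sq'.isIso_fst_of_isIso
  refine ⟨hP.rep.pullback (𝟙 _), hP.rep.fst (𝟙 _) ≫ pullback.fst a g, hP.rep.snd (𝟙 _), ?_,
    hP.property_snd _⟩
  refine IsPullback.of_iso (IsPullback.of_hasPullback a g) (asIso (hP.rep.fst (𝟙 _))).symm
    (Iso.refl _) (Iso.refl _) (Iso.refl _) ?_ ?_ ?_ ?_
  · simp
  · have := sq'.w
    simp only [Category.comp_id] at this
    simp [← this]
  · simp
  · simp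

lemma isoCancel_repWith (P : MorphismProperty Scheme.{u}) [P.RespectsIso] :
    IsoCancel (S := S) (AlgSp.RepWith P) := by
  intro X X' Y φ a hφ _ _ _ h
  exact ((AlgSp.RepWith P).cancel_left_of_respectsIso φ a).1 h

/-- the map of sheaves induced by an open substack is an open immersion -/
theorem repWith_isOpenImmersion_chart (Q : 𝒳.obj → Prop)
    (hQ : AlgSt.IsOpenImm (AlgSt.subIncl 𝒳 Q))
    {F : AlgSp.Sp S} (E : 𝒳 ⥤ᵇ AlgSt.ofSp F) (hE : FibCat.IsEquivOver E) (Fi : AlgSp.Sp S)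
    (ei : AlgSt.ofSp Fi ⥤ᵇ AlgSt.fullSub 𝒳 Q) (hei : FibCat.IsEquivOver ei) :
    AlgSp.RepWith @IsOpenImmersion
      (spMapOf (BasedFunctor.comp ei (BasedFunctor.comp (AlgSt.subIncl 𝒳 Q) E))) := by
  obtain ⟨E', ⟨α⟩, ⟨β⟩⟩ := hE
  have hE' : FibCat.IsEquivOver E' := ⟨E, ⟨β⟩, ⟨α⟩⟩
  obtain ⟨φ, hφ⟩ : ∃ φ, φ = BasedFunctor.comp ei (BasedFunctor.comp (AlgSt.subIncl 𝒳 Q) E) :=
    ⟨_, rfl⟩
  rw [← hφ]
  obtain ⟨γ⟩ := spMapOf_iso φ
  have iso : BasedFunctor.comp (AlgSt.ofSpMap (spMapOf φ)) E' ≅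
      BasedFunctor.comp ei (AlgSt.subIncl 𝒳 Q) := by
    refine (whiskerR γ.symm E') ≪≫ ?_
    rw [hφ]
    exact whiskerL ei (whiskerL (AlgSt.subIncl 𝒳 Q) α)
  have h1 : AlgSt.RepByAlgSpWith (AlgSp.RepWith @IsOpenImmersion) (AlgSt.ofSpMap (spMapOf φ)) :=
    repByAlgSpWith_of_square _ (AlgSt.subIncl 𝒳 Q) (AlgSt.ofSpMap (spMapOf φ)) ei E' hei hE' iso hQ
  have h2 := repBySpWith_of_repByAlgSpWith_ofPshMap' (spMapOf φ).hom
    (AlgSp.RepWith @IsOpenImmersion) (isoCancel_repWith _) h1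
  exact repWith_of_repBySpWith _ _ h2

/-- equivalences are surjective on points -/
lemma points_map_surjective_of_isEquivOver {𝒜 ℬ : AlgSt.Cat S} (e : 𝒜 ⥤ᵇ ℬ)
    (he : FibCat.IsEquivOver e) : Function.Surjective (AlgSt.Points.map e) := by
  obtain ⟨e', -, ⟨β⟩⟩ := he
  intro y
  exact ⟨AlgSt.Points.map e' y, by rw [← points_map_comp, points_map_congr β, points_map_id]⟩

/-- points of the sheaf lying in the open substack come from the sheaf of the substack -/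
theorem exists_points_map_eq (Q : 𝒳.obj → Prop) {F : AlgSp.Sp S} (E : 𝒳 ⥤ᵇ AlgSt.ofSp F)
    (Fi : AlgSp.Sp S) (ei : AlgSt.ofSp Fi ⥤ᵇ AlgSt.fullSub 𝒳 Q) (hei : FibCat.IsEquivOver ei)
    (x : AlgSp.Points F) (t : AlgSt.Points 𝒳) (ht : AlgSt.Points.map E t = ptOf x)
    (htQ : t ∈ Set.range (AlgSt.Points.map (AlgSt.subIncl 𝒳 Q))) :
    ∃ z : AlgSp.Points Fi, AlgSp.Points.map
      (spMapOf (BasedFunctor.comp ei (BasedFunctor.comp (AlgSt.subIncl 𝒳 Q) E))) z = x := by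
  obtain ⟨s, rfl⟩ := htQ
  obtain ⟨s', rfl⟩ := points_map_surjective_of_isEquivOver ei hei s
  obtain ⟨z, rfl⟩ := ptOf_surjective s'
  refine ⟨z, ?_⟩
  apply ptOf_injective
  rw [ptOf_map, ← ht]
  obtain ⟨γ⟩ := spMapOf_iso (BasedFunctor.comp ei (BasedFunctor.comp (AlgSt.subIncl 𝒳 Q) E))
  rw [← points_map_congr γ, points_map_comp, points_map_comp]

/-- the sheaf of an algebraic stack covered by open substacks which are sheaves, with its small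
family of open subsheaves -/
theorem exists_sheaf_cover (h𝒳 : AlgSt.IsAlgStack Scheme.fppfPrecoverage 𝒳) {ι : Type w}
    (Q : ι → 𝒳.obj → Prop) (hQ : ∀ i, AlgSt.IsOpenSubstack 𝒳 (Q i) Scheme.fppfPrecoverage)
    (hcov : ⋃ i, Set.range (AlgSt.Points.map (AlgSt.subIncl 𝒳 (Q i))) = Set.univ)
    (Fi : ι → AlgSp.Sp S) (ei : ∀ i, AlgSt.ofSp (Fi i) ⥤ᵇ AlgSt.fullSub 𝒳 (Q i))
    (hei : ∀ i, FibCat.IsEquivOver (ei i)) :
    ∃ (F : AlgSp.Sp S) (E : 𝒳 ⥤ᵇ AlgSt.ofSp F) (_ : FibCat.IsEquivOver E) (κ : Type u)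
      (i : κ → ι),
      (∀ k, AlgSp.RepWith @IsOpenImmersion (spMapOf (BasedFunctor.comp (ei (i k))
        (BasedFunctor.comp (AlgSt.subIncl 𝒳 (Q (i k))) E)))) ∧
      ∀ x : AlgSp.Points F, ∃ (k : κ) (z : AlgSp.Points (Fi (i k))),
        AlgSp.Points.map (spMapOf (BasedFunctor.comp (ei (i k))
          (BasedFunctor.comp (AlgSt.subIncl 𝒳 (Q (i k))) E))) z = x := by
  have h𝒳g : FibCat.IsFibGrpd 𝒳.p := h𝒳.isStack.1
  have hs : ∀ i, FibCat.IsFibSetoid (AlgSt.fullSub 𝒳 (Q i)).p := fun i =>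
    Groth.Agent.H3.GerbAux.isFibSetoid_of_isEquivOver (ei i) (hei i)
      (Groth.Agent.H3.StkAux.isFibSetoid_ofPsh (Fi i).obj)
  have hsetoid := isFibSetoid_of_open_cover h𝒳 Q hQ hcov hs
  obtain ⟨F, E, hE⟩ := exists_sheaf_equiv h𝒳.isStack hsetoid
  obtain ⟨V₀, y₀, -, hy₀s⟩ := h𝒳.atlas
  have hsurj := ofChart_surjective h𝒳g y₀ hy₀s
  have hex : ∀ v : V₀.left, ∃ i, AlgSt.Points.ofChart y₀ v ∈
      Set.range (AlgSt.Points.map (AlgSt.subIncl 𝒳 (Q i))) := by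
    intro v
    have : AlgSt.Points.ofChart y₀ v ∈
        ⋃ i, Set.range (AlgSt.Points.map (AlgSt.subIncl 𝒳 (Q i))) := by rw [hcov]; trivial
    exact Set.mem_iUnion.mp this
  choose i hi using hex
  refine ⟨F, E, hE, V₀.left, i, fun k =>
    repWith_isOpenImmersion_chart (Q (i k)) (hQ (i k)).2.2 E hE (Fi (i k)) (ei (i k)) (hei (i k)),
    fun x => ?_⟩
  obtain ⟨t, ht⟩ := points_map_surjective_of_isEquivOver E hE (ptOf x)
  obtain ⟨v, rfl⟩ := hsurj t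
  obtain ⟨z, hz⟩ := exists_points_map_eq (Q (i v)) E (Fi (i v)) (ei (i v)) (hei (i v)) x _ ht (hi v)
  exact ⟨v, z, hz⟩

/-- **S12863**: an algebraic stack covered by open substacks which are algebraic spaces is an
algebraic space -/
theorem repByAlgSp_of_open_cover (h𝒳 : AlgSt.IsAlgStack Scheme.fppfPrecoverage 𝒳) {ι : Type w}
    (Q : ι → 𝒳.obj → Prop) (hQ : ∀ i, AlgSt.IsOpenSubstack 𝒳 (Q i) Scheme.fppfPrecoverage)
    (hcov : ⋃ i, Set.range (AlgSt.Points.map (AlgSt.subIncl 𝒳 (Q i))) = Set.univ)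
    (hsp : ∀ i, AlgSt.RepByAlgSp (AlgSt.fullSub 𝒳 (Q i))) : AlgSt.RepByAlgSp 𝒳 := by
  choose Fi ei hei using hsp
  obtain ⟨F, E, hE, κ, i, hopen, hpts⟩ :=
    exists_sheaf_cover h𝒳 Q hQ hcov (fun i => (Fi i).obj) ei hei
  have hat : ∀ k, ∃ (U : Over S) (a : (AlgSp.yon S).obj U ⟶ (Fi (i k)).obj),
      AlgSp.RepWith @Etale a ∧ AlgSp.RepWith @Surjective a := fun k => (Fi (i k)).property.atlas
  choose U a hae has using hat
  have hF : AlgSp.IsAlgSpace F := by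
    refine Groth.Agent.H5.AlgSp.isAlgSpace_of_chart_family U
      (fun k => a k ≫ spMapOf (BasedFunctor.comp (ei (i k))
        (BasedFunctor.comp (AlgSt.subIncl 𝒳 (Q (i k))) E)))
      (fun k => (AlgSp.RepWith @Etale).comp_mem _ _ (hae k)
        (Groth.Agent.H5.AlgSp.repWith_mono Groth.Agent.H5.AlgSp.isOpenImmersion_le_etale
          (hopen k))) (fun x => ?_)
    obtain ⟨k, z, hz⟩ := hpts x
    obtain ⟨u, hu⟩ := Groth.Agent.H5.AlgSp.ofPt_surjective_of_repWith (has k) z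
    exact ⟨k, u, by rw [← AlgSp.Points.map_ofPt, hu, hz]⟩
  obtain ⟨E', hE', -, -⟩ := isEquivOver_symm hE
  exact ⟨⟨F, hF⟩, E', hE'⟩

/-- **S12864**: an algebraic stack covered by open substacks which are schemes is a scheme -/
theorem isRepresentable_of_open_cover (h𝒳 : AlgSt.IsAlgStack Scheme.fppfPrecoverage 𝒳)
    {ι : Type w} (Q : ι → 𝒳.obj → Prop)
    (hQ : ∀ i, AlgSt.IsOpenSubstack 𝒳 (Q i) Scheme.fppfPrecoverage)
    (hcov : ⋃ i, Set.range (AlgSt.Points.map (AlgSt.subIncl 𝒳 (Q i))) = Set.univ)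
    (hsch : ∀ i, FibCat.IsRepresentable (AlgSt.fullSub 𝒳 (Q i))) : FibCat.IsRepresentable 𝒳 := by
  choose U G hG using hsch
  have hinv : ∀ i, ∃ G' : FibCat.overCat (U i) ⥤ᵇ AlgSt.fullSub 𝒳 (Q i),
      FibCat.IsEquivOver G' := fun i => by
    obtain ⟨G', hG', -, -⟩ := isEquivOver_symm (hG i)
    exact ⟨G', hG'⟩
  choose G' hG' using hinv
  obtain ⟨ei, hei_def⟩ : ∃ ei : ∀ i, AlgSt.ofSp ((AlgSp.yon S).obj (U i)) ⥤ᵇ
      AlgSt.fullSub 𝒳 (Q i), ei = fun i => BasedFunctor.comp (RepBridge.toOver (U i)) (G' i) :=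
    ⟨_, rfl⟩
  have hei : ∀ i, FibCat.IsEquivOver (ei i) := fun i => by
    rw [hei_def]
    exact isEquivOver_comp _ _ (isEquivOver_toOver (U i)) (hG' i)
  obtain ⟨F, E, hE, κ, i, hopen, hpts⟩ :=
    exists_sheaf_cover h𝒳 Q hQ hcov (fun i => (AlgSp.yon S).obj (U i)) ei hei
  obtain ⟨X, e, j, -, -, -⟩ := Groth.Agent.H5.AlgSp.LocalRep.exists_iso
    (U := fun k => U (i k)) (f := fun k => spMapOf (BasedFunctor.comp (ei (i k))
      (BasedFunctor.comp (AlgSt.subIncl 𝒳 (Q (i k))) E))) hopen (fun x => by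
    obtain ⟨k, z, hz⟩ := hpts x
    obtain ⟨u, rfl⟩ := Groth.Agent.H5.AlgSp.ofScheme_surjective (U (i k)) z
    exact ⟨k, u, by rw [AlgSp.Points.ofPt_eq_map_ofScheme]; exact hz⟩)
  have hiso : IsIso e.inv.hom :=
    (inferInstance : IsIso ((sheafToPresheaf (AlgSp.J S) (Type (u + 1))).map e.inv))
  exact ⟨X, BasedFunctor.comp E (BasedFunctor.comp (Stk.ofPshMap e.inv.hom) (RepBridge.toOver X)),
    isEquivOver_comp _ _ hE (isEquivOver_comp _ _ (isEquivOver_ofPshMap e.inv.hom)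
      (isEquivOver_toOver X))⟩

end Groth.Agent.H3.OpenCover
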