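import Mathlib
import Groth.Agent.H4.QstA
import Groth.Agent.Lib.Helper5.AlgSp.SchImageQC
import Groth.Agent.Lib.Helper5.AlgSp.LocPCalc
import Groth.Agent.Lib.Helper7.EDSq
import Groth.Agent.Lib.Helper3.AlgSpCov.SmoothST
import Groth.Agent.Lib.Helper3.FibCatAux
import Groth.Agent.Lib.Helper3.FpCalc
import Groth.Prelude.Def_StCoarse

/-!
# Uniform categorical moduli spaces from affine flat base changes (helper3)

* descent of maps of sheaves along a jointly locally surjective family (`exists_desc_of_family`);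
* objects of `ofSp M ×_{ofSp Y} 𝒳` as pairs (`mkFp`, `exists_eq_mkFp`) and the reformulation of the
  factorisation property of a categorical moduli space in terms of sections (`factor_iff`);
* `isCatModuli_of_charts`: the base change of `f : 𝒳 ⟶ Y` to an algebraic space `M` is a categorical
  moduli space as soon as the base changes to all affine étale charts of `M` are.
-/

set_option autoImplicit false
universe w v₂ u₂ u
open CategoryTheory CategoryTheory.Limits Opposite AlgebraicGeometry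

namespace Groth.Agent.H3.UnifCat

open _root_.AlgSp Groth.Agent.H5.AlgSp Groth.Agent.H7.EDSq Groth.Agent.H4.QstA
  Groth.Agent.H3.PshBridge Groth.Agent.H3.FibCatAux Groth.Agent.H3.FpCalc Groth.Agent.H3.StackPsh
  Groth.Agent.H3.StkAux

variable {S : Scheme.{u}}

section Glue

/-- descent of a family of maps along a jointly locally surjective family of maps of sheaves -/
theorem exists_desc_of_family {M N : Sp S} {ι : Type w} {H : ι → Sp S} [HasCoproduct H]
    (q : ∀ i, H i ⟶ M)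
    (hcov : ∀ (T : Over S) (ξ : (yon S).obj T ⟶ M), jointLiftSieve q ξ ∈ J S T)
    (h : ∀ i, H i ⟶ N)
    (hov : ∀ (T : Over S) (i j : ι) (τ : (yon S).obj T ⟶ H i) (τ' : (yon S).obj T ⟶ H j),
      τ ≫ q i = τ' ≫ q j → τ ≫ h i = τ' ≫ h j) :
    ∃ c : M ⟶ N, ∀ i, q i ≫ c = h i := by
  let cf : Cofan H := Cofan.mk (∐ H) (Sigma.ι H)
  have hcf : IsColimit cf := coproductIsCoproduct H
  have hls : Sheaf.IsLocallySurjective (Sigma.desc q) := by
    apply isLocallySurjective_of_liftSieve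
    intro T ξ
    refine (J S).superset_covering ?_ (hcov T ξ)
    rintro T' g ⟨i, τ, hτ⟩
    exact ⟨τ ≫ Sigma.ι H i, by rw [Category.assoc, Sigma.ι_desc, hτ]⟩
  haveI : Epi (Sigma.desc q) := inferInstance
  obtain ⟨c, hc⟩ := exists_desc_of_epi (Sigma.desc q) (Sigma.desc h) (by
    intro T x y hxy
    apply yon_hom_ext_of_mem_J ((J S).intersection_covering (cofanSieve_mem hcf x)
      (cofanSieve_mem hcf y))
    rintro T' k ⟨⟨i, τ, hτ⟩, ⟨i', τ', hτ'⟩⟩
    change τ ≫ Sigma.ι H i = _ at hτ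
    change τ' ≫ Sigma.ι H i' = _ at hτ'
    rw [← Category.assoc, ← Category.assoc, ← hτ, ← hτ', Category.assoc, Category.assoc,
      Sigma.ι_desc, Sigma.ι_desc]
    apply hov
    have := congrArg (fun m => (yon S).map k ≫ m) hxy
    simp only [← Category.assoc, ← hτ, ← hτ'] at this
    simp only [Category.assoc, Sigma.ι_desc] at this
    exact this)
  refine ⟨c, fun i => ?_⟩
  have := Sigma.ι H i ≫= hc
  rw [Sigma.ι_desc_assoc, Sigma.ι_desc] at this
  exact this

/-- the sieve on which two maps from a representable sheaf agree -/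
def eqSieve {F : Sp S} {V : Over S} (x y : (yon S).obj V ⟶ F) : Sieve V where
  arrows T' g := (yon S).map g ≫ x = (yon S).map g ≫ y
  downward_closed := by
    intro T1 T2 g hg k
    rw [Functor.map_comp, Category.assoc, Category.assoc, hg]

/-- maps from a representable sheaf agreeing on all affine opens agree -/
theorem hom_ext_affineOpens {F : Sp S} {V : Over S} (x y : (yon S).obj V ⟶ F)
    (h : ∀ A : V.left.affineOpens,
      (yon S).map (overOpenι V A.1) ≫ x = (yon S).map (overOpenι V A.1) ≫ y) : x = y := by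
  have hmem : eqSieve x y ∈ J S V := by
    refine mem_J_of_openCover (fun A : V.left.affineOpens => A.1) (fun t => ?_) _ h
    obtain ⟨_, ⟨A, hA, rfl⟩, htA, -⟩ :=
      V.left.isBasis_affineOpens.exists_subset_of_mem_open (Set.mem_univ t) isOpen_univ
    exact ⟨⟨A, hA⟩, htA⟩
  exact yon_hom_ext_of_mem_J hmem x y (fun _ _ hg => hg)

end Glue

section Elt

variable {C : Type*} [Category C] {P : Cᵒᵖ ⥤ Type*}

lemma secAt_eq_iff {a b : Stk.EltObj P} (h : a.base = b.base) :
    secAt a h = b.sec ↔ a.sec = secAt b h.symm := by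
  obtain ⟨T, x⟩ := a
  obtain ⟨T', y⟩ := b
  dsimp only at h
  subst h
  simp only [secAt_rfl]

lemma secAt_congr {a b : Stk.EltObj P} (e : a = b) {T : C} (h : a.base = T) (h' : b.base = T) :
    secAt a h = secAt b h' := by
  subst e; rfl

/-- isomorphisms over an identity in a category of elements are unique -/
lemma elt_iso_ext {a b : Stk.EltObj P} {T : C} (i i' : a ≅ b)
    (h : (Stk.EltObj.forget P).IsHomLift (𝟙 T) i.hom)
    (h' : (Stk.EltObj.forget P).IsHomLift (𝟙 T) i'.hom) : i = i' := by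
  apply Iso.ext
  apply Stk.EltObj.hom_ext
  rw [elt_hom_eq P (𝟙 T) i.hom, elt_hom_eq P (𝟙 T) i'.hom]

end Elt

section Sec

variable {𝒵 : BasedCategory.{v₂, u₂} (Over S)} {N : Sp S}

lemma nonempty_iso_iff (e e' : 𝒵 ⥤ᵇ AlgSt.ofSp N) :
    Nonempty (e ≅ e') ↔ ∀ a, sec e a = sec e' a :=
  ⟨fun ⟨α⟩ a => sec_eq_of_iso α a, fun h => ⟨eqToIso (functor_ext_of_sec h)⟩⟩

/-- sections are compatible with morphisms lying over a given morphism of the base -/
lemma secAt_map_lift (e : 𝒵 ⥤ᵇ AlgSt.ofSp N) {X' X : 𝒵.obj} (Ψ : X' ⟶ X) {T' T : Over S}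
    (p : T' ⟶ T) (hΨ : 𝒵.p.IsHomLift p Ψ) (hX : 𝒵.p.obj X = T) (hX' : 𝒵.p.obj X' = T') :
    N.obj.map p.op (secAt (e.obj X) ((e.w_obj X).trans hX)) =
      secAt (e.obj X') ((e.w_obj X').trans hX') := by
  haveI : (Stk.EltObj.forget N.obj).IsHomLift p (e.map Ψ) :=
    BasedFunctor.preserves_isHomLift e p Ψ
  exact secAt_map_of_hom (e.map Ψ) p

end Sec

section Fp

variable {𝒳 : BasedCategory.{v₂, u₂} (Over S)} {Y M : Sp S} (f : 𝒳 ⥤ᵇ AlgSt.ofSp Y) (g : M ⟶ Y)

/-- the object of `ofSp M ×_{ofSp Y} 𝒳` attached to an object `x` of `𝒳` and a section of `M` over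
the base of `x` with the same image in `Y` -/
lemma mkFp_aux (x : 𝒳.obj) (m : M.obj.obj (op (𝒳.p.obj x))) (hm : g.hom.app _ m = sec f x) :
    secAt ((AlgSt.ofSpMap g).obj (⟨𝒳.p.obj x, m⟩ : Stk.EltObj M.obj))
      (show ((AlgSt.ofSpMap g).obj (⟨𝒳.p.obj x, m⟩ : Stk.EltObj M.obj)).base = (f.obj x).base from
        (f.w_obj x).symm) = (f.obj x).sec :=
  (secAt_eq_iff _).2 hm

/-- the isomorphism component of `mkFp` -/
def mkIso (x : 𝒳.obj) (m : M.obj.obj (op (𝒳.p.obj x))) (hm : g.hom.app _ m = sec f x) :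
    (AlgSt.ofSpMap g).obj (⟨𝒳.p.obj x, m⟩ : Stk.EltObj M.obj) ≅ f.obj x :=
  eltIso (show ((AlgSt.ofSpMap g).obj (⟨𝒳.p.obj x, m⟩ : Stk.EltObj M.obj)).base = (f.obj x).base from
    (f.w_obj x).symm) (mkFp_aux f g x m hm)

lemma mkIso_isHomLift (x : 𝒳.obj) (m : M.obj.obj (op (𝒳.p.obj x)))
    (hm : g.hom.app _ m = sec f x) :
    (Stk.EltObj.forget Y.obj).IsHomLift (𝟙 (𝒳.p.obj x)) (mkIso f g x m hm).hom :=
  eltIso_isHomLift _ _

def mkFp (x : 𝒳.obj) (m : M.obj.obj (op (𝒳.p.obj x))) (hm : g.hom.app _ m = sec f x) :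
    (FibCat.fp (AlgSt.ofSpMap g) f).obj :=
  ⟨⟨(⟨𝒳.p.obj x, m⟩ : Stk.EltObj M.obj), x, mkIso f g x m hm⟩, mkIso_isHomLift f g x m hm⟩

lemma sec_pr_mkFp (x : 𝒳.obj) (m : M.obj.obj (op (𝒳.p.obj x))) (hm : g.hom.app _ m = sec f x) :
    sec (FibCat.fpFst (AlgSt.ofSpMap g) f) (mkFp f g x m hm) = m :=
  secAt_rfl _

lemma mkFp_congr (x : 𝒳.obj) {m m' : M.obj.obj (op (𝒳.p.obj x))} (h : m = m')
    (hm : g.hom.app _ m = sec f x) (hm' : g.hom.app _ m' = sec f x) :
    mkFp f g x m hm = mkFp f g x m' hm' := by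
  subst h; rfl

lemma fp_ext {X X' : (FibCat.fp (AlgSt.ofSpMap g) f).obj} (h1 : X.obj.fst = X'.obj.fst)
    (h2 : X.obj.snd = X'.obj.snd) : X = X' := by
  obtain ⟨⟨a, b, i⟩, hp⟩ := X
  obtain ⟨⟨a', b', i'⟩, hp'⟩ := X'
  dsimp only at h1 h2
  subst h1
  subst h2
  have : i = i' := elt_iso_ext (T := a.base) i i' hp hp'
  subst this
  rfl

lemma exists_eq_mkFp (X : (FibCat.fp (AlgSt.ofSpMap g) f).obj) :
    ∃ x m hm, X = mkFp f g x m hm := by
  obtain ⟨⟨⟨T, m⟩, x, i⟩, hp⟩ := X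
  have hp' : (Stk.EltObj.forget Y.obj).IsHomLift (𝟙 T) i.hom := hp
  have hx : 𝒳.p.obj x = T :=
    (f.w_obj x).symm.trans (IsHomLift.codomain_eq (Stk.EltObj.forget Y.obj) (𝟙 T) i.hom)
  subst hx
  have e := secAt_eq_of_hom (T := 𝒳.p.obj x) i.hom
  have hm : g.hom.app _ m = sec f x :=
    (secAt_rfl ((AlgSt.ofSpMap g).obj ⟨𝒳.p.obj x, m⟩)).symm.trans e
  exact ⟨x, m, hm, fp_ext f g rfl rfl⟩

/-- reformulation of the factorisation property -/
lemma factor_iff {N : Sp S} (c : M ⟶ N) (φ : FibCat.fp (AlgSt.ofSpMap g) f ⥤ᵇ AlgSt.ofSp N) :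
    Nonempty (BasedFunctor.comp (FibCat.fpFst (AlgSt.ofSpMap g) f) (AlgSt.ofSpMap c) ≅ φ) ↔
      ∀ x m hm, c.hom.app _ m = sec φ (mkFp f g x m hm) := by
  rw [nonempty_iso_iff]
  constructor
  · intro h x m hm
    have h1 := h (mkFp f g x m hm)
    have h2 := sec_comp_ofPshMap (FibCat.fpFst (AlgSt.ofSpMap g) f) c.hom (mkFp f g x m hm)
    have h3 := congrArg (c.hom.app _) (sec_pr_mkFp f g x m hm)
    exact h3.symm.trans (h2.symm.trans h1)
  · intro h X
    obtain ⟨x, m, hm, rfl⟩ := exists_eq_mkFp f g X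
    have h2 := sec_comp_ofPshMap (FibCat.fpFst (AlgSt.ofSpMap g) f) c.hom (mkFp f g x m hm)
    have h3 := congrArg (c.hom.app _) (sec_pr_mkFp f g x m hm)
    exact h2.trans (h3.trans (h x m hm))

variable {M₁ : Sp S} (u : M₁ ⟶ M)

/-- the functor between 2-fibre products induced by a map of sheaves over `Y` -/
noncomputable def chartFun :
    FibCat.fp (AlgSt.ofSpMap (u ≫ g)) f ⥤ᵇ FibCat.fp (AlgSt.ofSpMap g) f :=
  fpMap (AlgSt.ofSpMap u) (BasedFunctor.id 𝒳) (BasedFunctor.id (AlgSt.ofSp Y))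
    (eqToIso (by apply basedFunctor_ext; rfl)) (eqToIso (by apply basedFunctor_ext; rfl))

lemma chartFun_obj_mkFp (x : 𝒳.obj) (t : M₁.obj.obj (op (𝒳.p.obj x)))
    (ht : (u ≫ g).hom.app _ t = sec f x) :
    (chartFun f g u).obj (mkFp f (u ≫ g) x t ht) = mkFp f g x (u.hom.app _ t) ht :=
  fp_ext f g rfl rfl

lemma sec_chartFun_mkFp {N : Sp S} (φ : FibCat.fp (AlgSt.ofSpMap g) f ⥤ᵇ AlgSt.ofSp N)
    (x : 𝒳.obj) (t : M₁.obj.obj (op (𝒳.p.obj x))) (ht : (u ≫ g).hom.app _ t = sec f x) :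
    sec (BasedFunctor.comp (chartFun f g u) φ) (mkFp f (u ≫ g) x t ht) =
      sec φ (mkFp f g x (u.hom.app _ t) ht) :=
  secAt_congr (congrArg φ.obj (chartFun_obj_mkFp f g u x t ht)) _ _

end Fp

section Main

variable {𝒳 : BasedCategory.{v₂, u₂} (Over S)} {Y M : Sp S} (f : 𝒳 ⥤ᵇ AlgSt.ofSp Y) (g : M ⟶ Y)

/-- The base change of `f` to an algebraic space `M` over `Y` is a categorical moduli space as soon
as its base changes to all affine étale charts of `M` are. -/
theorem isCatModuli_of_charts (h𝒳 : FibCat.IsFibGrpd 𝒳.p) (hM : IsAlgSpace M)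
    (H : ∀ k : AffEtChart M, AlgSt.IsCatModuli (FibCat.fpFst (AlgSt.ofSpMap (k.q ≫ g)) f)) :
    AlgSt.IsCatModuli (FibCat.fpFst (AlgSt.ofSpMap g) f) := by
  refine ⟨hM, fun N hN φ => ?_⟩
  have hNs : Presieve.IsSheaf (J S) N.obj := (isSheaf_iff_isSheaf_of_type _ _).1 N.property
  have hcov := jointLiftSieve_affEtChart_mem hM
  -- the maps on the charts
  have key : ∀ k : AffEtChart M, ∃! hk : (yon S).obj k.W ⟶ N, ∀ x t ht,
      hk.hom.app _ t = sec φ (mkFp f g x (k.q.hom.app _ t) ht) := by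
    intro k
    obtain ⟨hk, h1, h2⟩ := (H k).2 N hN (BasedFunctor.comp (chartFun f g k.q) φ)
    refine ⟨hk, ?_, fun hk' h' => h2 hk' ?_⟩
    · intro x t ht
      exact ((factor_iff f (k.q ≫ g) hk _).1 h1 x t ht).trans (sec_chartFun_mkFp f g k.q φ x t ht)
    · apply (factor_iff f (k.q ≫ g) hk' _).2
      intro x t ht
      exact (h' x t ht).trans (sec_chartFun_mkFp f g k.q φ x t ht).symm
  choose h hh using key
  -- compatibility with refinements of charts
  have hF : ∀ (k k'' : AffEtChart M) (w : k''.W ⟶ k.W), k''.q = (yon S).map w ≫ k.q →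
      (yon S).map w ≫ h k = h k'' := by
    intro k k'' w hw
    obtain ⟨W'', q'', ha, he⟩ := k''
    dsimp only at w hw
    subst hw
    apply (hh _).2
    intro x t ht
    exact (hh k).1 x (((yon S).map w).hom.app _ t) ht
  -- compatibility on overlaps
  have hOV : ∀ (T : Over S) (k k' : AffEtChart M) (τ : (yon S).obj T ⟶ (yon S).obj k.W)
      (τ' : (yon S).obj T ⟶ (yon S).obj k'.W), τ ≫ k.q = τ' ≫ k'.q → τ ≫ h k = τ' ≫ h k' := by
    intro T k k' τ τ' hτ
    have hr := k'.etale.rep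
    have sq := hr.isPullback k.q
    obtain ⟨r', hr'⟩ := (yon S).map_surjective (hr.fst k.q)
    haveI hsndE : Etale (hr.snd k.q).left := k'.etale.property_snd k.q
    have claim : hr.fst k.q ≫ h k' = (yon S).map (hr.snd k.q) ≫ h k := by
      apply hom_ext_affineOpens
      intro A
      have he : RepWith @Etale ((yon S).map (overOpenι (hr.pullback k.q) A.1 ≫ hr.snd k.q) ≫ k.q) := by
        refine repWith_comp_yon_map @Etale _ ?_ k.etale
        rw [Over.comp_left]
        haveI : Etale (overOpenι (hr.pullback k.q) A.1).left :=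
          inferInstanceAs (Etale A.1.ι)
        infer_instance
      let kA : AffEtChart M := ⟨overOpen (hr.pullback k.q) A.1,
        (yon S).map (overOpenι (hr.pullback k.q) A.1 ≫ hr.snd k.q) ≫ k.q, A.2, he⟩
      have e1 := hF k kA (overOpenι (hr.pullback k.q) A.1 ≫ hr.snd k.q) rfl
      have e2 := hF k' kA (overOpenι (hr.pullback k.q) A.1 ≫ r') (by
        show (yon S).map (overOpenι (hr.pullback k.q) A.1 ≫ hr.snd k.q) ≫ k.q = _
        rw [Functor.map_comp, Functor.map_comp, hr', Category.assoc, Category.assoc, sq.w])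
      rw [Functor.map_comp, Category.assoc] at e1
      rw [Functor.map_comp, hr', Category.assoc] at e2
      rw [e1, e2]
    have hz1 := sq.lift_fst τ' τ hτ.symm
    have hz2 := sq.lift_snd τ' τ hτ.symm
    have e1 : τ ≫ h k = sq.lift τ' τ hτ.symm ≫ (yon S).map (hr.snd k.q) ≫ h k := by
      rw [← Category.assoc, hz2]
    have e2 : τ' ≫ h k' = sq.lift τ' τ hτ.symm ≫ hr.fst k.q ≫ h k' := by
      rw [← Category.assoc, hz1]
    rw [e1, e2, claim]
  -- glue
  obtain ⟨c, hc⟩ := exists_desc_of_family (fun k : AffEtChart M => k.q) hcov h hOV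
  -- the glued map has the required property
  have hE : ∀ x m hm, c.hom.app _ m = sec φ (mkFp f g x m hm) := by
    intro x m hm
    have hfp : FibCat.IsFibGrpd (FibCat.fp (AlgSt.ofSpMap g) f).p :=
      X6401 _ _ (Stk.isFibGrpd_ofPsh _) h𝒳 (Stk.isFibGrpd_ofPsh _)
    apply (hNs _ (hcov _ ((yEquiv M _).symm m))).isSeparatedFor.ext
    rintro T' p ⟨k, τ, hτ⟩
    obtain ⟨X', Ψ, hΨ⟩ := exists_lift'' hfp p (mkFp f g x m hm) rfl
    obtain ⟨x', m', hm', rfl⟩ := exists_eq_mkFp f g X'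
    have hT' : 𝒳.p.obj x' = T' :=
      IsHomLift.domain_eq (FibCat.fp (AlgSt.ofSpMap g) f).p p Ψ
    subst hT'
    have A6 : N.obj.map p.op (sec φ (mkFp f g x m hm)) = sec φ (mkFp f g x' m' hm') :=
      secAt_map_lift φ Ψ p hΨ rfl rfl
    have A2' : M.obj.map p.op (sec (FibCat.fpFst (AlgSt.ofSpMap g) f) (mkFp f g x m hm)) =
        sec (FibCat.fpFst (AlgSt.ofSpMap g) f) (mkFp f g x' m' hm') :=
      secAt_map_lift (FibCat.fpFst (AlgSt.ofSpMap g) f) Ψ p hΨ rfl rfl
    have A2 : M.obj.map p.op m = m' := by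
      have e1 := sec_pr_mkFp f g x m hm
      have e2 := sec_pr_mkFp f g x' m' hm'
      exact (congrArg (M.obj.map p.op) e1).symm.trans (A2'.trans e2)
    have A3 : k.q.hom.app _ (yEquiv _ _ τ) = m' := by
      have := congrArg (yEquiv M _) hτ
      rw [yEquiv_comp, ← (J S).uliftYonedaEquiv_naturality, Equiv.apply_symm_apply] at this
      exact this.trans A2
    subst A3
    have A1 : N.obj.map p.op (c.hom.app _ m) = c.hom.app _ (M.obj.map p.op m) :=
      (NatTrans.naturality_apply c.hom p.op m).symm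
    have A4 := (hh k).1 x' (yEquiv _ _ τ) hm'
    have A5 : c.hom.app _ (k.q.hom.app _ (yEquiv _ _ τ)) = (h k).hom.app _ (yEquiv _ _ τ) :=
      congrArg (fun z => z.hom.app _ (yEquiv _ _ τ)) (hc k)
    exact A1.trans ((congrArg (c.hom.app _) A2).trans (A5.trans (A4.trans A6.symm)))
  -- uniqueness
  have hU : ∀ c' : M ⟶ N, (∀ x m hm, c'.hom.app _ m = sec φ (mkFp f g x m hm)) → c' = c := by
    intro c' hc'
    have h1 : ∀ k : AffEtChart M, k.q ≫ c' = h k := by
      intro k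
      apply (hh k).2
      intro x t ht
      exact hc' x (k.q.hom.app _ t) ht
    apply hom_ext_yon
    intro T ξ
    apply yon_hom_ext_of_mem_J (hcov T ξ)
    rintro T' p ⟨k, τ, hτ⟩
    rw [← Category.assoc, ← Category.assoc, ← hτ, Category.assoc, Category.assoc, h1 k, hc k]
  exact ⟨c, (factor_iff f g c φ).2 hE, fun c' hc' => hU c' ((factor_iff f g c' φ).1 hc')⟩

/-- a categorical moduli space after base change along the identity is one -/
theorem isCatModuli_of_id (hY : IsAlgSpace Y)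
    (h : AlgSt.IsCatModuli (FibCat.fpFst (AlgSt.ofSpMap (𝟙 Y)) f)) : AlgSt.IsCatModuli f := by
  refine ⟨hY, fun N hN φ => ?_⟩
  obtain ⟨c, h1, h2⟩ := h.2 N hN (BasedFunctor.comp (FibCat.fpSnd (AlgSt.ofSpMap (𝟙 Y)) f) φ)
  rw [factor_iff] at h1
  have key : ∀ c' : Y ⟶ N, Nonempty (BasedFunctor.comp f (AlgSt.ofSpMap c') ≅ φ) ↔
      ∀ x, c'.hom.app _ (sec f x) = sec φ x := by
    intro c'
    rw [nonempty_iso_iff]
    exact forall_congr' (fun x => by rw [sec_comp_ofPshMap])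
  refine ⟨c, (key c).2 fun x => ?_, fun c' hc' => h2 c' ?_⟩
  · exact h1 x (sec f x) rfl
  · apply (factor_iff f (𝟙 Y) c' _).2
    intro x m hm
    have hm' : m = sec f x := hm
    subst hm'
    exact (key c').1 hc' x

/-- **All affine flat base changes categorical moduli spaces ⇒ uniform categorical moduli
space.** -/
theorem isUnifCatModuli_of_affine (h𝒳 : FibCat.IsFibGrpd 𝒳.p) (hY : IsAlgSpace Y)
    (hf : ∀ (Y' : Over S), IsAffine Y'.left → ∀ (g : (yon S).obj Y' ⟶ Y), LocP @Flat g →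
      AlgSt.IsCatModuli (FibCat.fpFst (AlgSt.ofSpMap g) f)) :
    AlgSt.IsUnifCatModuli f := by
  have main : ∀ (M' : Sp S), IsAlgSpace M' → ∀ g : M' ⟶ Y, LocP @Flat g →
      AlgSt.IsCatModuli (FibCat.fpFst (AlgSt.ofSpMap g) f) := by
    intro M' hM' g hg
    apply isCatModuli_of_charts f g h𝒳 hM'
    intro k
    exact hf k.W k.affine (k.q ≫ g) (locP_comp_etale k.etale hg)
  exact ⟨isCatModuli_of_id f hY (main Y hY (𝟙 Y)
    (Groth.Agent.H3.AlgSpCov.locP_id etale_le_flat Y)), main⟩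

end Main

end Groth.Agent.H3.UnifCat
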